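import Mathlib

/-! Jordan block counts of nilpotent endomorphisms by ranks, and nilpotent shifts with prescribed blocks. -/

set_option autoImplicit false

namespace Cfsg.Agent.H99

section Delta

variable {F V : Type*} [Field F] [AddCommGroup V] [Module F V] [FiniteDimensional F V]

/-- The dimension of `N^j U`. -/
noncomputable def imDim (N : Module.End F V) (U : Submodule F V) (j : ℕ) : ℕ :=
  Module.finrank F ↥(U.map (N ^ j))

/-- The number of Jordan blocks of size `> j` of `N` on `U` (for `N` nilpotent and `U` invariant). -/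
noncomputable def blockDelta (N : Module.End F V) (U : Submodule F V) (j : ℕ) : ℕ :=
  Module.finrank F ↥(U.map (N ^ j) ⊓ LinearMap.ker N)

theorem imDim_zero (N : Module.End F V) (U : Submodule F V) : imDim N U 0 = Module.finrank F U := by
  have h : U.map (N ^ 0) = U := by ext x; simp
  rw [imDim, h]

theorem imDim_succ (N : Module.End F V) (U : Submodule F V) (j : ℕ) :
    imDim N U (j + 1) + blockDelta N U j = imDim N U j := by
  have h := LinearMap.finrank_range_add_finrank_ker (N.domRestrict (U.map (N ^ j)))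
  have h1 : LinearMap.range (N.domRestrict (U.map (N ^ j))) = U.map (N ^ (j + 1)) := by
    rw [LinearMap.range_domRestrict, ← Submodule.map_comp, pow_succ']
    rfl
  have h2 : Module.finrank F ↥(LinearMap.ker (N.domRestrict (U.map (N ^ j)))) = blockDelta N U j := by
    rw [LinearMap.ker_domRestrict, blockDelta]
    let K := LinearMap.ker N
    let M := U.map (N ^ j)
    exact (LinearEquiv.ofBijective
      ({ toFun := fun x => ⟨(x.1 : V), x.1.2, x.2⟩
         map_add' := fun x y => rfl
         map_smul' := fun c x => rfl } : ↥(K.submoduleOf M) →ₗ[F] ↥(M ⊓ K))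
      ⟨fun x y h => Subtype.ext (Subtype.ext (congrArg (fun z : ↥(M ⊓ K) => (z : V)) h)),
        fun y => ⟨⟨⟨y.1, y.2.1⟩, y.2.2⟩, rfl⟩⟩).finrank_eq
  rw [h1, h2] at h
  exact h

theorem blockDelta_anti (N : Module.End F V) (U : Submodule F V) (hU : U.map N ≤ U) (j : ℕ) :
    blockDelta N U (j + 1) ≤ blockDelta N U j := by
  apply Submodule.finrank_mono
  apply inf_le_inf_right
  rw [pow_succ, Module.End.mul_eq_comp, Submodule.map_comp]
  exact Submodule.map_mono hU

theorem map_pow_le (N : Module.End F V) (U : Submodule F V) (hU : U.map N ≤ U) (j : ℕ) : U.map (N ^ j) ≤ U := by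
  induction j with
  | zero => simp [Module.End.one_eq_id]
  | succ j ih =>
    rw [pow_succ', Module.End.mul_eq_comp, Submodule.map_comp]
    exact (Submodule.map_mono ih).trans hU

theorem imDim_add (N : Module.End F V) (U W : Submodule F V) (hU : U.map N ≤ U) (hW : W.map N ≤ W)
    (hd : Disjoint U W) (j : ℕ) : imDim N (U ⊔ W) j = imDim N U j + imDim N W j := by
  have h := Submodule.finrank_sup_add_finrank_inf_eq (U.map (N ^ j)) (W.map (N ^ j))
  have h0 : U.map (N ^ j) ⊓ W.map (N ^ j) = ⊥ :=
    disjoint_iff.1 (hd.mono (map_pow_le N U hU j) (map_pow_le N W hW j))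
  rw [h0, finrank_bot, add_zero, ← Submodule.map_sup] at h
  exact h

theorem blockDelta_add (N : Module.End F V) (U W : Submodule F V) (hU : U.map N ≤ U) (hW : W.map N ≤ W)
    (hd : Disjoint U W) (j : ℕ) : blockDelta N (U ⊔ W) j = blockDelta N U j + blockDelta N W j := by
  have h1 := imDim_succ N (U ⊔ W) j
  have h2 := imDim_succ N U j
  have h3 := imDim_succ N W j
  rw [imDim_add N U W hU hW hd, imDim_add N U W hU hW hd] at h1
  omega

/-- The Jordan partition of `N` on `U`, read off from the ranks. -/
noncomputable def blockParts (N : Module.End F V) (U : Submodule F V) (p : ℕ) : Multiset ℕ :=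
  ∑ j ∈ Finset.range p, Multiset.replicate (blockDelta N U j - blockDelta N U (j + 1)) (j + 1)

theorem count_blockParts_succ (N : Module.End F V) (U : Submodule F V) {p j : ℕ} (hj : j < p) :
    (blockParts N U p).count (j + 1) = blockDelta N U j - blockDelta N U (j + 1) := by
  rw [blockParts, Multiset.count_sum', Finset.sum_eq_single j]
  · simp
  · intro i _ hi
    rw [Multiset.count_replicate, if_neg (by omega)]
  · intro h
    exact absurd (Finset.mem_range.2 hj) h

theorem mem_blockParts (N : Module.End F V) (U : Submodule F V) {p b : ℕ} (hb : b ∈ blockParts N U p) :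
    0 < b ∧ b ≤ p := by
  rw [blockParts, Multiset.mem_sum] at hb
  obtain ⟨j, hj, hb⟩ := hb
  rw [Multiset.eq_of_mem_replicate hb]
  have := Finset.mem_range.1 hj
  omega

theorem sum_blockParts (N : Module.End F V) (U : Submodule F V) (hU : U.map N ≤ U) (p : ℕ) (hp : N ^ p = 0) :
    (blockParts N U p).sum = Module.finrank F U := by
  have key : ∀ P : ℕ, (∑ j ∈ Finset.range P, (blockDelta N U j - blockDelta N U (j + 1)) * (j + 1))
      + P * blockDelta N U P + imDim N U P = Module.finrank F U := by
    intro P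
    induction P with
    | zero => simp [imDim_zero]
    | succ P ih =>
      rw [Finset.sum_range_succ]
      have h1 := imDim_succ N U P
      obtain ⟨d, hd⟩ := Nat.exists_eq_add_of_le (blockDelta_anti N U hU P)
      rw [hd, Nat.add_sub_cancel_left]
      rw [hd] at ih h1
      linarith
  have h0 : imDim N U p = 0 := by simp [imDim, hp]
  have h0' : blockDelta N U p = 0 := by simp [blockDelta, hp]
  have h2 := key p
  rw [h0, h0', mul_zero, add_zero, add_zero] at h2
  rw [blockParts, ← h2]
  clear h2 key h0 h0'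
  induction Finset.range p using Finset.induction_on with
  | empty => simp
  | insert a s ha ih => rw [Finset.sum_insert ha, Finset.sum_insert ha, Multiset.sum_add, ih, Multiset.sum_replicate, smul_eq_mul]

/-- The Jordan partition of an invariant direct summand is part of the whole partition. -/
theorem blockParts_le (N : Module.End F V) (U W : Submodule F V) (hU : U.map N ≤ U) (hW : W.map N ≤ W)
    (hUW : IsCompl U W) (p : ℕ) : blockParts N U p ≤ blockParts N ⊤ p := by
  rw [Multiset.le_iff_count]
  intro b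
  by_cases hb : b ∈ blockParts N U p
  · obtain ⟨h1, h2⟩ := mem_blockParts N U hb
    obtain ⟨j, rfl⟩ : ∃ j, b = j + 1 := ⟨b - 1, by omega⟩
    rw [count_blockParts_succ N U (by omega), count_blockParts_succ N ⊤ (by omega), ← hUW.sup_eq_top,
      blockDelta_add N U W hU hW hUW.disjoint, blockDelta_add N U W hU hW hUW.disjoint]
    have := blockDelta_anti N U hU j
    have := blockDelta_anti N W hW j
    omega
  · rw [Multiset.count_eq_zero.2 hb]
    exact Nat.zero_le _

end Delta

section Shift

variable {F V : Type*} [Field F] [AddCommGroup V] [Module F V] [FiniteDimensional F V]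
  {L : ℕ} {m : Fin L → ℕ} (b : Module.Basis ((i : Fin L) × Fin (m i)) F V)

/-- The nilpotent endomorphism with blocks of sizes `m i` in the basis `b`. -/
noncomputable def shiftEnd : Module.End F V :=
  b.constr F fun x => if h : (x.2 : ℕ) + 1 < m x.1 then b ⟨x.1, ⟨_, h⟩⟩ else 0

theorem shiftEnd_pow_apply (x : (i : Fin L) × Fin (m i)) (j : ℕ) :
    (shiftEnd b ^ j) (b x) = if h : (x.2 : ℕ) + j < m x.1 then b ⟨x.1, ⟨_, h⟩⟩ else 0 := by
  induction j with
  | zero => simp [x.2.2]
  | succ j ih =>
    rw [pow_succ', Module.End.mul_apply, ih]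
    by_cases h : (x.2 : ℕ) + j < m x.1
    · rw [dif_pos h, shiftEnd, Module.Basis.constr_basis]
      by_cases h' : (x.2 : ℕ) + j + 1 < m x.1
      · rw [dif_pos h', dif_pos (show (x.2 : ℕ) + (j + 1) < m x.1 by omega)]
        rfl
      · rw [dif_neg h', dif_neg (show ¬ (x.2 : ℕ) + (j + 1) < m x.1 by omega)]
    · rw [dif_neg h, map_zero, dif_neg (show ¬ (x.2 : ℕ) + (j + 1) < m x.1 by omega)]

theorem shiftEnd_pow_eq_zero {p : ℕ} (hp : ∀ i, m i ≤ p) : shiftEnd b ^ p = 0 := by
  apply b.ext
  intro x
  rw [shiftEnd_pow_apply, dif_neg (show ¬ (x.2 : ℕ) + p < m x.1 by have := hp x.1; omega), LinearMap.zero_apply]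

theorem imDim_shiftEnd (j : ℕ) : imDim (shiftEnd b) ⊤ j = ∑ i, (m i - j) := by
  classical
  have h : (⊤ : Submodule F V).map (shiftEnd b ^ j) =
      Submodule.span F (b '' {x : (i : Fin L) × Fin (m i) | j ≤ (x.2 : ℕ)}) := by
    apply le_antisymm
    · rw [← b.span_eq, Submodule.map_span_le]
      rintro _ ⟨x, rfl⟩
      rw [shiftEnd_pow_apply]
      by_cases h : (x.2 : ℕ) + j < m x.1
      · rw [dif_pos h]
        exact Submodule.subset_span ⟨_, Nat.le_add_left _ _, rfl⟩
      · rw [dif_neg h]; exact Submodule.zero_mem _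
    · rw [Submodule.span_le]
      rintro _ ⟨⟨i, ⟨k, hk⟩⟩, hj, rfl⟩
      simp only [Set.mem_setOf_eq] at hj
      refine ⟨b ⟨i, ⟨k - j, by omega⟩⟩, Submodule.mem_top, ?_⟩
      rw [shiftEnd_pow_apply, dif_pos (show k - j + j < m i by omega)]
      simp [Nat.sub_add_cancel hj]
  rw [imDim, h]
  rw [Set.image_eq_range]
  refine (finrank_span_eq_card (b.linearIndependent.comp (fun x : {x : (i : Fin L) × Fin (m i) | j ≤ (x.2 : ℕ)} => x.val) Subtype.val_injective)).trans ?_
  rw [← Nat.card_eq_fintype_card]
  let e : {x : (i : Fin L) × Fin (m i) | j ≤ (x.2 : ℕ)} ≃ ((i : Fin L) × Fin (m i - j)) :=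
    { toFun := fun x => ⟨x.1.1, ⟨x.1.2 - j, by have := x.1.2.2; have := x.2; simp only [Set.mem_setOf_eq] at this; omega⟩⟩
      invFun := fun x => ⟨⟨x.1, ⟨x.2 + j, by omega⟩⟩, by simp⟩
      left_inv := by
        rintro ⟨⟨i, k⟩, hk⟩
        simp only [Set.mem_setOf_eq] at hk
        simp [Nat.sub_add_cancel hk]
      right_inv := by rintro ⟨i, k⟩; simp }
  rw [Nat.card_congr e, Nat.card_sigma]
  simp

theorem blockDelta_shiftEnd (j : ℕ) :
    blockDelta (shiftEnd b) ⊤ j = (Finset.univ.filter fun i => j < m i).card := by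
  have h := imDim_succ (shiftEnd b) (⊤ : Submodule F V) j
  rw [imDim_shiftEnd, imDim_shiftEnd] at h
  have h2 : ∑ i, (m i - (j + 1)) + (Finset.univ.filter fun i => j < m i).card = ∑ i, (m i - j) := by
    rw [Finset.card_filter, ← Finset.sum_add_distrib]
    apply Finset.sum_congr rfl
    intro i _
    split <;> omega
  omega

theorem blockParts_shiftEnd {p : ℕ} (hp : ∀ i, 0 < m i ∧ m i ≤ p) :
    blockParts (shiftEnd b) ⊤ p = Finset.univ.val.map m := by
  ext c
  by_cases hc : 0 < c ∧ c ≤ p
  · obtain ⟨j, rfl⟩ : ∃ j, c = j + 1 := ⟨c - 1, by omega⟩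
    rw [count_blockParts_succ _ _ (by omega), blockDelta_shiftEnd, blockDelta_shiftEnd, Multiset.count_map,
      ← Finset.filter_val, Finset.card_val]
    have hsub : (Finset.univ.filter fun i => j + 1 < m i) ⊆ Finset.univ.filter fun i => j < m i := by
      intro i; simp; omega
    rw [← Finset.card_sdiff_of_subset hsub]
    congr 1
    ext i
    simp
    omega
  · rw [Multiset.count_eq_zero.2 (fun h => hc (mem_blockParts _ _ h)), Multiset.count_eq_zero.2]
    simp only [Multiset.mem_map]
    rintro ⟨i, -, rfl⟩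
    exact hc (hp i)

end Shift

end Cfsg.Agent.H99
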