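import Mathlib
import Cfsg.Agent.H99.Jordan

/-! Every nilpotent endomorphism is a shift in a suitable basis. -/

set_option autoImplicit false

namespace Cfsg.Agent.H99

universe u v

variable {F : Type u} [Field F]

theorem exists_shift_basis {V : Type v} [AddCommGroup V] [Module F V] [FiniteDimensional F V] (N : Module.End F V)
    {p : ℕ} (hp : N ^ p = 0) :
    ∃ (L : ℕ) (m : Fin L → ℕ) (b : Module.Basis ((i : Fin L) × Fin (m i)) F V),
      (∀ i, 0 < m i ∧ m i ≤ p) ∧ shiftEnd b = N := by
  classical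
  induction hd : Module.finrank F V using Nat.strong_induction_on generalizing V with
  | _ d ih =>
  by_cases hV : ∀ x : V, x = 0
  · haveI : Subsingleton V := ⟨fun x y => (hV x).trans (hV y).symm⟩
    haveI : IsEmpty ((i : Fin 0) × Fin (Fin.elim0 i : ℕ)) := ⟨fun x => x.1.elim0⟩
    exact ⟨0, fun i => i.elim0, Module.Basis.empty V, fun i => i.elim0, Subsingleton.elim _ _⟩
  have hne : ∃ j, N ^ j = 0 := ⟨p, hp⟩
  set h := Nat.find hne with hh
  have hN : N ^ h = 0 := Nat.find_spec hne
  have hh0 : 0 < h := by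
    refine Nat.pos_of_ne_zero fun h0 => hV fun x => ?_
    rw [h0, pow_zero] at hN
    simpa using LinearMap.congr_fun hN x
  obtain ⟨v, hv⟩ : ∃ v, (N ^ (h - 1)) v ≠ 0 := by
    by_contra hno
    push Not at hno
    exact Nat.find_min hne (show h - 1 < Nat.find hne by omega) (LinearMap.ext hno)
  obtain ⟨φ, hφ⟩ : ∃ φ : Module.Dual F V, φ ((N ^ (h - 1)) v) ≠ 0 := by
    by_contra hno
    push Not at hno
    exact hv ((Module.forall_dual_apply_eq_zero_iff F _).1 hno)
  let T : V →ₗ[F] (Fin h → F) := LinearMap.pi fun j => φ ∘ₗ (N ^ (j : ℕ))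
  let S : (Fin h → F) →ₗ[F] V := Fintype.linearCombination F fun j : Fin h => (N ^ (j : ℕ)) v
  have hinj : Function.Injective (T ∘ₗ S) := by
    rw [← LinearMap.ker_eq_bot, LinearMap.ker_eq_bot']
    intro a ha
    by_contra hne'
    obtain ⟨j, hj⟩ := Function.ne_iff.1 hne'
    have hex : ∃ k, ∃ hk : k < h, a ⟨k, hk⟩ ≠ 0 := ⟨j, j.2, by simpa using hj⟩
    set k := Nat.find hex with hkdef
    obtain ⟨hk, hak⟩ := Nat.find_spec hex
    have h1 := congrFun ha ⟨h - 1 - k, by omega⟩
    simp only [LinearMap.comp_apply, T, S, LinearMap.pi_apply, Fintype.linearCombination_apply, map_sum, map_smul,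
      Pi.zero_apply, smul_eq_mul, ← Module.End.mul_apply, ← pow_add] at h1
    rw [Finset.sum_eq_single (⟨k, hk⟩ : Fin h)] at h1
    · rw [show h - 1 - k + k = h - 1 by omega] at h1
      exact hak ((mul_eq_zero.1 h1).resolve_right hφ)
    · intro i _ hi
      rcases lt_trichotomy (i : ℕ) k with hik | hik | hik
      · have := Nat.find_min hex hik
        push Not at this
        rw [this i.2, zero_mul]
      · exact absurd (Fin.ext hik) hi
      · rw [pow_eq_zero_of_le (show h ≤ h - 1 - k + (i : ℕ) by omega) hN, LinearMap.zero_apply, map_zero, mul_zero]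
    · simp
  have hsurj : Function.Surjective (T ∘ₗ S) := LinearMap.injective_iff_surjective.1 hinj
  have hTs : Function.Surjective T := fun a => by
    obtain ⟨b, hb⟩ := hsurj a; exact ⟨S b, hb⟩
  set W := LinearMap.ker T with hW
  have hWN : ∀ x ∈ W, N x ∈ W := by
    intro x hx
    rw [hW, LinearMap.mem_ker] at hx ⊢
    funext j
    simp only [T, LinearMap.pi_apply, LinearMap.comp_apply, Pi.zero_apply, ← Module.End.mul_apply, ← pow_succ]
    by_cases hj : (j : ℕ) + 1 < h
    · exact congrFun hx ⟨_, hj⟩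
    · rw [show (j : ℕ) + 1 = h by omega, hN]; simp
  have hrank : Module.finrank F W + h = Module.finrank F V := by
    have := LinearMap.finrank_range_add_finrank_ker T
    rw [LinearMap.range_eq_top.2 hTs, finrank_top, Module.finrank_pi, Fintype.card_fin] at this
    rw [hW]; omega
  obtain ⟨L, m, b, hm, hb⟩ := ih (Module.finrank F W) (by omega) (N.restrict hWN) (by
    apply LinearMap.ext
    intro x
    apply Subtype.ext
    rw [Module.End.pow_restrict p]
    simp [hp]) rfl
  let m' : Fin (L + 1) → ℕ := Fin.cons h m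
  let w : ((i : Fin (L + 1)) × Fin (m' i)) → V := fun x =>
    Fin.cases (motive := fun i => Fin (m' i) → V) (fun k => (N ^ (k : ℕ)) v) (fun i k => (b ⟨i, k⟩ : V)) x.1 x.2
  have hspan : ⊤ ≤ Submodule.span F (Set.range w) := by
    intro x _
    obtain ⟨a, ha⟩ := hsurj (T x)
    have hxW : x - S a ∈ W := by
      rw [hW, LinearMap.mem_ker, map_sub, sub_eq_zero]
      exact ha.symm
    have h2 : S a ∈ Submodule.span F (Set.range w) := by
      simp only [S, Fintype.linearCombination_apply]
      exact Submodule.sum_mem _ fun j _ => Submodule.smul_mem _ _ (Submodule.subset_span ⟨⟨0, j⟩, rfl⟩)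
    have h3 : x - S a ∈ Submodule.span F (Set.range w) := by
      have h4 := b.sum_repr (⟨x - S a, hxW⟩ : W)
      have h5 := congrArg Subtype.val h4
      simp only [AddSubmonoidClass.coe_finsetSum, SetLike.val_smul] at h5
      rw [← h5]
      exact Submodule.sum_mem _ fun i _ => Submodule.smul_mem _ _ (Submodule.subset_span ⟨⟨i.1.succ, i.2⟩, rfl⟩)
    simpa using Submodule.add_mem _ h3 h2
  have hcard : Fintype.card ((i : Fin (L + 1)) × Fin (m' i)) = Module.finrank F V := by
    rw [Fintype.card_sigma, ← hrank, Module.finrank_eq_card_basis b, Fintype.card_sigma, Fin.sum_univ_succ]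
    simp [m', add_comm]
  refine ⟨L + 1, m', basisOfTopLeSpanOfCardEqFinrank w hspan hcard, ?_, ?_⟩
  · refine Fin.cases ?_ ?_
    · exact ⟨hh0, Nat.find_min' hne hp⟩
    · exact fun i => by simpa [m'] using hm i
  · apply (basisOfTopLeSpanOfCardEqFinrank w hspan hcard).ext
    rintro ⟨i, k⟩
    rw [shiftEnd, Module.Basis.constr_basis, coe_basisOfTopLeSpanOfCardEqFinrank]
    revert k
    refine Fin.cases ?_ ?_ i
    · intro k
      have hw0 : N (w ⟨0, k⟩) = (N ^ ((k : ℕ) + 1)) v := by
        rw [pow_succ', Module.End.mul_apply]; rfl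
      rw [hw0]
      by_cases hk : (k : ℕ) + 1 < h
      · rw [dif_pos (show ((⟨0, k⟩ : (i : Fin (L + 1)) × Fin (m' i)).2 : ℕ) + 1 < m' 0 from hk)]
        rfl
      · have := k.2
        rw [dif_neg (show ¬ ((⟨0, k⟩ : (i : Fin (L + 1)) × Fin (m' i)).2 : ℕ) + 1 < m' 0 from hk),
          pow_eq_zero_of_le (show h ≤ (k : ℕ) + 1 by omega) hN, LinearMap.zero_apply]
    · intro i k
      have h6 := congrArg Subtype.val (LinearMap.congr_fun hb (b ⟨i, k⟩))
      rw [shiftEnd, Module.Basis.constr_basis, LinearMap.restrict_coe_apply] at h6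
      show (if h : (k : ℕ) + 1 < m i then w ⟨i.succ, ⟨_, h⟩⟩ else 0) = N (b ⟨i, k⟩ : V)
      rw [← h6]
      by_cases hk : (k : ℕ) + 1 < m i
      · rw [dif_pos hk, dif_pos hk]; rfl
      · rw [dif_neg hk, dif_neg hk]; rfl

end Cfsg.Agent.H99
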