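import Mathlib
import Cfsg.Prelude.Def_GeometricClasses

/-! Matrix representations of finite extension fields and the normalizer of a field subalgebra. -/

set_option autoImplicit false

namespace Cfsg.Agent.H99

open scoped MatrixGroups Matrix
open Cfsg.Geo

section Rep

variable {F : Type*} [Field F] {ι : Type} [Fintype ι] [DecidableEq ι] {L : Type*} [Field L] [Algebra F L]
  [FiniteDimensional F L]

/-- Coordinates adapted to a representation of a field by matrices. -/
theorem exists_field_coord (φ : L →ₐ[F] Matrix ι ι F) :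
    ∃ m, Module.finrank F L * m = Fintype.card ι ∧
      ∃ E : (Fin m → L) ≃ₗ[F] (ι → F), ∀ (l : L) (w : Fin m → L), E (l • w) = φ l *ᵥ E w := by
  let ρ : L →+* Module.End F (ι → F) :=
    ((Matrix.toLinAlgEquiv' : Matrix ι ι F ≃ₐ[F] _).toAlgHom.comp φ).toRingHom
  letI : Module L (ι → F) := Module.compHom (ι → F) ρ
  have hsmul : ∀ (l : L) (v : ι → F), l • v = φ l *ᵥ v := fun l v => rfl
  haveI hst : IsScalarTower F L (ι → F) := ⟨fun c l v => by
    rw [hsmul, hsmul, map_smul, Matrix.smul_mulVec]⟩
  haveI : Module.Finite L (ι → F) := Module.Finite.of_restrictScalars_finite F L (ι → F)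
  refine ⟨Module.finrank L (ι → F), ?_, ((Module.finBasis L (ι → F)).equivFun.symm.restrictScalars F), ?_⟩
  · exact (Module.finrank_mul_finrank F L (ι → F)).trans (Module.finrank_pi F)
  · intro l w
    exact map_smul (Module.finBasis L (ι → F)).equivFun.symm l w

/-- Two representations of a finite field are conjugate by a matrix of determinant one. -/
theorem exists_specialLinear_conj_algHom [Nonempty ι] [Finite F] (φ ψ : L →ₐ[F] Matrix ι ι F) :
    ∃ P : Matrix.SpecialLinearGroup ι F, ∀ l, φ l * (P : Matrix ι ι F) = (P : Matrix ι ι F) * ψ l := by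
  obtain ⟨m, hm, E, hE⟩ := exists_field_coord φ
  obtain ⟨m', hm', E', hE'⟩ := exists_field_coord ψ
  obtain rfl : m = m' := Nat.eq_of_mul_eq_mul_left Module.finrank_pos (hm.trans hm'.symm)
  haveI : Finite L := Module.finite_of_finite F
  have hm0 : 0 < m := by
    have := Fintype.card_pos (α := ι)
    rw [← hm] at this
    exact Nat.pos_of_ne_zero fun h => by rw [h, mul_zero] at this; omega
  let T : (ι → F) →ₗ[F] (ι → F) := (E'.symm.trans E).toLinearMap
  have hT : T.det ≠ 0 := (LinearEquiv.isUnit_det' (E'.symm.trans E)).ne_zero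
  obtain ⟨l0, hl0⟩ := FiniteField.norm_surjective F L T.det⁻¹
  let d : Fin m → L := Function.update 1 ⟨0, hm0⟩ l0
  let u : (Fin m → L) →ₗ[L] (Fin m → L) := Matrix.toLin' (Matrix.diagonal d)
  have hu : (u.restrictScalars F).det = T.det⁻¹ := by
    rw [LinearMap.det_restrictScalars, LinearMap.det_toLin', Matrix.det_diagonal,
      Finset.prod_update_of_mem (Finset.mem_univ _)]
    simpa using hl0
  let T' : (ι → F) →ₗ[F] (ι → F) := E.toLinearMap ∘ₗ u.restrictScalars F ∘ₗ E'.symm.toLinearMap
  have hT' : T'.det = 1 := by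
    have h1 : T' = T ∘ₗ (E'.toLinearMap ∘ₗ u.restrictScalars F ∘ₗ E'.symm.toLinearMap) := by
      apply LinearMap.ext; intro v; simp [T, T']
    rw [h1, LinearMap.det_comp, LinearMap.det_conj, hu, mul_inv_cancel₀ hT]
  refine ⟨⟨LinearMap.toMatrix' T', by rw [LinearMap.det_toMatrix', hT']⟩, fun l => ?_⟩
  apply Matrix.toLin'.injective
  apply LinearMap.ext
  intro v
  simp only [Matrix.toLin'_mul, LinearMap.comp_apply, Matrix.toLin'_toMatrix', Matrix.toLin'_apply]
  have h1 : E'.symm (ψ l *ᵥ v) = l • E'.symm v := by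
    apply E'.injective
    rw [hE']; simp
  simp [T', h1, hE]

/-- A semilinear matrix inducing a given automorphism of a represented field. -/
theorem exists_semilinear [Nonempty ι] (φ : L →ₐ[F] Matrix ι ι F) (α : L ≃ₐ[F] L) :
    ∃ g : GL ι F, (∀ l, (g : Matrix ι ι F) * φ l = φ (α l) * (g : Matrix ι ι F)) ∧
      (∀ k : ℕ, α ^ k = 1 → g ^ k = 1) ∧ ∃ v : ι → F, v ≠ 0 ∧ (g : Matrix ι ι F) *ᵥ v = v := by
  obtain ⟨m, hm, E, hE⟩ := exists_field_coord φ
  haveI : Nonempty (Fin m) := ⟨⟨0, Nat.pos_of_ne_zero fun h => by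
    have := Fintype.card_pos (α := ι)
    rw [← hm, h, mul_zero] at this
    omega⟩⟩
  let θ : (L ≃ₐ[F] L) →* GL ι F :=
    { toFun := fun β =>
        { val := LinearMap.toMatrix' (E.toLinearMap ∘ₗ β.toLinearMap.compLeft (Fin m) ∘ₗ E.symm.toLinearMap)
          inv := LinearMap.toMatrix' (E.toLinearMap ∘ₗ β.symm.toLinearMap.compLeft (Fin m) ∘ₗ E.symm.toLinearMap)
          val_inv := by
            rw [← LinearMap.toMatrix'_comp, ← LinearMap.toMatrix'_id]
            congr 1; apply LinearMap.ext; intro v; apply E.symm.injective; ext i; simp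
          inv_val := by
            rw [← LinearMap.toMatrix'_comp, ← LinearMap.toMatrix'_id]
            congr 1; apply LinearMap.ext; intro v; apply E.symm.injective; ext i; simp }
      map_one' := by
        apply Units.ext
        show LinearMap.toMatrix' _ = 1
        rw [← LinearMap.toMatrix'_id]
        congr 1; apply LinearMap.ext; intro v; apply E.symm.injective; ext i; simp
      map_mul' := fun β γ => by
        apply Units.ext
        show LinearMap.toMatrix' _ = LinearMap.toMatrix' _ * LinearMap.toMatrix' _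
        rw [← LinearMap.toMatrix'_comp]
        congr 1; apply LinearMap.ext; intro v; apply E.symm.injective; ext i; simp }
  refine ⟨θ α, fun l => ?_, fun k hk => by rw [← map_pow, hk, map_one],
    E (fun _ => 1), fun h => one_ne_zero (α := Fin m → L) (E.map_eq_zero_iff.1 h), ?_⟩
  swap
  · show LinearMap.toMatrix' _ *ᵥ _ = _
    rw [← Matrix.toLin'_apply, Matrix.toLin'_toMatrix']
    simp only [LinearMap.comp_apply, LinearEquiv.coe_coe, LinearEquiv.symm_apply_apply]
    congr 1
    funext i
    simp
  show LinearMap.toMatrix' _ * φ l = φ (α l) * LinearMap.toMatrix' _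
  apply Matrix.toLin'.injective
  apply LinearMap.ext
  intro v
  simp only [Matrix.toLin'_mul, LinearMap.comp_apply, Matrix.toLin'_toMatrix', Matrix.toLin'_apply]
  have h1 : E.symm (φ l *ᵥ v) = l • E.symm v := by
    apply E.injective
    rw [hE]; simp
  simp only [LinearEquiv.coe_coe, h1, ← hE]
  congr 1
  ext i
  simp

/-- Eigenspaces of semilinear matrices over an extension of prime degree. -/
theorem finrank_eigenspace_semilinear {r : ℕ} (hr : r.Prime) (hrK : Module.finrank F L = r)
    (φ : L →ₐ[F] Matrix ι ι F) (α : L ≃ₐ[F] L) (g : GL ι F)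
    (hα : ∀ l, (g : Matrix ι ι F) * φ l = φ (α l) * (g : Matrix ι ι F)) (c : F) :
    r ∣ Module.finrank F (LinearMap.ker (Matrix.toLin' (g : Matrix ι ι F) - c • LinearMap.id)) ∨
      r * Module.finrank F (LinearMap.ker (Matrix.toLin' (g : Matrix ι ι F) - c • LinearMap.id)) ≤ Fintype.card ι := by
  let ρ : L →+* Module.End F (ι → F) :=
    ((Matrix.toLinAlgEquiv' : Matrix ι ι F ≃ₐ[F] _).toAlgHom.comp φ).toRingHom
  letI : Module L (ι → F) := Module.compHom (ι → F) ρ
  have hsmul : ∀ (l : L) (v : ι → F), l • v = φ l *ᵥ v := fun l v => rfl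
  haveI hst : IsScalarTower F L (ι → F) := ⟨fun a l v => by
    rw [hsmul, hsmul, map_smul, Matrix.smul_mulVec]⟩
  haveI : Module.Finite L (ι → F) := Module.Finite.of_restrictScalars_finite F L (ι → F)
  set W := LinearMap.ker (Matrix.toLin' (g : Matrix ι ι F) - c • LinearMap.id) with hW
  have hmem : ∀ v, v ∈ W ↔ (g : Matrix ι ι F) *ᵥ v = c • v := fun v => by
    simp [hW, LinearMap.mem_ker, sub_eq_zero]
  have hgs : ∀ (l : L) (v : ι → F), (g : Matrix ι ι F) *ᵥ (l • v) = α l • ((g : Matrix ι ι F) *ᵥ v) := fun l v => by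
    rw [hsmul, hsmul, Matrix.mulVec_mulVec, Matrix.mulVec_mulVec, hα]
  by_cases hα1 : ∀ l, α l = l
  · left
    let W' : Submodule L (ι → F) :=
      { carrier := W
        add_mem' := fun ha hb => W.add_mem ha hb
        zero_mem' := W.zero_mem
        smul_mem' := fun l v hv => by
          rw [SetLike.mem_coe, hmem] at hv ⊢
          show _ = c • l • v
          rw [hgs, hα1, hv, smul_comm] }
    refine ⟨Module.finrank L W', ?_⟩
    rw [← hrK, Module.finrank_mul_finrank]
    rfl
  · right
    obtain ⟨l₀, hl₀⟩ := not_forall.1 hα1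
    have hfix : ∀ l : L, α l = l → ∃ a : F, algebraMap F L a = l := by
      intro l hl
      haveI := Subalgebra.isSimpleOrder_of_finrank_prime F L (hrK.symm ▸ hr)
      rcases IsSimpleOrder.eq_bot_or_eq_top (AlgHom.equalizer α.toAlgHom (AlgHom.id F L)) with h | h
      · have : l ∈ (⊥ : Subalgebra F L) := h ▸ hl
        exact Algebra.mem_bot.1 this
      · have : l₀ ∈ AlgHom.equalizer α.toAlgHom (AlgHom.id F L) := h ▸ Algebra.mem_top
        exact absurd this hl₀
    let bW := Module.finBasis F W
    set w : Fin (Module.finrank F W) → (ι → F) := fun i => (bW i : ι → F) with hw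
    have hwF : LinearIndependent F w := bW.linearIndependent.map' W.subtype (Submodule.ker_subtype _)
    have hgw : ∀ i, (g : Matrix ι ι F) *ᵥ w i = c • w i := fun i => (hmem _).1 (bW i).2
    have key : ∀ (s : Finset (Fin (Module.finrank F W))) (f : Fin (Module.finrank F W) → L),
        ∑ i ∈ s, f i • w i = 0 → ∀ i ∈ s, f i = 0 := by
      intro s
      induction s using Finset.induction_on with
      | empty => simp
      | insert j s hj ih =>
        intro f hf
        by_cases hfj : f j = 0
        · rw [Finset.sum_insert hj, hfj, zero_smul, zero_add] at hf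
          intro i hi
          rcases Finset.mem_insert.1 hi with rfl | hi
          · exact hfj
          · exact ih f hf i hi
        exfalso
        set f' : Fin (Module.finrank F W) → L := fun i => (f j)⁻¹ * f i with hf'
        have h0 : ∑ i ∈ insert j s, f' i • w i = 0 := by
          simp only [hf', mul_smul, ← Finset.smul_sum, hf, smul_zero]
        have hc0 : c ≠ 0 := by
          intro hc0
          have h1 := hgw j
          rw [hc0, zero_smul] at h1
          apply hwF.ne_zero j
          have h2 := congrArg (fun u => ((g⁻¹ : GL ι F) : Matrix ι ι F) *ᵥ u) h1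
          simpa [Matrix.mulVec_mulVec] using h2
        have h1 : ∑ i ∈ insert j s, α (f' i) • w i = 0 := by
          have h2 := congrArg (fun u => (g : Matrix ι ι F) *ᵥ u) h0
          simp only [Matrix.mulVec_sum, hgs, hgw, Matrix.mulVec_zero] at h2
          simp only [smul_comm _ c, ← Finset.smul_sum] at h2
          exact (smul_eq_zero.1 h2).resolve_left hc0
        have hj1 : f' j = 1 := inv_mul_cancel₀ hfj
        have h2 : ∑ i ∈ s, (α (f' i) - f' i) • w i = 0 := by
          have h3 := sub_eq_zero.2 (h1.trans h0.symm)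
          rw [← Finset.sum_sub_distrib, Finset.sum_insert hj, hj1, map_one, sub_self, zero_add] at h3
          simpa [sub_smul, Finset.sum_sub_distrib] using h3
        have h3 : ∀ i ∈ insert j s, ∃ a : F, algebraMap F L a = f' i := by
          intro i hi
          rcases Finset.mem_insert.1 hi with rfl | hi
          · exact ⟨1, by rw [hj1, map_one]⟩
          · exact hfix _ (sub_eq_zero.1 (ih _ h2 i hi))
        choose! a ha using h3
        have h4 : ∑ i ∈ insert j s, a i • w i = 0 := by
          rw [← h0]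
          exact Finset.sum_congr rfl fun i hi => by rw [← ha i hi, algebraMap_smul]
        have h5 := linearIndependent_iff'.1 hwF _ a h4 j (Finset.mem_insert_self _ _)
        have h6 := ha j (Finset.mem_insert_self _ _)
        rw [h5, map_zero, hj1] at h6
        exact zero_ne_one h6
    have hwK : LinearIndependent L w := linearIndependent_iff'.2 key
    have h7 := hwK.fintype_card_le_finrank
    rw [Fintype.card_fin] at h7
    calc r * Module.finrank F W ≤ r * Module.finrank L (ι → F) := Nat.mul_le_mul_left r h7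
      _ = Fintype.card ι := by rw [← hrK, Module.finrank_mul_finrank, Module.finrank_pi]


end Rep

section Normalizer

variable {F : Type*} [Field F] {ι : Type} [Fintype ι] [DecidableEq ι] {K : Subalgebra F (Matrix ι ι F)}

theorem isField_subalgebra [Nonempty ι] {r : ℕ} (hK : IsFieldSubalgebra r K) : IsField K where
  exists_pair_ne := ⟨0, 1, zero_ne_one⟩
  mul_comm x y := Subtype.ext (hK.comm x x.2 y y.2)
  mul_inv_cancel := by
    intro x hx
    obtain ⟨y, hy, hxy⟩ := hK.inv x x.2 fun h => hx (Subtype.ext h)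
    exact ⟨⟨y, hy⟩, Subtype.ext hxy⟩

theorem mem_normalizer_of_conj {g : GL ι F}
    (h : ∀ k ∈ K, ∃ k' ∈ K, (g : Matrix ι ι F) * k = k' * (g : Matrix ι ι F)) :
    g ∈ subalgebraNormalizer K := by
  let c : K →ₗ[F] K :=
    { toFun := fun k => ⟨(g : Matrix ι ι F) * k * ((g⁻¹ : GL ι F) : Matrix ι ι F), by
        obtain ⟨k', hk', he⟩ := h k k.2
        rwa [he, mul_assoc, Units.mul_inv, mul_one]⟩
      map_add' := fun x y => Subtype.ext (by simp [mul_add, add_mul])
      map_smul' := fun a x => Subtype.ext (by simp) }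
  have hinj : Function.Injective c := fun x y hxy => Subtype.ext (by
    simpa [c, mul_assoc] using congrArg (fun z : K => ((g⁻¹ : GL ι F) : Matrix ι ι F) * (z : Matrix ι ι F) * (g : Matrix ι ι F)) hxy)
  intro k
  constructor
  · intro hk; exact (c ⟨k, hk⟩).2
  · intro hk
    obtain ⟨x, hx⟩ := LinearMap.injective_iff_surjective.1 hinj ⟨_, hk⟩
    have h2 : (g : Matrix ι ι F) * (x : Matrix ι ι F) * ((g⁻¹ : GL ι F) : Matrix ι ι F) =
        (g : Matrix ι ι F) * k * ((g⁻¹ : GL ι F) : Matrix ι ι F) := congrArg Subtype.val hx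
    have h3 : (x : Matrix ι ι F) = k := by
      simpa [mul_assoc] using congrArg (fun z => ((g⁻¹ : GL ι F) : Matrix ι ι F) * z * (g : Matrix ι ι F)) h2
    exact h3 ▸ x.2

/-- An element of the normalizer induces an automorphism of the field. -/
theorem exists_algEquiv_of_mem_normalizer {g : GL ι F} (hg : g ∈ subalgebraNormalizer K) :
    ∃ α : K ≃ₐ[F] K, ∀ l : K, (g : Matrix ι ι F) * l = (α l : Matrix ι ι F) * (g : Matrix ι ι F) := by
  let c : K →ₐ[F] K :=
    { toFun := fun k => ⟨(g : Matrix ι ι F) * k * ((g⁻¹ : GL ι F) : Matrix ι ι F), (hg k).1 k.2⟩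
      map_one' := Subtype.ext (by simp)
      map_mul' := fun x y => Subtype.ext (by simp [mul_assoc])
      map_zero' := Subtype.ext (by simp)
      map_add' := fun x y => Subtype.ext (by simp [mul_add, add_mul])
      commutes' := fun a => Subtype.ext (by
        show (g : Matrix ι ι F) * (algebraMap F (Matrix ι ι F) a) * _ = algebraMap F (Matrix ι ι F) a
        rw [← Algebra.commutes, mul_assoc, Units.mul_inv, mul_one]) }
  have hinj : Function.Injective c := fun x y hxy => Subtype.ext (by
    simpa [c, mul_assoc] using congrArg (fun z : K => ((g⁻¹ : GL ι F) : Matrix ι ι F) * (z : Matrix ι ι F) * (g : Matrix ι ι F)) hxy)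
  have hbij : Function.Bijective c :=
    ⟨hinj, (LinearMap.injective_iff_surjective (f := c.toLinearMap)).1 hinj⟩
  refine ⟨AlgEquiv.ofBijective c hbij, fun l => ?_⟩
  show _ = ((g : Matrix ι ι F) * l * _) * (g : Matrix ι ι F)
  rw [mul_assoc, Units.inv_mul, mul_one]

/-- Eigenspaces of elements of the normalizer of a field subalgebra of prime degree. -/
theorem finrank_eigenspace_of_mem_normalizer [Nonempty ι] {r : ℕ} (hr : r.Prime) (hK : IsFieldSubalgebra r K)
    {g : GL ι F} (hg : g ∈ subalgebraNormalizer K) (c : F) :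
    r ∣ Module.finrank F (LinearMap.ker (Matrix.toLin' (g : Matrix ι ι F) - c • LinearMap.id)) ∨
      r * Module.finrank F (LinearMap.ker (Matrix.toLin' (g : Matrix ι ι F) - c • LinearMap.id)) ≤ Fintype.card ι := by
  obtain ⟨α, hα⟩ := exists_algEquiv_of_mem_normalizer hg
  letI := (isField_subalgebra hK).toField
  haveI : FiniteDimensional F K := FiniteDimensional.of_finrank_pos (by rw [hK.finrank_eq]; exact hr.pos)
  exact finrank_eigenspace_semilinear hr hK.finrank_eq K.val α g hα c

end Normalizer

section Irreducible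

open Polynomial

variable {F : Type*} [Field F] {ι : Type} [Fintype ι] [DecidableEq ι]

theorem exists_algHom_adjoinRoot (f : F[X]) (x : Matrix ι ι F) (h : aeval x f = 0) :
    ∃ φ : AdjoinRoot f →ₐ[F] Matrix ι ι F, φ (AdjoinRoot.root f) = x := by
  refine ⟨Ideal.Quotient.liftₐ _ (aeval x) fun a ha => ?_, ?_⟩
  · obtain ⟨y, rfl⟩ := Ideal.mem_span_singleton.1 ha
    rw [map_mul, h, zero_mul]
  · show aeval x (X : F[X]) = x
    exact aeval_X x

/-- Matrices annihilated by the same irreducible polynomial are conjugate by a matrix of determinant one. -/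
theorem exists_specialLinear_conj_of_irreducible [Nonempty ι] [Finite F] {f : F[X]} (hf : Irreducible f)
    {x y : Matrix ι ι F} (hx : aeval x f = 0) (hy : aeval y f = 0) :
    ∃ P : Matrix.SpecialLinearGroup ι F, x * (P : Matrix ι ι F) = (P : Matrix ι ι F) * y := by
  haveI : Fact (Irreducible f) := ⟨hf⟩
  haveI : FiniteDimensional F (AdjoinRoot f) := (AdjoinRoot.powerBasis hf.ne_zero).finite
  obtain ⟨φ, hφ⟩ := exists_algHom_adjoinRoot f x hx
  obtain ⟨ψ, hψ⟩ := exists_algHom_adjoinRoot f y hy
  obtain ⟨P, hP⟩ := exists_specialLinear_conj_algHom φ ψ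
  exact ⟨P, by rw [← hφ, ← hψ]; exact hP _⟩

/-- A field subalgebra over a finite field contains a root of any irreducible polynomial of dividing degree. -/
theorem exists_root_mem [Nonempty ι] [Finite F] {r : ℕ} {K : Subalgebra F (Matrix ι ι F)}
    (hK : IsFieldSubalgebra r K) {f : F[X]} (hf : Irreducible f) (hdeg : f.natDegree ∣ r) :
    ∃ y ∈ K, aeval y f = 0 := by
  haveI : Fact (Irreducible f) := ⟨hf⟩
  letI := (isField_subalgebra hK).toField
  haveI : Finite K := Finite.of_injective _ Subtype.val_injective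
  obtain ⟨e⟩ := FiniteField.nonempty_algHom_of_finrank_dvd (F := F) (K := AdjoinRoot f) (L := K)
    (by rw [(AdjoinRoot.powerBasis hf.ne_zero).finrank, AdjoinRoot.powerBasis_dim, hK.finrank_eq]; exact hdeg)
  refine ⟨K.val (e (AdjoinRoot.root f)), (e (AdjoinRoot.root f)).2, ?_⟩
  rw [aeval_algHom_apply, aeval_algHom_apply, AdjoinRoot.aeval_eq, AdjoinRoot.mk_self, map_zero, map_zero]

end Irreducible

end Cfsg.Agent.H99
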