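import Mathlib
import Cfsg.Agent.H99.FieldExt

/-! Matrices with a cyclic vector whose order divides the dimension. -/

set_option autoImplicit false

namespace Cfsg.Agent.H99

open scoped MatrixGroups Matrix
open Polynomial

variable {F : Type*} [Field F] {n : ℕ}

/-- `v` has linearly independent translates under `x`. -/
def IsCyclicVec (x : Matrix (Fin n) (Fin n) F) (v : Fin n → F) : Prop :=
  LinearIndependent F fun i : Fin n => (x ^ (i : ℕ)) *ᵥ v

/-- The permutation matrix of the cyclic shift. -/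
def shiftMat (F : Type*) [Field F] (n : ℕ) [NeZero n] : Matrix (Fin n) (Fin n) F :=
  Matrix.of fun i j => if i = j + 1 then 1 else 0

theorem exists_basis_matrix [NeZero n] {x : Matrix (Fin n) (Fin n) F} (hx : x ^ n = 1) {v : Fin n → F}
    (hv : IsCyclicVec x v) : ∃ B : Matrix (Fin n) (Fin n) F, B.det ≠ 0 ∧ x * B = B * shiftMat F n := by
  let B : Matrix (Fin n) (Fin n) F := Matrix.of fun r c => ((x ^ (c : ℕ)) *ᵥ v) r
  refine ⟨B, ?_, ?_⟩
  · exact ((Matrix.isUnit_iff_isUnit_det B).1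
      (Matrix.linearIndependent_cols_iff_isUnit.1 (show LinearIndependent F B.col from hv))).ne_zero
  · ext r c
    have h1 : (B * shiftMat F n) r c = B r (c + 1) := by
      simp [Matrix.mul_apply, shiftMat]
    have h2 : x ^ ((c + 1 : Fin n) : ℕ) = x ^ ((c : ℕ) + 1) := by
      rw [Fin.val_add, Fin.val_one', Nat.add_mod_mod, ← pow_eq_pow_mod _ hx]
    rw [h1]
    show (x * B) r c = ((x ^ ((c + 1 : Fin n) : ℕ)) *ᵥ v) r
    rw [h2, pow_succ', ← Matrix.mulVec_mulVec]
    rfl

/-- Matrices of order dividing the dimension with cyclic vectors are conjugate by a matrix of determinant one. -/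
theorem exists_conj_of_cyclic [NeZero n] (hn : (n : F) ≠ 0) {x y : Matrix (Fin n) (Fin n) F} (hx : x ^ n = 1)
    (hy : y ^ n = 1) {v w : Fin n → F} (hv : IsCyclicVec x v) (hw : IsCyclicVec y w) :
    ∃ P : Matrix.SpecialLinearGroup (Fin n) F, x * (P : Matrix (Fin n) (Fin n) F) = (P : Matrix (Fin n) (Fin n) F) * y := by
  obtain ⟨Bx, hBx, hxB⟩ := exists_basis_matrix hx hv
  obtain ⟨By, hBy, hyB⟩ := exists_basis_matrix hy hw
  set C := shiftMat F n with hC
  set c : F := By.det / Bx.det with hc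
  let J : Matrix (Fin n) (Fin n) F := Matrix.of fun _ _ => 1
  let t : F := (c - 1) / n
  let M : Matrix (Fin n) (Fin n) F := 1 + t • J
  have hM : M.det = By.det / Bx.det := by
    have h1 : M = 1 + Matrix.replicateCol Unit (fun _ : Fin n => t) * Matrix.replicateRow Unit (fun _ : Fin n => (1 : F)) := by
      ext i j; simp [M, J, Matrix.mul_apply]
    rw [h1, Matrix.det_one_add_replicateCol_mul_replicateRow]
    simp only [dotProduct, one_mul, Finset.sum_const, Finset.card_univ, Fintype.card_fin, nsmul_eq_mul, t]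
    field_simp
    simp only [hc]
    field_simp
    ring
  have hMC : C * M = M * C := by
    have h1 : C * J = J := by
      ext i j
      simp only [hC, Matrix.mul_apply, shiftMat, Matrix.of_apply, J, mul_one]
      rw [Finset.sum_eq_single (i - 1)] <;> simp +contextual [eq_sub_iff_add_eq, eq_comm]
    have h2 : J * C = J := by
      ext i j
      simp [hC, Matrix.mul_apply, shiftMat, J]
    simp only [M, mul_add, add_mul, mul_one, one_mul, Matrix.mul_smul, Matrix.smul_mul, h1, h2]
  refine ⟨⟨Bx * M * By⁻¹, by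
    rw [Matrix.det_mul, Matrix.det_mul, hM, Matrix.det_nonsing_inv, Ring.inverse_eq_inv]
    field_simp⟩, ?_⟩
  show x * (Bx * M * By⁻¹) = (Bx * M * By⁻¹) * y
  have hy' : By⁻¹ * y = C * By⁻¹ := by
    have hu : IsUnit By.det := hBy.isUnit
    calc By⁻¹ * y = By⁻¹ * (y * By) * By⁻¹ := by rw [mul_assoc By⁻¹, mul_assoc y, Matrix.mul_nonsing_inv _ hu, mul_one]
      _ = C * By⁻¹ := by rw [hyB, ← mul_assoc By⁻¹, Matrix.nonsing_inv_mul _ hu, one_mul]
  calc x * (Bx * M * By⁻¹) = (x * Bx) * M * By⁻¹ := by simp [mul_assoc]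
    _ = Bx * (C * M) * By⁻¹ := by rw [hxB]; simp [mul_assoc]
    _ = (Bx * M * By⁻¹) * y := by rw [hMC]; simp [mul_assoc, hy']

/-- A semilinear matrix of a field of full degree has a cyclic vector. -/
theorem exists_cyclicVec_semilinear {L : Type*} [Field L] [Algebra F L] [Finite L] [Fintype F]
    (hL : Module.finrank F L = n) (φ : L →ₐ[F] Matrix (Fin n) (Fin n) F) {g : Matrix (Fin n) (Fin n) F}
    (hg : ∀ l, g * φ l = φ (FiniteField.frobeniusAlgEquivOfAlgebraic F L l) * g)
    {v₀ : Fin n → F} (hv₀ : v₀ ≠ 0) (hfix : g *ᵥ v₀ = v₀) : ∃ v, IsCyclicVec g v := by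
  haveI : FiniteDimensional F L := Module.Finite.of_finite
  obtain ⟨θ, hθ⟩ := exists_linearIndependent_algEquiv_apply F L
  refine ⟨φ θ *ᵥ v₀, ?_⟩
  set α := FiniteField.frobeniusAlgEquivOfAlgebraic F L with hα
  have hpow : ∀ i : ℕ, (g ^ i) *ᵥ (φ θ *ᵥ v₀) = φ ((α ^ i) θ) *ᵥ v₀ := by
    intro i
    induction i with
    | zero => simp
    | succ i ih =>
      rw [pow_succ', ← Matrix.mulVec_mulVec, ih, Matrix.mulVec_mulVec, hg, ← Matrix.mulVec_mulVec, hfix, pow_succ',
        AlgEquiv.mul_apply]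
  let T : L →ₗ[F] (Fin n → F) :=
    { toFun := fun l => φ l *ᵥ v₀
      map_add' := fun a b => by simp [Matrix.add_mulVec]
      map_smul' := fun a b => by simp [Matrix.smul_mulVec] }
  have hT : LinearMap.ker T = ⊥ := by
    rw [LinearMap.ker_eq_bot']
    intro l hl
    by_contra hl0
    apply hv₀
    have := congrArg (fun u => φ l⁻¹ *ᵥ u) (show φ l *ᵥ v₀ = 0 from hl)
    simpa [Matrix.mulVec_mulVec, ← map_mul, inv_mul_cancel₀ hl0] using this
  have h1 := hθ.comp (fun i : Fin n => α ^ (i : ℕ)) (by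
    intro i j hij
    have := (FiniteField.bijective_frobeniusAlgEquivOfAlgebraic_pow F L).1 (a₁ := finCongr hL.symm i)
      (a₂ := finCongr hL.symm j) hij
    simpa using this)
  have h2 := h1.map' T hT
  unfold IsCyclicVec
  rw [show (fun i : Fin n => (g ^ (i : ℕ)) *ᵥ (φ θ *ᵥ v₀)) = T ∘ (fun σ : L ≃ₐ[F] L => σ θ) ∘ fun i : Fin n => α ^ (i : ℕ) from
    funext fun i => hpow i]
  exact h2

/-- An element of prime order `n` in dimension `n` has a cyclic vector when the cyclotomic polynomial is irreducible. -/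
theorem exists_cyclicVec_of_irreducible [Fintype F] (hn : n.Prime) (hn3 : 3 ≤ n) (hnF : (n : F) ≠ 0)
    (hirr : Irreducible (cyclotomic n F)) {x : Matrix (Fin n) (Fin n) F} (hx : x ^ n = 1) (hx1 : x ≠ 1) :
    ∃ v, IsCyclicVec x v := by
  haveI : Fact n.Prime := ⟨hn⟩
  haveI : Nonempty (Fin n) := ⟨⟨0, hn.pos⟩⟩
  set f : Module.End F (Fin n → F) := Matrix.toLinAlgEquiv' x with hf
  set Φ := cyclotomic n F with hΦ
  have hmul : Φ * (X - C 1) = X ^ n - 1 := by rw [map_one]; exact cyclotomic_prime_mul_X_sub_one F n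
  have hdeg : Φ.natDegree = n - 1 := by rw [hΦ, natDegree_cyclotomic, Nat.totient_prime hn]
  have hPhi1 : Φ.eval 1 = (n : F) := eval_one_cyclotomic_prime
  have hcop : IsCoprime Φ (X - C 1) := by
    refine hirr.coprime_iff_not_dvd.2 fun h => ?_
    have := natDegree_le_of_dvd h (X_sub_C_ne_zero 1)
    rw [hdeg, natDegree_X_sub_C] at this
    omega
  have hfn : aeval f (Φ * (X - C 1)) = 0 := by
    rw [hmul, map_sub, map_pow, aeval_X, map_one, hf, ← map_pow, hx, map_one, sub_self]
  have hsup := sup_ker_aeval_eq_ker_aeval_mul_of_coprime f hcop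
  rw [hfn, LinearMap.ker_zero] at hsup
  have hdisj := disjoint_ker_aeval_of_isCoprime f hcop
  obtain ⟨w, hw, hw0⟩ : ∃ w, w ∈ LinearMap.ker (aeval f Φ) ∧ w ≠ 0 := by
    refine (Submodule.ne_bot_iff _).1 fun h => ?_
    rw [h, bot_sup_eq, LinearMap.ker_eq_top, map_sub, aeval_X, aeval_C, map_one, sub_eq_zero] at hsup
    exact hx1 (Matrix.toLinAlgEquiv'.injective (by rw [map_one]; exact hsup))
  obtain ⟨u, hu, hu0⟩ : ∃ u, u ∈ LinearMap.ker (aeval f (X - C (1 : F))) ∧ u ≠ 0 := by
    refine (Submodule.ne_bot_iff _).1 fun h => ?_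
    rw [h, sup_bot_eq, LinearMap.ker_eq_top, hf, aeval_algHom_apply, map_eq_zero_iff _ Matrix.toLinAlgEquiv'.injective] at hsup
    haveI : Fact (Irreducible Φ) := ⟨hirr⟩
    haveI : FiniteDimensional F (AdjoinRoot Φ) := (AdjoinRoot.powerBasis hirr.ne_zero).finite
    obtain ⟨φ, -⟩ := exists_algHom_adjoinRoot Φ x hsup
    obtain ⟨m, hm, -⟩ := exists_field_coord φ
    rw [(AdjoinRoot.powerBasis hirr.ne_zero).finrank, AdjoinRoot.powerBasis_dim, hdeg, Fintype.card_fin] at hm
    have h1 : n - 1 ∣ n := ⟨m, hm.symm⟩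
    rcases (Nat.dvd_prime hn).1 h1 with h2 | h2 <;> omega
  refine ⟨u + w, Fintype.linearIndependent_iff.2 fun a ha => ?_⟩
  set g : F[X] := ∑ i : Fin n, C (a i) * X ^ (i : ℕ) with hg
  have hgv : aeval f g (u + w) = 0 := by
    rw [← ha, hg, map_sum, LinearMap.sum_apply]
    refine Finset.sum_congr rfl fun i _ => ?_
    rw [map_mul, map_pow, aeval_C, aeval_X, hf, ← map_pow, Module.End.mul_apply, Module.algebraMap_end_apply]
    rfl
  have hstab : ∀ (P : F[X]) (z : Fin n → F), z ∈ LinearMap.ker (aeval f P) → aeval f g z ∈ LinearMap.ker (aeval f P) := by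
    intro P z hz
    rw [LinearMap.mem_ker] at hz ⊢
    rw [← Module.End.mul_apply, ← map_mul, mul_comm, map_mul, Module.End.mul_apply, hz, map_zero]
  have hgu : aeval f g u = 0 ∧ aeval f g w = 0 := by
    rw [map_add] at hgv
    have h1 : aeval f g u ∈ LinearMap.ker (aeval f Φ) := by
      rw [eq_neg_of_add_eq_zero_left hgv]
      exact Submodule.neg_mem _ (hstab _ _ hw)
    have h2 := Submodule.disjoint_def.1 hdisj _ h1 (hstab _ _ hu)
    exact ⟨h2, by simpa [h2] using hgv⟩
  have hdvd1 : (X - C 1) ∣ g := by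
    rw [dvd_iff_isRoot, IsRoot]
    have h1 : aeval f g u = g.eval 1 • u := by
      apply Module.End.aeval_apply_of_mem_apply_eq_smul
      rw [LinearMap.mem_ker, map_sub, aeval_X, aeval_C, LinearMap.sub_apply, Module.algebraMap_end_apply,
        sub_eq_zero] at hu
      exact hu
    rw [hgu.1] at h1
    exact (smul_eq_zero.1 h1.symm).resolve_right hu0
  have hdvd2 : Φ ∣ g := by
    by_contra h
    obtain ⟨a', b', hab⟩ := (hirr.coprime_iff_not_dvd.2 h).symm
    apply hw0
    have h1 := congrArg (fun P => aeval f P w) hab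
    simp only [map_add, map_mul, LinearMap.add_apply, Module.End.mul_apply, hgu.2, LinearMap.mem_ker.1 hw, map_zero,
      add_zero, map_one, Module.End.one_apply] at h1
    exact h1.symm
  have hdvd : X ^ n - 1 ∣ g := hmul ▸ hcop.mul_dvd hdvd2 hdvd1
  have hg0 : g = 0 := by
    by_contra hg0
    have h1 := natDegree_le_of_dvd hdvd hg0
    rw [← map_one C, natDegree_X_pow_sub_C] at h1
    have h2 : g.natDegree ≤ n - 1 := natDegree_sum_le_of_forall_le _ _ fun i _ =>
      (natDegree_C_mul_X_pow_le _ _).trans (by omega)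
    omega
  intro i
  have h3 := congrArg (fun P => coeff P (i : ℕ)) hg0
  simpa [hg, finsetSum_coeff, Fin.val_inj] using h3

theorem irreducible_cyclotomic_of_orderOf [Fintype F] (p : ℕ) [Fact p.Prime] [CharP F p] (hn : n.Prime) (hnp : n ≠ p)
    (h : orderOf ((Fintype.card F : ℕ) : ZMod n) = n - 1) : Irreducible (cyclotomic n F) := by
  obtain ⟨f, -, hf⟩ := FiniteField.card F p
  have hco : p.Coprime n := (Nat.coprime_primes Fact.out hn).2 (Ne.symm hnp)
  refine irreducible_of_dvd_cyclotomic_of_natDegree hf hco dvd_rfl ?_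
  rw [natDegree_cyclotomic, Nat.totient_prime hn, ← h, ← orderOf_units, ZMod.coe_unitOfCoprime, hf]

end Cfsg.Agent.H99
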