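import Mathlib
import Cfsg.Prelude.Def_GeometricClasses

/-! Diagonalisable matrices are diagonalised by matrices of determinant one. -/

set_option autoImplicit false

namespace Cfsg.Agent.H99

open Polynomial
open scoped MatrixGroups

variable {F : Type*} [Field F]

theorem exists_eigenbasis {V : Type*} [AddCommGroup V] [Module F V] [FiniteDimensional F V]
    (f : Module.End F V) (s : Finset F) (h : aeval f (∏ c ∈ s, (X - C c)) = 0) :
    ∃ (e : Fin (Module.finrank F V) → F) (b : Module.Basis (Fin (Module.finrank F V)) F V),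
      (∀ i, e i ∈ s) ∧ ∀ i, f (b i) = e i • b i := by
  classical
  let E : Set V := {v | ∃ c ∈ s, f v = c • v}
  have key : ∀ t : Finset F, t ⊆ s → LinearMap.ker (aeval f (∏ c ∈ t, (X - C c))) ≤ Submodule.span F E := by
    intro t
    induction t using Finset.induction_on with
    | empty =>
      intro _ v hv
      rw [Finset.prod_empty, map_one, LinearMap.mem_ker, Module.End.one_apply] at hv
      rw [hv]; exact Submodule.zero_mem _
    | insert a t ha ih =>
      intro hts
      rw [Finset.prod_insert ha, ← sup_ker_aeval_eq_ker_aeval_mul_of_coprime f ?_]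
      · refine sup_le (fun v hv => Submodule.subset_span ⟨a, hts (Finset.mem_insert_self _ _), ?_⟩)
          (ih fun c hc => hts (Finset.mem_insert_of_mem hc))
        rw [LinearMap.mem_ker, map_sub, aeval_X, aeval_C, LinearMap.sub_apply, Module.algebraMap_end_apply, sub_eq_zero] at hv
        exact hv
      · exact IsCoprime.prod_right fun c hc => isCoprime_X_sub_C_of_isUnit_sub
          (sub_ne_zero.2 (show a ≠ c from fun hac => ha (by rw [hac]; exact hc))).isUnit
  have htop : ⊤ ≤ Submodule.span F E := by
    have := key s subset_rfl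
    rwa [h, LinearMap.ker_zero] at this
  have hempty : LinearIndepOn F id (∅ : Set V) := linearIndepOn_empty F id
  set B : Set V := hempty.extend (Set.empty_subset E)
  have hli : LinearIndepOn F id B := hempty.linearIndepOn_extend _
  have hspan : ⊤ ≤ Submodule.span F (Set.range ((↑) : B → V)) := by
    rw [Subtype.range_coe_subtype]
    show ⊤ ≤ Submodule.span F B
    rw [hempty.span_extend_eq_span]
    exact htop
  have hli' : LinearIndependent F ((↑) : B → V) := hli
  let b0 : Module.Basis B F V := Module.Basis.mk hli' hspan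
  let b := b0.reindex (b0.indexEquiv (Module.finBasis F V))
  have hb : ∀ i, ∃ c ∈ s, f (b i) = c • b i := by
    intro i
    have : b i ∈ E := by
      simp only [b, Module.Basis.reindex_apply, b0, Module.Basis.mk_apply]
      exact hempty.extend_subset (Set.empty_subset E) (((b0.indexEquiv (Module.finBasis F V)).symm i).2)
    exact this
  choose e he1 he2 using hb
  exact ⟨e, b, he1, he2⟩

theorem exists_det_one_diagonal_of_basis {ι : Type} [Fintype ι] [DecidableEq ι] [Nonempty ι] (M : Matrix ι ι F) (e : ι → F)
    (b : Module.Basis ι F (ι → F)) (hb : ∀ i, Matrix.mulVec M (b i) = e i • b i) :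
    ∃ P : GL ι F, (P : Matrix ι ι F).det = 1 ∧ M * (P : Matrix ι ι F) = (P : Matrix ι ι F) * Matrix.diagonal e := by
  obtain ⟨i0⟩ := ‹Nonempty ι›
  let B : Matrix ι ι F := Matrix.of fun r c => b c r
  have hB : IsUnit B.det := by
    have h2 : B = (Pi.basisFun F ι).toMatrix b := by ext r c; simp [B, Module.Basis.toMatrix_apply]
    rw [h2]
    exact ((Pi.basisFun F ι).is_basis_iff_det.1 ⟨b.linearIndependent, b.span_eq⟩)
  let d : ι → F := Function.update 1 i0 B.det⁻¹
  let P : Matrix ι ι F := B * Matrix.diagonal d
  have hP : P.det = 1 := by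
    simp only [P, Matrix.det_mul, Matrix.det_diagonal, d]
    rw [Finset.prod_update_of_mem (Finset.mem_univ _)]
    simp [hB.ne_zero]
  refine ⟨Matrix.GeneralLinearGroup.mkOfDetNeZero P (by rw [hP]; exact one_ne_zero), hP, ?_⟩
  show M * P = P * Matrix.diagonal e
  ext r c
  simp only [P]
  rw [← mul_assoc, Matrix.mul_diagonal, mul_assoc, Matrix.diagonal_mul_diagonal, Matrix.mul_diagonal]
  have := congrFun (hb c) r
  simp only [Pi.smul_apply, smul_eq_mul] at this
  show (M * B) r c * d c = B r c * (d c * e c)
  rw [show (M * B) r c = Matrix.mulVec M (b c) r from rfl, this]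
  show e c * b c r * d c = b c r * (d c * e c)
  ring

/-- A matrix annihilated by a product of distinct linear factors can be conjugated to a diagonal matrix by a matrix of
determinant one, in any chosen order of the eigenvalues. -/
theorem exists_specialLinear_conj_diagonal {n : ℕ} [NeZero n] (x : GL (Fin n) F) (s : Finset F)
    (h : aeval (x : Matrix (Fin n) (Fin n) F) (∏ c ∈ s, (X - C c)) = 0) :
    ∃ e : Fin n → F, (∀ i, e i ∈ s) ∧ ∀ σ : Equiv.Perm (Fin n), ∃ P ∈ Cfsg.Geo.specialLinear (Fin n) F,
      ((P⁻¹ * x * P : GL (Fin n) F) : Matrix (Fin n) (Fin n) F) = Matrix.diagonal (e ∘ σ) := by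
  have hf : aeval (Matrix.toLinAlgEquiv' (x : Matrix (Fin n) (Fin n) F)) (∏ c ∈ s, (X - C c)) = 0 := by
    rw [aeval_algHom_apply, h, map_zero]
  obtain ⟨e, b, he, hb⟩ := exists_eigenbasis _ s hf
  have hn : Module.finrank F (Fin n → F) = n := by simp
  refine ⟨fun i => e ((finCongr hn.symm) i), fun i => he _, fun σ => ?_⟩
  obtain ⟨P, hP, hPx⟩ := exists_det_one_diagonal_of_basis (x : Matrix (Fin n) (Fin n) F)
    (fun i => e ((finCongr hn.symm) (σ i))) (b.reindex ((finCongr hn).trans σ.symm)) (by
      intro i
      rw [Module.Basis.reindex_apply]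
      have := hb ((finCongr hn.symm) (σ i))
      rw [Matrix.toLinAlgEquiv'_apply] at this
      exact this)
  refine ⟨P, ?_, ?_⟩
  · rw [Cfsg.Geo.specialLinear, MonoidHom.mem_ker, ← Units.val_inj]
    simpa using hP
  · rw [Units.val_mul, Units.val_mul, mul_assoc, hPx, ← mul_assoc, ← Units.val_mul, inv_mul_cancel, Units.val_one, one_mul]
    rfl

end Cfsg.Agent.H99
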