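import Mathlib
import Cfsg.Agent.Symplectic.AutPoints
import Cfsg.Agent.H58.PSLCentralizer

/-!
Field automorphisms of `PSp`: cosets, centralisers and class splitting.
-/

set_option autoImplicit false
set_option linter.unusedSectionVars false

namespace Cfsg.Agent.H99.SympField

open Matrix Cfsg.Agent.Symplectic Cfsg.Agent.H58.Twist
open Cfsg.Agent.H58.Descent (umap umap_coe fixedField mem_fixedField)

variable {m : ℕ} {F : Type*} [Field F]

local notation "GM" => GL (Fin m ⊕ Fin m) F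
local notation "M2m" => Matrix (Fin m ⊕ Fin m) (Fin m ⊕ Fin m) F

/-- the form through a matrix -/
theorem sf_mulVec (A : M2m) (u v : Fin m ⊕ Fin m → F) :
    Cfsg.sympForm m F (A *ᵥ u) (A *ᵥ v) = u ⬝ᵥ ((Aᵀ * Matrix.J (Fin m) F * A) *ᵥ v) := by
  rw [Cfsg.sympForm, Matrix.mulVec_mulVec, Matrix.dotProduct_mulVec, Matrix.dotProduct_mulVec,
    ← Matrix.vecMul_transpose A u, Matrix.vecMul_vecMul, Matrix.mul_assoc]

theorem mem_GSp_iff {g : GM} :
    g ∈ Cfsg.GSp m F ↔ ∃ c : Fˣ, (g : M2m)ᵀ * Matrix.J (Fin m) F * (g : M2m) = (c : F) • Matrix.J (Fin m) F := by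
  constructor
  · rintro ⟨c, hc⟩
    refine ⟨c, Matrix.ext fun i j => ?_⟩
    have h := hc (Pi.single i 1) (Pi.single j 1)
    rw [sf_mulVec, Cfsg.sympForm] at h
    simpa using h
  · rintro ⟨c, hc⟩
    refine ⟨c, fun u v => ?_⟩
    rw [sf_mulVec, hc, Matrix.smul_mulVec, dotProduct_smul, smul_eq_mul]
    rfl

theorem J_entry {F₀ : Type*} [Field F₀] (e : F₀ →+* F) (i j : Fin m ⊕ Fin m) :
    e (Matrix.J (Fin m) F₀ i j) = Matrix.J (Fin m) F i j := by
  rcases i with i | i <;> rcases j with j | j <;> simp [Matrix.J, Matrix.one_apply, apply_ite e]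

theorem sf_single_mulVec (A Q : M2m) (a c : Fin m ⊕ Fin m) :
    Cfsg.sympForm m F (A *ᵥ fun i => Q i a) (A *ᵥ fun i => Q i c) =
      (Qᵀ * (Aᵀ * Matrix.J (Fin m) F * A) * Q) a c := by
  rw [sf_mulVec, Matrix.mul_assoc Qᵀ, Matrix.mul_apply]
  simp only [dotProduct, Matrix.mulVec, Matrix.transpose_apply, Matrix.mul_apply (M := Aᵀ * _ * A)]

theorem sf_basis (hm : 1 ≤ m) :
    Cfsg.sympForm m F (Pi.single (Sum.inr ⟨0, hm⟩) 1) (Pi.single (Sum.inl ⟨0, hm⟩) 1) = 1 := by
  rw [← spB_apply, spB_single]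
  simp [Matrix.J]

/-- the multiplier of a similitude -/
noncomputable def mu (hm : 1 ≤ m) : Cfsg.GSp m F →* Fˣ :=
  MonoidHom.mk' (fun g => g.2.choose) fun g h => by
    have key : ∀ (x : Cfsg.GSp m F) (c : F),
        (∀ u v, Cfsg.sympForm m F ((x.1 : M2m) *ᵥ u) ((x.1 : M2m) *ᵥ v) = c * Cfsg.sympForm m F u v) →
        (x.2.choose : F) = c := by
      intro x c hc
      have h1 := x.2.choose_spec (Pi.single (Sum.inr ⟨0, hm⟩) 1) (Pi.single (Sum.inl ⟨0, hm⟩) 1)
      rw [hc, sf_basis hm, mul_one, mul_one] at h1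
      exact h1.symm
    refine Units.ext (key _ _ fun u v => ?_)
    rw [Subgroup.coe_mul, Units.val_mul, ← Matrix.mulVec_mulVec, ← Matrix.mulVec_mulVec, g.2.choose_spec,
      h.2.choose_spec, Units.val_mul]
    ring

theorem mu_spec (hm : 1 ≤ m) (g : Cfsg.GSp m F) (u v : Fin m ⊕ Fin m → F) :
    Cfsg.sympForm m F ((g.1 : M2m) *ᵥ u) ((g.1 : M2m) *ᵥ v) = (mu hm g : F) * Cfsg.sympForm m F u v :=
  g.2.choose_spec u v

theorem mu_eq (hm : 1 ≤ m) {g : Cfsg.GSp m F} {c : F}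
    (h : ∀ u v, Cfsg.sympForm m F ((g.1 : M2m) *ᵥ u) ((g.1 : M2m) *ᵥ v) = c * Cfsg.sympForm m F u v) :
    (mu hm g : F) = c := by
  have h1 := mu_spec hm g (Pi.single (Sum.inr ⟨0, hm⟩) 1) (Pi.single (Sum.inl ⟨0, hm⟩) 1)
  rw [h, sf_basis hm, mul_one, mul_one] at h1
  exact h1.symm

theorem scalar_mulVec (c : Fˣ) (v : Fin m ⊕ Fin m → F) :
    ((GeneralLinearGroup.scalar (Fin m ⊕ Fin m) c : GM) : M2m) *ᵥ v = (c : F) • v := by
  rw [GeneralLinearGroup.coe_scalar, Matrix.scalar_apply, ← Matrix.smul_one_eq_diagonal,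
    Matrix.smul_mulVec, Matrix.one_mulVec]

/-- scalar similitudes -/
noncomputable def sc (c : Fˣ) : Cfsg.GSp m F :=
  ⟨GeneralLinearGroup.scalar (Fin m ⊕ Fin m) c, c * c, fun u v => by
    rw [scalar_mulVec, scalar_mulVec, sf_smul_left, sf_smul_right, Units.val_mul, mul_assoc]⟩

theorem sc_coe (c : Fˣ) : (sc c : Cfsg.GSp m F).1 = GeneralLinearGroup.scalar (Fin m ⊕ Fin m) c := rfl

theorem sc_mul (c d : Fˣ) : (sc (c * d) : Cfsg.GSp m F) = sc c * sc d := Subtype.ext (map_mul _ c d)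

theorem sc_one : (sc 1 : Cfsg.GSp m F) = 1 := Subtype.ext (map_one _)

theorem mu_sc (hm : 1 ≤ m) (c : Fˣ) : mu hm (sc c) = c ^ 2 :=
  Units.ext (mu_eq hm fun u v => by
    rw [sc_coe, scalar_mulVec, scalar_mulVec, sf_smul_left, sf_smul_right, Units.val_pow_eq_pow_val]; ring)

/-- `σ` on similitudes -/
noncomputable def th (σ : F ≃+* F) : Cfsg.GSp m F →* Cfsg.GSp m F :=
  MonoidHom.mk' (gspMap σ) fun g h => Subtype.ext (Units.ext (by
    rw [gspMap_coe, Subgroup.coe_mul, Subgroup.coe_mul, Units.val_mul, Units.val_mul, gspMap_coe, gspMap_coe,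
      Matrix.map_mul]))

theorem th_coe (σ : F ≃+* F) (g : Cfsg.GSp m F) : ((th σ g).1 : M2m) = (g.1 : M2m).map σ := rfl

theorem th_sc (σ : F ≃+* F) (c : Fˣ) : th σ (sc c : Cfsg.GSp m F) = sc (umap σ c) := by
  refine Subtype.ext (Units.ext ?_)
  rw [th_coe, sc_coe, sc_coe, GeneralLinearGroup.coe_scalar, GeneralLinearGroup.coe_scalar,
    Matrix.scalar_apply, Matrix.scalar_apply, Matrix.diagonal_map (map_zero σ)]
  rfl

theorem th_iterate (σ : F ≃+* F) (k : ℕ) (g : Cfsg.GSp m F) :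
    (((th σ)^[k] g).1 : M2m) = (g.1 : M2m).map (σ ^ k) := by
  induction k generalizing g with
  | zero => exact (Matrix.map_id _).symm
  | succ k ih => rw [Function.iterate_succ_apply, ih, th_coe, Matrix.map_map]; rfl

theorem th_iterate_orderOf (σ : F ≃+* F) (g : Cfsg.GSp m F) : (th σ)^[orderOf σ] g = g := by
  refine Subtype.ext (Units.ext ?_)
  rw [th_iterate, pow_orderOf_eq_one]
  exact Matrix.map_id _

theorem sc_central (c : Fˣ) : (sc c : Cfsg.GSp m F) ∈ Subgroup.center _ := by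
  refine Subgroup.mem_center_iff.mpr fun g => Subtype.ext ?_
  exact (GeneralLinearGroup.scalar_commute c g.1).symm

theorem normProd_sc (σ : F ≃+* F) (c : Fˣ) (k : ℕ) :
    normProd (th σ) (sc c : Cfsg.GSp m F) k = sc (normProd (umap σ) c k) := by
  induction k with
  | zero => exact sc_one.symm
  | succ k ih => rw [normProd_succ, normProd_succ, ih, th_sc, sc_mul]

theorem sc_th_iterate_central (σ : F ≃+* F) (c : Fˣ) (k : ℕ) :
    (th σ)^[k] (sc c : Cfsg.GSp m F) ∈ Subgroup.center _ := by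
  induction k generalizing c with
  | zero => exact sc_central c
  | succ k ih => rw [Function.iterate_succ_apply, th_sc]; exact ih _

section Aut

variable [Finite F]

/-- the diagonal automorphisms -/
noncomputable def jAut : Cfsg.GSp m F →* MulAut (Cfsg.PSp m F) :=
  MonoidHom.mk' (fun g => semiPSp g (RingEquiv.refl F)) fun g h => by
    rw [semiPSp_mul]
    congr 1
    all_goals first | rfl | exact congrArg (g * ·) (Subtype.ext (Units.ext (Matrix.map_id _).symm))

theorem jAut_apply (g : Cfsg.GSp m F) : jAut g = semiPSp g (RingEquiv.refl F) := rfl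

/-- the standard field automorphisms -/
noncomputable def fld : (F ≃+* F) →* MulAut (Cfsg.PSp m F) where
  toFun σ := semiPSp 1 σ
  map_one' := semiPSp_one
  map_mul' σ τ := by
    rw [semiPSp_mul]
    congr 1
    rw [one_mul]
    exact (map_one (th σ)).symm

theorem fld_apply (σ : F ≃+* F) : fld (m := m) σ = semiPSp 1 σ := rfl

theorem fld_conj (σ : F ≃+* F) (A : Cfsg.GSp m F) :
    fld σ * jAut A * (fld σ)⁻¹ = jAut (th σ A) := by
  rw [mul_inv_eq_iff_eq_mul, fld_apply, jAut_apply, jAut_apply, semiPSp_mul, semiPSp_mul, one_mul]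
  congr 1
  rw [show gspMap (RingEquiv.refl F) (1 : Cfsg.GSp m F) = 1 from Subtype.ext (Units.ext (Matrix.map_id _)),
    mul_one]
  rfl

theorem eq_fld {σ : F ≃+* F} {β : MulAut (Cfsg.PSp m F)} (h : Cfsg.IsStdFieldAutPSp σ β) : β = fld σ := by
  refine eq_semiPSp_of_isInduced (g := 1) (one_mem _) fun s s' hs => h s s' ?_
  simpa using hs

theorem inndiag_eq : Cfsg.inndiagPSp m F = (jAut (m := m) (F := F)).range := by
  refine le_antisymm ((Subgroup.closure_le _).mpr ?_) ?_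
  · rintro β ⟨g, hg, h⟩
    exact ⟨⟨g, hg⟩, (eq_semiPSp_of_isInduced hg h).symm⟩
  · rintro _ ⟨g, rfl⟩
    exact Subgroup.subset_closure ⟨g.1, g.2, isInduced_semiPSp g _⟩

/-- a semilinear similitude acting trivially is scalar with trivial field part -/
theorem eq_of_semiPSp_eq_one (hm : 1 ≤ m) {p : ℕ} [Fact p.Prime] [CharP F p] {g : Cfsg.GSp m F}
    {σ : F ≃+* F} (h : semiPSp g σ = 1) : σ = RingEquiv.refl F ∧ ∃ c : Fˣ, g = sc c := by
  obtain ⟨μ, hμ0, hμ⟩ := exists_mult g.2 σ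
  have hline : ∀ v : Fin m ⊕ Fin m → F, ∃ a : F, semiVec g.1 σ v = a • v := by
    intro v
    by_cases hv : v = 0
    · exact ⟨0, by rw [hv, semiVec_zero, smul_zero]⟩
    have h1 : psp (T (semiVec g.1 σ v) (σ 1 / μ)) = psp (T v 1) := by
      rw [← semiSp_T g σ hμ0 hμ, ← semiPSp_psp, h, MulAut.one_apply]
    refine span_of_psp_T_eq (p := p) hm (semiVec_ne_zero g.1 σ hv) ?_ h1
    rw [map_one]; exact div_ne_zero one_ne_zero hμ0
  let a₀ : Fin m ⊕ Fin m := Sum.inl ⟨0, hm⟩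
  obtain ⟨c, hc⟩ := hline (Pi.single a₀ 1)
  have hsig : ∀ (i : Fin m ⊕ Fin m) (x : F), semiVec g.1 σ (Pi.single i x) =
      σ x • ((g.1 : M2m) *ᵥ Pi.single i 1) := by
    intro i x
    rw [semiVec, ← Matrix.mulVec_smul]
    congr 1
    funext k
    rcases eq_or_ne k i with rfl | hk
    · simp [sigVec]
    · simp [sigVec, hk]
  have hcol : ∀ i, ∃ a : F, (g.1 : M2m) *ᵥ Pi.single i 1 = a • Pi.single i (1 : F) := by
    intro i
    obtain ⟨a, ha⟩ := hline (Pi.single i 1)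
    rw [hsig, map_one, one_smul] at ha
    exact ⟨a, ha⟩
  choose d hd using hcol
  have hsum : ∀ i, i ≠ a₀ → ∀ x : F, d i * σ x = d a₀ * x := by
    intro i hi x
    obtain ⟨a, ha⟩ := hline (Pi.single a₀ 1 + Pi.single i x)
    rw [semiVec_add, hsig, hsig, map_one, one_smul, hd, hd] at ha
    have e0 := congrFun ha a₀
    have ei := congrFun ha i
    simp [hi, Ne.symm hi] at e0 ei
    rw [e0, ← ei, mul_comm]
  have hd0 : ∀ i, d i ≠ 0 := fun i h0 => by
    have := hd i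
    rw [h0, zero_smul] at this
    have h2 := (Matrix.mulVec_injective_of_isUnit g.1.isUnit) (this.trans (Matrix.mulVec_zero _).symm)
    simpa using congrFun h2 i
  have hdeq : ∀ i, d i = d a₀ := by
    intro i
    rcases eq_or_ne i a₀ with rfl | hi
    · rfl
    · simpa using hsum i hi 1
  have hne : (Sum.inr ⟨0, hm⟩ : Fin m ⊕ Fin m) ≠ a₀ := Sum.inr_ne_inl
  refine ⟨RingEquiv.ext fun x => ?_, Units.mk0 (d a₀) (hd0 a₀), ?_⟩
  · have := hsum _ hne x
    rw [hdeq] at this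
    exact mul_left_cancel₀ (hd0 a₀) this
  · refine Subtype.ext (Units.ext (Matrix.ext fun k i => ?_))
    have := congrFun (hd i) k
    rw [Matrix.mulVec_single_one, Matrix.col_apply, hdeq] at this
    rw [this, sc_coe, GeneralLinearGroup.coe_scalar, Matrix.scalar_apply, Matrix.diagonal_apply,
      Pi.smul_apply, smul_eq_mul, Pi.single_apply]
    by_cases hk : k = i <;> simp [hk]

theorem jAut_sc (c : Fˣ) : jAut (sc c : Cfsg.GSp m F) = 1 := by
  refine MulEquiv.ext fun x => ?_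
  obtain ⟨s, rfl⟩ := psp_surjective x
  rw [MulAut.one_apply, jAut_apply, semiPSp_psp]
  congr 1
  refine sp_ext fun y => ?_
  obtain ⟨y, rfl⟩ := semiVec_surjective (sc c : Cfsg.GSp m F).1 (RingEquiv.refl F) y
  rw [semiSp_semiVec, semiVec, semiVec, sc_coe, scalar_mulVec, scalar_mulVec, Matrix.mulVec_smul]
  rfl

theorem jAut_eq_one_iff (hm : 1 ≤ m) {p : ℕ} [Fact p.Prime] [CharP F p] (g : Cfsg.GSp m F) :
    jAut g = 1 ↔ ∃ c : Fˣ, g = sc c := by
  refine ⟨fun h => (eq_of_semiPSp_eq_one (p := p) hm h).2, ?_⟩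
  rintro ⟨c, rfl⟩
  exact jAut_sc c

theorem fld_injective (hm : 1 ≤ m) {p : ℕ} [Fact p.Prime] [CharP F p] :
    Function.Injective (fld (m := m) (F := F)) := by
  rw [injective_iff_map_eq_one]
  exact fun σ h => (eq_of_semiPSp_eq_one (p := p) hm h).1

/-- symplectic matrices as similitudes -/
noncomputable def ofSp : Matrix.symplecticGroup (Fin m) F →* Cfsg.GSp m F :=
  ((Matrix.symplecticGroup (Fin m) F).subtype.toHomUnits).codRestrict _ fun s =>
    ⟨1, fun u v => by rw [Units.val_one, one_mul]; exact sf_invariant s u v⟩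

theorem ofSp_coe (s : Matrix.symplecticGroup (Fin m) F) : ((ofSp s).1 : M2m) = (s : M2m) := rfl

theorem conj_psp (s : Matrix.symplecticGroup (Fin m) F) :
    MulAut.conj (psp s) = jAut (ofSp s) := by
  refine MulEquiv.ext fun x => ?_
  obtain ⟨t, rfl⟩ := psp_surjective x
  rw [MulAut.conj_apply, jAut_apply, semiPSp_psp, ← map_inv, ← map_mul, ← map_mul]
  rfl

theorem range_ofSp (hm : 1 ≤ m) : (ofSp (m := m) (F := F)).range = (mu hm).ker := by
  ext g
  constructor
  · rintro ⟨s, rfl⟩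
    exact Units.ext (mu_eq hm fun u v => by
      rw [ofSp_coe, sf_invariant, Units.val_one, one_mul])
  · intro hg
    refine ⟨⟨(g.1 : M2m), (mem_symplectic_iff_form _).mpr fun u v => ?_⟩, Subtype.ext (Units.ext rfl)⟩
    rw [mu_spec hm, MonoidHom.mem_ker.mp hg, Units.val_one, one_mul]

theorem Inn_eq_map (hm : 1 ≤ m) : Cfsg.Inn (Cfsg.PSp m F) = (mu hm).ker.map jAut := by
  rw [← range_ofSp hm]
  ext φ
  constructor
  · rintro ⟨y, rfl⟩
    obtain ⟨s, rfl⟩ := psp_surjective y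
    exact ⟨_, ⟨s, rfl⟩, (conj_psp s).symm⟩
  · rintro ⟨_, ⟨s, rfl⟩, rfl⟩
    exact ⟨psp s, conj_psp s⟩

theorem Inn_le_inndiag (hm : 1 ≤ m) : Cfsg.Inn (Cfsg.PSp m F) ≤ Cfsg.inndiagPSp m F := by
  rw [Inn_eq_map hm, inndiag_eq]
  exact Subgroup.map_le_range _ _

omit [Finite F] in
theorem inn_normal {X : Type*} [Group X] : (Cfsg.Inn X).Normal :=
  ⟨fun _ ⟨y, hy⟩ φ => ⟨φ y, by rw [← hy]; exact MulEquiv.ext fun x => by simp [MulAut.conj_apply]⟩⟩

theorem inndiag_normal [Fintype F] (hm : 2 ≤ m) {p : ℕ} [Fact p.Prime] [CharP F p] :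
    (Cfsg.inndiagPSp m F).Normal := by
  by_cases h4 : m = 2 → p ≠ 2
  · refine ⟨fun β hβ φ => ?_⟩
    obtain ⟨g, σ, rfl⟩ := exists_semiPSp (p := p) hm (isTr_map (p := p) hm h4 φ)
    rw [inndiag_eq] at hβ ⊢
    obtain ⟨A, rfl⟩ := hβ
    have e : semiPSp g σ = jAut g * fld σ := by
      rw [jAut_apply, fld_apply, semiPSp_mul]
      congr 1
      rw [show gspMap (RingEquiv.refl F) (1 : Cfsg.GSp m F) = 1 from Subtype.ext (Units.ext (Matrix.map_id _)),
        mul_one]
    refine ⟨g * th σ A * g⁻¹, ?_⟩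
    rw [map_mul, map_mul, ← fld_conj, e, map_inv]
    group
  · push Not at h4
    obtain ⟨-, rfl⟩ := h4
    have heq : Cfsg.inndiagPSp m F = Cfsg.Inn (Cfsg.PSp m F) := by
      refine le_antisymm ?_ (Inn_le_inndiag (by omega))
      rw [inndiag_eq, Inn_eq_map (show 1 ≤ m by omega)]
      rintro _ ⟨g, rfl⟩
      obtain ⟨a, ha⟩ := FiniteField.isSquare_of_char_two (ringChar.eq F 2) (mu (show 1 ≤ m by omega) g : F)
      have ha0 : a ≠ 0 := fun h => (mu (show 1 ≤ m by omega) g).ne_zero (by rw [ha, h, mul_zero])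
      refine ⟨sc (Units.mk0 a ha0)⁻¹ * g, ?_, by rw [map_mul, jAut_sc, one_mul]⟩
      rw [SetLike.mem_coe, MonoidHom.mem_ker, map_mul, mu_sc]
      refine Units.ext ?_
      simp [ha]
      field_simp
    rw [heq]
    exact inn_normal

end Aut

section Field

variable [Fintype F] {σ : F ≃+* F}

/-- Semilinear descent inside the similitude group. -/
theorem descent (hm : 1 ≤ m) {A : Cfsg.GSp m F} (hA : normProd (th σ) A (orderOf σ) = 1) :
    ∃ P : Cfsg.GSp m F, A = P * th σ P⁻¹ := by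
  classical
  set ρ := Cfsg.Geo.glReindex (F := F) (finSumFinEquiv (m := m) (n := m)) with hρ
  have hcomm : ∀ g : Cfsg.GSp m F, ρ (th σ g).1 = Cfsg.Agent.H56.glMap σ (ρ g.1) := fun g =>
    Units.ext (by rw [Cfsg.Agent.H56.glMap_coe]; rfl)
  have hn : ∀ k, ρ (normProd (th σ) A k).1 =
      normProd (Cfsg.Agent.H56.glMap σ) (ρ A.1) k := by
    intro k
    induction k with
    | zero => exact map_one ρ
    | succ k ih => rw [normProd_succ, normProd_succ, Subgroup.coe_mul, map_mul, hcomm, ih]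
  obtain ⟨B', hB'⟩ := Cfsg.Agent.H58.Descent.descent σ (A := ρ A.1)
    (by rw [← hn, hA]; exact map_one ρ)
  obtain ⟨B, rfl⟩ := ρ.surjective B'
  let B₁ : GM := Units.map (σ.mapMatrix : M2m ≃+* M2m).toMonoidHom B
  have hB₁ : ρ B₁ = Cfsg.Agent.H56.glMap σ (ρ B) := Units.ext (by rw [Cfsg.Agent.H56.glMap_coe]; rfl)
  have hAB : A.1 * B₁ = B := by
    rw [map_inv, ← hB₁, ← map_inv, ← map_mul] at hB'
    rw [ρ.injective hB', inv_mul_cancel_right]
  -- the transported form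
  set J := Matrix.J (Fin m) F with hJ
  set J' := (B : M2m)ᵀ * J * (B : M2m) with hJ'
  obtain ⟨μ, hμ⟩ := mem_GSp_iff.mp A.2
  have hJσ : J.map σ = J := by
    rw [hJ, Matrix.J, Matrix.fromBlocks_map]
    simp [Matrix.map_neg, Matrix.map_one]
  have hrel : ∀ i j, J' i j = (μ : F) * σ (J' i j) := by
    have h : J' = (μ : F) • J'.map σ := by
      conv_lhs => rw [hJ', ← hAB]
      rw [Units.val_mul, Matrix.transpose_mul, show (B₁ : M2m) = (B : M2m).map σ from rfl,
        show ((B : M2m).map σ)ᵀ * (A.1 : M2m)ᵀ * J * ((A.1 : M2m) * (B : M2m).map σ) =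
          ((B : M2m).map σ)ᵀ * ((A.1 : M2m)ᵀ * J * (A.1 : M2m)) * (B : M2m).map σ by noncomm_ring,
        hμ, Matrix.mul_smul, Matrix.smul_mul, hJ', Matrix.map_mul, Matrix.map_mul, hJσ,
        Matrix.transpose_map]
    intro i j
    exact congrFun (congrFun h i) j
  have hdet : J'.det ≠ 0 := by
    rw [hJ', Matrix.det_mul, Matrix.det_mul, Matrix.det_transpose]
    exact mul_ne_zero (mul_ne_zero (GeneralLinearGroup.det_ne_zero B)
      (Matrix.isUnit_det_J (Fin m) F).ne_zero) (GeneralLinearGroup.det_ne_zero B)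
  obtain ⟨i₀, j₀, hk⟩ : ∃ i j, J' i j ≠ 0 := by
    by_contra hno
    push Not at hno
    haveI : Nonempty (Fin m ⊕ Fin m) := ⟨Sum.inl ⟨0, hm⟩⟩
    exact hdet (by rw [show J' = 0 from Matrix.ext hno, Matrix.det_zero])
  set k := J' i₀ j₀
  have hμ0 : (μ : F) ≠ 0 := μ.ne_zero
  have hfix : ∀ i j, J' i j / k ∈ fixedField σ := by
    intro i j
    rw [mem_fixedField, map_div₀]
    have e1 := hrel i j
    have e2 : k = (μ : F) * σ k := hrel i₀ j₀
    rw [div_eq_div_iff (by simpa using hk) hk]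
    linear_combination (σ (J' i j)) * e2 - (σ k) * e1
  let E := fixedField σ
  let J₀ : Matrix (Fin m ⊕ Fin m) (Fin m ⊕ Fin m) E := Matrix.of fun i j => ⟨J' i j / k, hfix i j⟩
  have hJ₀ : E.subtype.mapMatrix J₀ = k⁻¹ • J' := by
    ext i j
    simp [J₀, div_eq_inv_mul]
  have hdet₀ : J₀.det ≠ 0 := by
    intro h0
    have h1 := E.subtype.map_det J₀
    rw [h0, map_zero, hJ₀, Matrix.det_smul] at h1
    exact mul_ne_zero (pow_ne_zero _ (inv_ne_zero hk)) hdet h1.symm
  have hval : ∀ u v : Fin m ⊕ Fin m → E, ((Matrix.toBilin' J₀ u v : E) : F) =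
      k⁻¹ * Cfsg.sympForm m F ((B : M2m) *ᵥ fun i => (u i : F)) ((B : M2m) *ᵥ fun i => (v i : F)) := by
    intro u v
    rw [Matrix.toBilin'_apply', sf_mulVec, ← hJ', ← smul_eq_mul k⁻¹, ← dotProduct_smul, ← Matrix.smul_mulVec,
      ← hJ₀]
    show E.subtype _ = _
    rw [RingHom.map_dotProduct, RingHom.mapMatrix_apply]
    congr 1
    funext i
    exact RingHom.map_mulVec E.subtype J₀ v i
  have halt : (Matrix.toBilin' J₀).IsAlt := fun u => Subtype.ext (by
    rw [hval, sf_self, mul_zero]; rfl)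
  obtain ⟨m', k', b, hb, hrad⟩ := exists_hyp_basis (Matrix.toBilin' J₀) halt
  obtain rfl : k' = 0 := by
    by_contra hk'
    have hnd := (LinearMap.BilinForm.nondegenerate_toBilin'_iff_det_ne_zero).mpr hdet₀
    exact b.ne_zero (Sum.inr ⟨0, Nat.pos_of_ne_zero hk'⟩)
      (hnd.1 _ fun v => hrad _ v)
  obtain rfl : m = m' := by
    have := Module.finrank_eq_card_basis b
    simp at this
    omega
  let col : Fin m ⊕ Fin m → (Fin m ⊕ Fin m → E) := fun a =>
    b (Sum.inl (Sum.swap a))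
  let Q : M2m := Matrix.of fun i a => ((col a i : E) : F)
  have hQ : Qᵀ * J' * Q = k • J := by
    ext a c
    have h1 : (Qᵀ * J' * Q) a c =
        Cfsg.sympForm m F ((B : M2m) *ᵥ fun i => (col a i : F)) ((B : M2m) *ᵥ fun i => (col c i : F)) := by
      rw [hJ', ← sf_single_mulVec]
      rfl
    rw [h1, show Cfsg.sympForm m F ((B : M2m) *ᵥ fun i => (col a i : F)) ((B : M2m) *ᵥ fun i => (col c i : F))
      = k * ((Matrix.toBilin' J₀ (col a) (col c) : E) : F) by rw [hval, ← mul_assoc, mul_inv_cancel₀ hk, one_mul],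
      Matrix.smul_apply, smul_eq_mul]
    congr 1
    obtain ⟨g1, g2, g3⟩ := hb
    rcases a with a | a <;> rcases c with c | c <;> simp only [col, Sum.swap_inl, Sum.swap_inr]
    · rw [g3]; simp [hJ, Matrix.J]
    · rw [alt_swap halt, g1]
      simp [hJ, Matrix.J, Matrix.one_apply, eq_comm]
      split_ifs <;> simp
    · rw [g1]
      simp [hJ, Matrix.J, Matrix.one_apply]
      split_ifs <;> simp
    · rw [g2]; simp [hJ, Matrix.J]
  have hQdet : Q.det ≠ 0 := by
    intro h0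
    have := congrArg Matrix.det hQ
    rw [Matrix.det_mul, h0, mul_zero, Matrix.det_smul] at this
    exact mul_ne_zero (pow_ne_zero _ hk) (Matrix.isUnit_det_J (Fin m) F).ne_zero this.symm
  let Qu : GM := GeneralLinearGroup.mkOfDetNeZero Q hQdet
  have hP : B * Qu ∈ Cfsg.GSp m F := mem_GSp_iff.mpr ⟨Units.mk0 k hk, by
    rw [Units.val_mul, Matrix.transpose_mul]
    show Qᵀ * (B : M2m)ᵀ * J * ((B : M2m) * Q) = _
    rw [show Qᵀ * (B : M2m)ᵀ * J * ((B : M2m) * Q) = Qᵀ * ((B : M2m)ᵀ * J * (B : M2m)) * Q by noncomm_ring,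
      ← hJ', hQ, Units.val_mk0]⟩
  refine ⟨⟨B * Qu, hP⟩, ?_⟩
  rw [map_inv, eq_mul_inv_iff_mul_eq]
  refine Subtype.ext (Units.ext ?_)
  rw [Subgroup.coe_mul, Units.val_mul, th_coe, Units.val_mul, Matrix.map_mul]
  show (A.1 : M2m) * ((B : M2m).map σ * Q.map σ) = (B : M2m) * Q
  have hQσ : Q.map σ = Q := Matrix.ext fun i a => (mem_fixedField σ).mp (col a i).2
  rw [hQσ, ← mul_assoc]
  congr 1
  exact congrArg Units.val hAB

theorem field_coset (hm : 1 ≤ m) {p : ℕ} [Fact p.Prime] [CharP F p] (A : Cfsg.GSp m F)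
    (h : (jAut A * fld σ) ^ orderOf σ = 1) :
    ∃ B : Cfsg.GSp m F, jAut A * fld σ = jAut B * fld σ * (jAut B)⁻¹ := by
  rw [mul_pow_eq jAut (th σ) (fld σ) (fld_conj σ), ← map_pow, pow_orderOf_eq_one, map_one, mul_one,
    jAut_eq_one_iff (p := p) hm] at h
  obtain ⟨l, hl⟩ := h
  have hr := Cfsg.Agent.H58.Descent.orderOf_pos' σ
  have hfix : umap σ l = l := by
    have h1 := normProd_succ' (th σ) A (orderOf σ)
    rw [normProd_succ, th_iterate_orderOf, hl, th_sc,
      ← Subgroup.mem_center_iff.mp (sc_central l) A, mul_right_inj] at h1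
    refine Units.ext ?_
    have := congrArg (fun g : Cfsg.GSp m F => (g.1 : M2m) (Sum.inl ⟨0, hm⟩) (Sum.inl ⟨0, hm⟩)) h1
    simpa [sc_coe] using this
  obtain ⟨d, hd⟩ := Cfsg.Agent.H58.Descent.exists_normProd_eq σ (c := l⁻¹)
    (by rw [← umap_coe, map_inv, hfix])
  have hA' : normProd (th σ) (sc d * A) (orderOf σ) = 1 := by
    rw [(normProd_mul_of_central (th σ) _ A (sc_th_iterate_central σ d) _).1, normProd_sc, hd, hl,
      ← sc_mul, inv_mul_cancel, sc_one]
  obtain ⟨P, hP⟩ := descent hm hA'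
  refine ⟨P, ?_⟩
  rw [conj_eq jAut (th σ) (fld σ) (fld_conj σ), ← hP, map_mul, jAut_sc, one_mul]

variable {F₀ : Type*} [Field F₀] (e : F₀ →+* F)

/-- similitudes over a subfield -/
noncomputable def psi : Cfsg.GSp m F₀ →* Cfsg.GSp m F :=
  ((GeneralLinearGroup.map (n := Fin m ⊕ Fin m) e).comp (Cfsg.GSp m F₀).subtype).codRestrict _ fun g => by
    obtain ⟨c, hc⟩ := mem_GSp_iff.mp g.2
    refine mem_GSp_iff.mpr ⟨Units.map e.toMonoidHom c, ?_⟩
    have hJe : (Matrix.J (Fin m) F₀).map e = Matrix.J (Fin m) F := by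
      rw [Matrix.J, Matrix.J, Matrix.fromBlocks_map]
      simp [Matrix.map_neg, Matrix.map_one]
    have h := congrArg (fun M => M.map e) hc
    simp only [Matrix.map_mul, Matrix.transpose_map, hJe] at h
    show (((g.1 : Matrix (Fin m ⊕ Fin m) (Fin m ⊕ Fin m) F₀)).map e)ᵀ * _ * ((g.1 : Matrix (Fin m ⊕ Fin m) (Fin m ⊕ Fin m) F₀)).map e = _
    rw [h]
    ext i j
    simp only [Matrix.smul_apply, Matrix.map_apply, smul_eq_mul, map_mul, J_entry]
    rfl

theorem psi_coe (g : Cfsg.GSp m F₀) :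
    ((psi e g).1 : M2m) = (g.1 : Matrix (Fin m ⊕ Fin m) (Fin m ⊕ Fin m) F₀).map e := rfl

theorem mem_range_psi (hm : 1 ≤ m) (he : ∀ x, σ (e x) = e x) (he' : ∀ a, σ a = a → ∃ x, e x = a)
    (A : Cfsg.GSp m F) : A ∈ (psi e).range ↔ th σ A = A := by
  constructor
  · rintro ⟨B, rfl⟩
    refine Subtype.ext (Units.ext (Matrix.ext fun i j => ?_))
    exact he _
  · intro h
    have h' : ∀ i j, σ ((A.1 : M2m) i j) = (A.1 : M2m) i j := fun i j =>
      congrArg (fun M : Cfsg.GSp m F => (M.1 : M2m) i j) h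
    choose b hb using fun i j => he' _ (h' i j)
    let Bm : Matrix (Fin m ⊕ Fin m) (Fin m ⊕ Fin m) F₀ := Matrix.of b
    have hBm : Bm.map e = (A.1 : M2m) := Matrix.ext hb
    have hdet : Bm.det ≠ 0 := by
      intro h0
      have h1 := e.map_det Bm
      rw [h0, map_zero, RingHom.mapMatrix_apply, hBm] at h1
      exact GeneralLinearGroup.det_ne_zero A.1 h1.symm
    obtain ⟨c, hc⟩ := mem_GSp_iff.mp A.2
    let a₀ : Fin m ⊕ Fin m := Sum.inr ⟨0, hm⟩
    let b₀ : Fin m ⊕ Fin m := Sum.inl ⟨0, hm⟩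
    set c₀ := (Bmᵀ * Matrix.J (Fin m) F₀ * Bm) a₀ b₀ with hc₀
    have hJe : (Matrix.J (Fin m) F₀).map e = Matrix.J (Fin m) F := by
      rw [Matrix.J, Matrix.J, Matrix.fromBlocks_map]
      simp [Matrix.map_neg, Matrix.map_one]
    have hmap : (Bmᵀ * Matrix.J (Fin m) F₀ * Bm).map e = (c : F) • Matrix.J (Fin m) F := by
      rw [Matrix.map_mul, Matrix.map_mul, Matrix.transpose_map, hBm, hJe, hc]
    have hec : e c₀ = c := by
      have h1 := congrFun (congrFun hmap a₀) b₀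
      rw [Matrix.map_apply, ← hc₀, Matrix.smul_apply, smul_eq_mul] at h1
      rw [h1]
      simp [a₀, b₀, Matrix.J]
    have hc0 : c₀ ≠ 0 := fun h0 => c.ne_zero (by rw [← hec, h0, map_zero])
    have heq : Bmᵀ * Matrix.J (Fin m) F₀ * Bm = c₀ • Matrix.J (Fin m) F₀ := by
      apply Matrix.map_injective e.injective
      dsimp only
      rw [hmap, ← hec]
      ext i j
      simp only [Matrix.smul_apply, Matrix.map_apply, smul_eq_mul, map_mul, J_entry]
    exact ⟨⟨GeneralLinearGroup.mkOfDetNeZero Bm hdet, mem_GSp_iff.mpr ⟨Units.mk0 c₀ hc0, heq⟩⟩,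
      Subtype.ext (Units.ext hBm)⟩

theorem field_centralizer (hm : 1 ≤ m) {p : ℕ} [Fact p.Prime] [CharP F p]
    (he : ∀ x, σ (e x) = e x) (he' : ∀ a, σ a = a → ∃ x, e x = a) :
    Cfsg.inndiagPSp m F ⊓ Subgroup.centralizer {fld σ} = (psi e).range.map jAut := by
  rw [inndiag_eq]
  ext y
  constructor
  · rintro ⟨⟨A, rfl⟩, hy⟩
    have h := (commutes_iff jAut (th σ) (fld σ) (fld_conj σ) A).mp hy
    rw [← mul_inv_eq_one, ← map_inv, ← map_mul, jAut_eq_one_iff (p := p) hm] at h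
    obtain ⟨c, hc⟩ := h
    rw [mul_inv_eq_iff_eq_mul] at hc
    have hk : ∀ k, (th σ)^[k] A = sc (normProd (umap σ) c k) * A := by
      intro k
      induction k with
      | zero => simp [normProd, sc_one]
      | succ k ih =>
        rw [Function.iterate_succ_apply', ih, map_mul, th_sc, hc, normProd_succ, ← mul_assoc, ← sc_mul,
          mul_comm c]
    have hn : normProd (umap σ) c (orderOf σ) = 1 := by
      have h1 := hk (orderOf σ)
      rw [th_iterate_orderOf, right_eq_mul] at h1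
      refine Units.ext ?_
      have := congrArg (fun g : Cfsg.GSp m F => (g.1 : M2m) (Sum.inl ⟨0, hm⟩) (Sum.inl ⟨0, hm⟩)) h1
      simpa [sc_coe] using this
    obtain ⟨b, hb⟩ := Cfsg.Agent.H58.Descent.descent_units σ hn
    refine ⟨sc b * A, (mem_range_psi e hm he he' _).mpr ?_, by rw [map_mul, jAut_sc, one_mul]⟩
    rw [map_mul, th_sc, hc, ← mul_assoc, ← sc_mul, hb, mul_left_comm, mul_inv_cancel, mul_one]
  · rintro ⟨A, hA, rfl⟩
    exact ⟨⟨A, rfl⟩, (commutes_iff jAut (th σ) (fld σ) (fld_conj σ) A).mpr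
      (by rw [(mem_range_psi e hm he he' A).mp hA])⟩

theorem centralizer_iso (hm : 1 ≤ m) {p : ℕ} [Fact p.Prime] [CharP F p]
    (he : ∀ x, σ (e x) = e x) (he' : ∀ a, σ a = a → ∃ x, e x = a) :
    Nonempty (↥(Cfsg.inndiagPSp m F ⊓ Subgroup.centralizer {fld σ}) ≃* Cfsg.PGSp m F₀) := by
  rw [field_centralizer e hm (p := p) he he', MonoidHom.map_range]
  refine ⟨(QuotientGroup.quotientKerEquivRange _).symm.trans (QuotientGroup.quotientMulEquivOfEq ?_)⟩
  ext B
  rw [MonoidHom.mem_ker, MonoidHom.comp_apply, jAut_eq_one_iff (p := p) hm, Subgroup.mem_subgroupOf]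
  constructor
  · rintro ⟨c, hc⟩
    have hentry : ∀ i j, e ((B.1 : Matrix (Fin m ⊕ Fin m) (Fin m ⊕ Fin m) F₀) i j) = if i = j then (c : F) else 0 := by
      intro i j
      have := congrArg (fun M : Cfsg.GSp m F => (M.1 : M2m) i j) hc
      rw [sc_coe, GeneralLinearGroup.coe_scalar, Matrix.scalar_apply, Matrix.diagonal_apply] at this
      exact this
    let i₀ : Fin m ⊕ Fin m := Sum.inl ⟨0, hm⟩
    have hd : (B.1 : Matrix (Fin m ⊕ Fin m) (Fin m ⊕ Fin m) F₀) i₀ i₀ ≠ 0 := fun h0 => by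
      have := hentry i₀ i₀
      rw [h0, map_zero, if_pos rfl] at this
      exact c.ne_zero this.symm
    refine ⟨Units.mk0 _ hd, Units.ext (Matrix.ext fun i j => e.injective ?_)⟩
    show e ((Matrix.scalar (Fin m ⊕ Fin m) ((B.1 : Matrix (Fin m ⊕ Fin m) (Fin m ⊕ Fin m) F₀) i₀ i₀)) i j) = _
    rw [Matrix.scalar_apply, Matrix.diagonal_apply, hentry, apply_ite e, map_zero, hentry, if_pos rfl]
  · rintro ⟨d, hd⟩
    refine ⟨Units.map e.toMonoidHom d, Subtype.ext ?_⟩
    show GeneralLinearGroup.map e B.1 = _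
    rw [← hd]
    refine Units.ext (Matrix.ext fun i j => ?_)
    simp [sc_coe, Matrix.scalar_apply, Matrix.diagonal_apply, apply_ite e]

theorem mu_surjective (hm : 1 ≤ m) : Function.Surjective (mu (F := F) hm) := by
  intro c
  let D : M2m := Matrix.diagonal (Sum.elim (fun _ => (c : F)) fun _ => 1)
  have hD : D.det ≠ 0 := by
    rw [Matrix.det_diagonal]
    exact Finset.prod_ne_zero_iff.mpr fun i _ => by cases i <;> simp
  have key : ∀ u v, Cfsg.sympForm m F (D *ᵥ u) (D *ᵥ v) = (c : F) * Cfsg.sympForm m F u v := by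
    intro u v
    simp only [sympForm_eq, D, Matrix.mulVec_diagonal, Sum.elim_inl, Sum.elim_inr, Finset.mul_sum]
    exact Finset.sum_congr rfl fun i _ => by ring
  exact ⟨⟨GeneralLinearGroup.mkOfDetNeZero D hD, c, key⟩, Units.ext (mu_eq hm key)⟩

theorem mu_psi_range (hm : 1 ≤ m) [Fintype F₀] :
    (psi (m := m) e).range.map (mu hm) = (powMonoidHom (Fintype.card F₀ - 1) : Fˣ →* Fˣ).ker := by
  have hcomp : (mu hm).comp (psi e) = (Units.map (e : F₀ →* F)).comp (mu (F := F₀) hm) := by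
    refine MonoidHom.ext fun B => Units.ext ?_
    refine mu_eq hm fun u v => ?_
    obtain ⟨c, hc⟩ := mem_GSp_iff.mp B.2
    have hmu : (mu hm B : F₀) = c := mu_eq hm fun u v => by
      rw [sf_mulVec, hc, Matrix.smul_mulVec, dotProduct_smul, smul_eq_mul]; rfl
    have hJe : (Matrix.J (Fin m) F₀).map e = Matrix.J (Fin m) F := by
      rw [Matrix.J, Matrix.J, Matrix.fromBlocks_map]
      simp [Matrix.map_neg, Matrix.map_one]
    rw [sf_mulVec, psi_coe, ← Matrix.transpose_map, ← hJe, ← Matrix.map_mul, ← Matrix.map_mul, hc,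
      show (((c : F₀) • Matrix.J (Fin m) F₀).map e) = e c • (Matrix.J (Fin m) F₀).map e from
        Matrix.ext fun i j => by simp only [Matrix.smul_apply, Matrix.map_apply, smul_eq_mul, map_mul], hJe, Matrix.smul_mulVec, dotProduct_smul, smul_eq_mul]
    show _ = e (mu hm B : F₀) * _
    rw [hmu]
    rfl
  rw [MonoidHom.map_range, hcomp, ← MonoidHom.map_range, MonoidHom.range_eq_top.mpr (mu_surjective hm),
    ← MonoidHom.range_eq_map]
  refine Subgroup.eq_of_le_of_card_ge ?_ ?_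
  · rintro _ ⟨u, rfl⟩
    classical rw [MonoidHom.mem_ker, powMonoidHom_apply, ← map_pow, ← Fintype.card_units, pow_card_eq_one, map_one]
  · rw [IsCyclic.card_powMonoidHom_ker,
      ← Nat.card_congr (MonoidHom.ofInjective (f := Units.map (e : F₀ →* F)) (Units.map_injective e.injective)).toEquiv,
      Nat.card_units F₀, Nat.card_eq_fintype_card (α := F₀)]
    exact Nat.gcd_le_right _ (Nat.sub_pos_of_lt Fintype.one_lt_card)

theorem split_count (hm : 1 ≤ m) {p : ℕ} [Fact p.Prime] [CharP F p] [Fintype F₀]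
    (he : ∀ x, σ (e x) = e x) (he' : ∀ a, σ a = a → ∃ x, e x = a) {d : ℕ}
    (hd : Nat.card Fˣ = (Fintype.card F₀ - 1) * d) :
    Cfsg.splitClassCount (Cfsg.inndiagPSp m F) (Cfsg.Inn (Cfsg.PSp m F)) (fld σ) = Nat.gcd 2 d := by
  haveI : (Cfsg.Inn (Cfsg.PSp m F)).Normal := inn_normal
  rw [splitClassCount_eq_relIndex (Inn_le_inndiag hm) (fld σ), field_centralizer e hm (p := p) he he',
    Inn_eq_map hm, ← Subgroup.map_sup, inndiag_eq, MonoidHom.range_eq_map jAut, Subgroup.relIndex_map_map,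
    top_sup_eq, Subgroup.relIndex_top_right]
  set N := (mu hm).ker ⊔ (psi e).range ⊔ (jAut (m := m) (F := F)).ker with hN
  have h := Subgroup.index_map N (mu hm)
  rw [MonoidHom.range_eq_top.mpr (mu_surjective hm), Subgroup.index_top, mul_one,
    sup_eq_left.mpr (le_sup_left.trans le_sup_left : (mu hm).ker ≤ N)] at h
  rw [← h, hN, Subgroup.map_sup, Subgroup.map_sup, Subgroup.map_eq_bot_iff _ |>.mpr le_rfl, bot_sup_eq,
    mu_psi_range e hm]
  rw [← H58.PSLCentralizer.index_ker_pow_sup_range_pow (G := Fˣ) 2 hd]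
  congr 2
  ext c
  constructor
  · rintro ⟨g, hg, rfl⟩
    obtain ⟨a, rfl⟩ := (jAut_eq_one_iff (p := p) hm g).mp hg
    exact ⟨a, (mu_sc hm a).symm⟩
  · rintro ⟨a, rfl⟩
    exact ⟨sc a, jAut_sc a, mu_sc hm a⟩

end Field

end Cfsg.Agent.H99.SympField
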