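import Cfsg.Agent.H66.Present

/-!
The Carmichael presentation of alternating groups: generators `z i = (α β i)`, relations
`z i ^ 3 = 1` and `(z i * z j) ^ 2 = 1`; the twisted embedding of symmetric groups.
-/

namespace Cfsg.Agent.H99.BoundedPres

open Equiv Equiv.Perm

section Bound

/-- The coset step. -/
theorem carmichael_step {m : ℕ} {P : Type*} [Group P] (z : ℕ → P) (h3 : ∀ i ≤ m, z i ^ 3 = 1)
    (h2 : ∀ i ≤ m, ∀ j ≤ m, i ≠ j → (z i * z j) ^ 2 = 1)
    (hgen : Subgroup.closure (z '' Set.Iic m) = ⊤)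
    (hK : Finite (Subgroup.closure (z '' Set.Iio m))) :
    Finite P ∧ Nat.card P ≤ (m + 3) * Nat.card (Subgroup.closure (z '' Set.Iio m)) := by
  classical
  set K := Subgroup.closure (z '' Set.Iio m) with hKdef
  set y := z m with hy
  have hy3 : y * y * y = 1 := by have := h3 m le_rfl; rwa [pow_succ, pow_two] at this
  have hx3 : ∀ i < m, z i * z i * z i = 1 := fun i hi => by
    have := h3 i hi.le; rwa [pow_succ, pow_two] at this
  have hxy : ∀ i < m, y * z i * y = (z i)⁻¹ := fun i hi => by
    have h := h2 m le_rfl i hi.le (Nat.ne_of_gt hi)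
    rw [pow_two] at h
    refine eq_inv_of_mul_eq_one_left ?_
    simpa only [mul_assoc] using h
  have hmem : ∀ i < m, z i ∈ K := fun i hi => Subgroup.subset_closure ⟨i, hi, rfl⟩
  let cK : P ⧸ K := QuotientGroup.mk 1
  have hmk : ∀ a b : P, a • (QuotientGroup.mk b : P ⧸ K) = QuotientGroup.mk (a * b) := fun a b => rfl
  have hK1 : ∀ i < m, z i • cK = cK := fun i hi => by
    rw [hmk, mul_one]
    exact QuotientGroup.eq.mpr (by rw [mul_one]; exact K.inv_mem (hmem i hi))
  have hy1 : y • y • y • cK = cK := by rw [smul_smul, smul_smul, hy3, one_smul]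
  have hyK : ∀ i < m, z i • y • cK = y • y • cK := fun i hi => by
    have e : (y * z i * y) • cK = cK := by
      rw [hxy i hi, inv_smul_eq_iff, hK1 i hi]
    calc z i • y • cK = y⁻¹ • (y * z i * y) • cK := by simp [mul_smul]
      _ = y⁻¹ • cK := by rw [e]
      _ = _ := by rw [inv_smul_eq_iff, hy1]
  have hyy : ∀ i < m, z i • z i • y • y • cK = y • cK := fun i hi => by
    rw [← hyK i hi, smul_smul, smul_smul, hx3 i hi, one_smul]
  have hfix : ∀ i < m, ∀ j < m, i ≠ j → z i • z j • y • y • cK = z j • y • y • cK := by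
    intro i hi j hj hij
    have e : z i * z j = (z j)⁻¹ * (z i)⁻¹ := by
      have h := h2 i hi.le j hj.le hij
      rw [pow_two] at h
      rw [← mul_inv_rev]
      exact eq_inv_of_mul_eq_one_left h
    have e1 : (z i)⁻¹ • y • y • cK = y • cK := by rw [inv_smul_eq_iff, hyK i hi]
    rw [smul_smul (z i), e, mul_smul, e1, inv_smul_eq_iff, hyy j hj]
  have hyfix : ∀ j < m, y • z j • y • y • cK = z j • y • y • cK := by
    intro j hj
    have e : y * z j * y = (z j)⁻¹ := hxy j hj
    calc y • z j • y • y • cK = (y * z j * y) • y • cK := by simp [mul_smul]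
      _ = _ := by rw [e, inv_smul_eq_iff, hyy j hj]
  let S : Finset (P ⧸ K) :=
    {cK, y • cK, y • y • cK} ∪ (Finset.range m).image fun i => z i • y • y • cK
  have hS : S.card ≤ m + 3 := by
    refine (Finset.card_union_le _ _).trans ?_
    have h1 : ({cK, y • cK, y • y • cK} : Finset (P ⧸ K)).card ≤ 3 := Finset.card_le_three
    have h2 : ((Finset.range m).image fun i => z i • y • y • cK).card ≤ m :=
      Finset.card_image_le.trans (Finset.card_range m).le
    omega
  haveI := hK
  refine Cfsg.Agent.H66.card_le_of_stable K le_rfl (z '' Set.Iic m) hgen S hS (by simp [S, cK]) ?_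
  rintro _ ⟨l, hl, rfl⟩ c hc
  simp only [S, Finset.mem_union, Finset.mem_insert, Finset.mem_singleton, Finset.mem_image,
    Finset.mem_range] at hc ⊢
  rcases (Nat.lt_or_eq_of_le (Set.mem_Iic.mp hl)) with hl | hl
  · rcases hc with (rfl | rfl | rfl) | ⟨j, hj, rfl⟩
    · exact Or.inl (Or.inl (hK1 l hl))
    · exact Or.inl (Or.inr (Or.inr (hyK l hl)))
    · exact Or.inr ⟨l, hl, rfl⟩
    · by_cases hlj : l = j
      · subst hlj
        exact Or.inl (Or.inr (Or.inl (hyy l hl)))
      · exact Or.inr ⟨j, hj, (hfix l hl j hj hlj).symm⟩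
  · subst hl
    rcases hc with (rfl | rfl | rfl) | ⟨j, hj, rfl⟩
    · exact Or.inl (Or.inr (Or.inl rfl))
    · exact Or.inl (Or.inr (Or.inr rfl))
    · exact Or.inl (Or.inl hy1)
    · exact Or.inr ⟨j, hj, (hyfix j hj).symm⟩

/-- Carmichael's bound. -/
theorem card_le_carmichael : ∀ (m : ℕ) {P : Type} [Group P] (z : ℕ → P), (∀ i < m, z i ^ 3 = 1) →
    (∀ i < m, ∀ j < m, i ≠ j → (z i * z j) ^ 2 = 1) → Subgroup.closure (z '' Set.Iio m) = ⊤ →
    Finite P ∧ 2 * Nat.card P ≤ (m + 2).factorial
  | 0, P, _, z, _, _, hgen => by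
      haveI : Subsingleton P := by
        refine ⟨fun a b => ?_⟩
        have ha : ∀ c : P, c = 1 := fun c => by
          have hc : c ∈ Subgroup.closure (z '' Set.Iio 0) := by rw [hgen]; trivial
          simpa using hc
        rw [ha a, ha b]
      exact ⟨inferInstance, by rw [Nat.card_unique]; decide⟩
  | m + 1, P, _, z, h3, h2, hgen => by
      classical
      set K := Subgroup.closure (z '' Set.Iio m) with hK
      let z' : ℕ → K := fun i =>
        if h : i < m then ⟨z i, Subgroup.subset_closure ⟨i, h, rfl⟩⟩ else 1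
      have hz' : ∀ i < m, (z' i : P) = z i := fun i hi => by simp [z', hi]
      obtain ⟨hf, hle⟩ := card_le_carmichael m z'
        (fun i hi => Subtype.ext (by simp [hz' i hi, h3 i (by omega)]))
        (fun i hi j hj hij => Subtype.ext (by
          simp [hz' i hi, hz' j hj, h2 i (by omega) j (by omega) hij]))
        (by
          refine Subgroup.map_injective K.subtype_injective ?_
          rw [MonoidHom.map_closure, ← MonoidHom.range_eq_map, Subgroup.range_subtype]
          conv_rhs => rw [hK]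
          congr 1
          ext g
          constructor
          · rintro ⟨_, ⟨i, hi, rfl⟩, rfl⟩; exact ⟨i, hi, (hz' i hi).symm⟩
          · rintro ⟨i, hi, rfl⟩; exact ⟨z' i, ⟨i, hi, rfl⟩, hz' i hi⟩)
      obtain ⟨h1, h4⟩ := carmichael_step (m := m) z (fun i hi => h3 i (by omega))
        (fun i hi j hj hij => h2 i (by omega) j (by omega) hij)
        (by
          rw [← hgen]
          congr 2
          ext i
          simp [Nat.lt_succ_iff]) hf
      refine ⟨h1, ?_⟩
      calc 2 * Nat.card P ≤ (m + 3) * (2 * Nat.card K) := by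
            rw [mul_left_comm]; exact Nat.mul_le_mul_left 2 h4
        _ ≤ (m + 3) * (m + 2).factorial := Nat.mul_le_mul_left _ hle
        _ = _ := (Nat.factorial_succ (m + 2)).symm

/-- Carmichael's bound over any finite index type. -/
theorem card_le_carmichael' {P : Type} [Group P] {I : Type*} [Fintype I] (z : I → P)
    (h3 : ∀ i, z i ^ 3 = 1) (h2 : ∀ i j, i ≠ j → (z i * z j) ^ 2 = 1)
    (hgen : Subgroup.closure (Set.range z) = ⊤) :
    Finite P ∧ 2 * Nat.card P ≤ (Fintype.card I + 2).factorial := by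
  classical
  let e := Fintype.equivFin I
  let z' : ℕ → P := fun i => if h : i < Fintype.card I then z (e.symm ⟨i, h⟩) else 1
  have hz' : ∀ i (h : i < Fintype.card I), z' i = z (e.symm ⟨i, h⟩) := fun i h => by simp [z', h]
  refine card_le_carmichael (Fintype.card I) z' (fun i hi => by rw [hz' i hi]; exact h3 _)
    (fun i hi j hj hij => by
      rw [hz' i hi, hz' j hj]
      exact h2 _ _ fun h => hij (congrArg Fin.val (e.symm.injective h))) ?_
  rw [← hgen]
  congr 1
  ext g
  constructor
  · rintro ⟨i, hi, rfl⟩; exact ⟨e.symm ⟨i, hi⟩, (hz' i hi).symm⟩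
  · rintro ⟨i, rfl⟩
    exact ⟨e i, (e i).2, by rw [hz' _ (e i).2]; simp⟩

end Bound

section Model

variable {I : Type*} [Fintype I] [DecidableEq I]

/-- The three-cycle `(α β i)`. -/
def zPerm (i : I) : Perm (Fin 2 ⊕ I) :=
  swap (Sum.inl 0) (Sum.inl 1) * swap (Sum.inl 1) (Sum.inr i)

theorem zPerm_mem (i : I) : zPerm i ∈ alternatingGroup (Fin 2 ⊕ I) := by
  rw [mem_alternatingGroup, zPerm, Perm.sign_mul, sign_swap (by simp), sign_swap (by simp)]
  rfl

/-- The Carmichael generator in the alternating group. -/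
def zA (i : I) : alternatingGroup (Fin 2 ⊕ I) := ⟨zPerm i, zPerm_mem i⟩

omit [Fintype I] in
theorem zPerm_cube (i : I) : zPerm i ^ 3 = 1 := by
  rw [pow_succ, pow_two]
  refine Equiv.ext fun x => ?_
  simp only [zPerm, Perm.mul_apply, Perm.one_apply, swap_apply_def]
  rcases x with a | k
  · fin_cases a <;> simp
  · by_cases h : k = i
    · subst h; simp
    · simp [h]

omit [Fintype I] in
theorem zPerm_pair (i j : I) (hij : i ≠ j) : (zPerm i * zPerm j) ^ 2 = 1 := by
  rw [pow_two]
  refine Equiv.ext fun x => ?_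
  simp only [zPerm, Perm.mul_apply, Perm.one_apply, swap_apply_def]
  rcases x with a | k
  · fin_cases a <;> simp [hij, hij.symm]
  · by_cases h : k = i
    · subst h; simp [hij, hij.symm]
    · by_cases h' : k = j
      · subst h'; simp [hij, hij.symm]
      · simp [h, h']

theorem zA_cube (i : I) : zA i ^ 3 = 1 := Subtype.ext (zPerm_cube i)

theorem zA_pair (i j : I) (hij : i ≠ j) : (zA i * zA j) ^ 2 = 1 := Subtype.ext (zPerm_pair i j hij)

omit [Fintype I] in
/-- The transposition `(α β)`. -/
def sab : Perm (Fin 2 ⊕ I) := swap (Sum.inl 0) (Sum.inl 1)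

omit [Fintype I] in
theorem sab_mul_self : (sab : Perm (Fin 2 ⊕ I)) * sab = 1 := Equiv.swap_mul_self _ _

omit [Fintype I] in
theorem sab_zPerm (i : I) : sab * zPerm i * sab = (zPerm i)⁻¹ := by
  rw [zPerm, sab, ← mul_assoc, Equiv.swap_mul_self, one_mul, mul_inv_rev, swap_inv, swap_inv]

theorem zA_gen : Subgroup.closure (Set.range (zA (I := I))) = ⊤ := by
  set H := (Subgroup.closure (Set.range (zA (I := I)))).map
    (alternatingGroup (Fin 2 ⊕ I)).subtype with hH
  have hz : ∀ i, zPerm i ∈ H := fun i => ⟨zA i, Subgroup.subset_closure ⟨i, rfl⟩, rfl⟩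
  have hle : H ≤ alternatingGroup (Fin 2 ⊕ I) := by
    rintro _ ⟨g, -, rfl⟩; exact g.2
  have hsconj : ∀ g ∈ H, sab * g * sab ∈ H := by
    intro g hg
    rw [hH, MonoidHom.map_closure] at hg
    induction hg using Subgroup.closure_induction with
    | mem g hg =>
      obtain ⟨_, ⟨i, rfl⟩, rfl⟩ := hg
      show sab * zPerm i * sab ∈ H
      rw [sab_zPerm]; exact H.inv_mem (hz i)
    | one => rw [mul_one, sab_mul_self]; exact H.one_mem
    | mul a b _ _ ha hb =>
      rw [show sab * (a * b) * sab = (sab * a * sab) * (sab * b * sab) by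
        simp only [mul_assoc]; rw [← mul_assoc (sab : Perm (Fin 2 ⊕ I)) sab, sab_mul_self, one_mul]]
      exact H.mul_mem ha hb
    | inv a _ ha =>
      have : sab * a⁻¹ * sab = (sab * a * sab)⁻¹ := by
        have hi : (sab : Perm (Fin 2 ⊕ I))⁻¹ = sab := inv_eq_of_mul_eq_one_right sab_mul_self
        rw [mul_inv_rev, mul_inv_rev, hi, mul_assoc]
      rw [this]; exact H.inv_mem ha
  let K : Subgroup (Perm (Fin 2 ⊕ I)) :=
    { carrier := {g | g ∈ H ∨ sab * g ∈ H}
      one_mem' := Or.inl H.one_mem
      mul_mem' := by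
        rintro a b (ha | ha) (hb | hb)
        · exact Or.inl (H.mul_mem ha hb)
        · right
          have := H.mul_mem (hsconj a ha) hb
          rwa [show sab * a * sab * (sab * b) = sab * (a * b) by
            simp only [mul_assoc]
            rw [← mul_assoc (sab : Perm (Fin 2 ⊕ I)) sab, sab_mul_self, one_mul]] at this
        · exact Or.inr (by rw [← mul_assoc]; exact H.mul_mem ha hb)
        · left
          have := H.mul_mem (hsconj _ ha) hb
          rwa [show sab * (sab * a) * sab * (sab * b) = a * b by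
            simp only [← mul_assoc, sab_mul_self, one_mul]
            rw [mul_assoc a, sab_mul_self, mul_one]] at this
      inv_mem' := by
        rintro a (ha | ha)
        · exact Or.inl (H.inv_mem ha)
        · right
          have := hsconj _ (H.inv_mem ha)
          have hi : (sab : Perm (Fin 2 ⊕ I))⁻¹ = sab := inv_eq_of_mul_eq_one_right sab_mul_self
          rwa [mul_inv_rev, hi, mul_assoc sab, mul_assoc a⁻¹, sab_mul_self, mul_one] at this }
  have hK : K = ⊤ := by
    have hs : sab ∈ K := Or.inr (by rw [sab_mul_self]; exact H.one_mem)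
    have hb : ∀ i, swap (Sum.inl 1) (Sum.inr i) ∈ K := fun i => by
      have : swap (Sum.inl 1) (Sum.inr i) = sab * zPerm i := by
        rw [zPerm, sab, ← mul_assoc, Equiv.swap_mul_self, one_mul]
      rw [this]
      exact K.mul_mem hs (Or.inl (hz i))
    have ha : ∀ i, swap (Sum.inl 0) (Sum.inr i) ∈ K := fun i => by
      have := K.mul_mem (K.mul_mem hs (hb i)) (K.inv_mem hs)
      rwa [sab, ← swap_apply_apply, swap_apply_right, swap_apply_of_ne_of_ne (by simp) (by simp)]
        at this
    rw [eq_top_iff, ← closure_isSwap, Subgroup.closure_le]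
    rintro _ ⟨x, y, hxy, rfl⟩
    rcases x with x | x <;> rcases y with y | y
    · fin_cases x <;> fin_cases y
      · exact absurd rfl hxy
      · exact hs
      · show swap (Sum.inl 1) (Sum.inl 0) ∈ K
        rw [swap_comm]; exact hs
      · exact absurd rfl hxy
    · fin_cases x
      · exact ha y
      · exact hb y
    · rw [swap_comm]
      fin_cases y
      · exact ha x
      · exact hb x
    · have hne : x ≠ y := fun h => hxy (by rw [h])
      have := K.mul_mem (K.mul_mem (ha x) (hb y)) (ha x)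
      have h2 := K.mul_mem (K.mul_mem (ha x) (ha y)) (K.inv_mem (ha x))
      rwa [← swap_apply_apply, swap_apply_left,
        swap_apply_of_ne_of_ne (by simp) (by simp [hne.symm])] at h2
  rw [eq_top_iff]
  intro g _
  have hg : (g : Perm (Fin 2 ⊕ I)) ∈ K := by rw [hK]; trivial
  rcases hg with hg | hg
  · obtain ⟨g', hg', e⟩ := hg
    rwa [← Subtype.ext e]
  · exfalso
    have h := hle hg
    rw [mem_alternatingGroup, Perm.sign_mul, mem_alternatingGroup.mp g.2, sab,
      sign_swap (by simp)] at h
    exact absurd h (by decide)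

omit [Fintype I] [DecidableEq I] in
/-- `1` or the transposition of the two marked points, by a sign. -/
def two (u : ℤˣ) : Perm (Fin 2) := if u = 1 then 1 else swap 0 1

theorem two_mul (u v : ℤˣ) : two (u * v) = two u * two v := by
  rcases Int.units_eq_one_or u with rfl | rfl <;> rcases Int.units_eq_one_or v with rfl | rfl <;>
    decide

theorem sign_two (u : ℤˣ) : sign (two u) = u := by
  rcases Int.units_eq_one_or u with rfl | rfl <;> decide

/-- The twisted embedding `Perm I → Alt (Fin 2 ⊕ I)`. -/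
def twist : Perm I →* alternatingGroup (Fin 2 ⊕ I) where
  toFun σ := ⟨Perm.sumCongr (two (sign σ)) σ, by
    rw [mem_alternatingGroup, sign_sumCongr, sign_two, Int.units_mul_self]⟩
  map_one' := Subtype.ext (by
    show Perm.sumCongr (two (sign (1 : Perm I))) 1 = 1
    rw [map_one, two, if_pos rfl, Perm.sumCongr_one])
  map_mul' σ τ := Subtype.ext (by
    show Perm.sumCongr (two (sign (σ * τ))) (σ * τ) =
      Perm.sumCongr (two (sign σ)) σ * Perm.sumCongr (two (sign τ)) τ
    rw [map_mul, two_mul, Perm.sumCongr_mul])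

theorem twist_z (σ : Perm I) (i : I) :
    twist σ * zA i * (twist σ)⁻¹ = zA (σ i) ^ ((sign σ : ℤˣ) : ℤ) := by
  apply Subtype.ext
  set F := Perm.sumCongr (two (sign σ)) σ with hF
  show F * zPerm i * F⁻¹ = ((zA (σ i) ^ ((sign σ : ℤˣ) : ℤ) : alternatingGroup (Fin 2 ⊕ I)) : Perm _)
  rw [SubgroupClass.coe_zpow]
  show F * zPerm i * F⁻¹ = zPerm (σ i) ^ ((sign σ : ℤˣ) : ℤ)
  rw [zPerm, show F * (swap (Sum.inl 0) (Sum.inl 1) * swap (Sum.inl 1) (Sum.inr i)) * F⁻¹
      = (F * swap (Sum.inl 0) (Sum.inl 1) * F⁻¹) * (F * swap (Sum.inl 1) (Sum.inr i) * F⁻¹) by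
    simp [mul_assoc], ← swap_apply_apply, ← swap_apply_apply]
  rcases Int.units_eq_one_or (sign σ) with h | h
  · rw [hF, h]
    simp [two, zPerm]
  · rw [hF, h]
    simp only [two, if_neg (by decide : ¬ (-1 : ℤˣ) = 1), Perm.sumCongr_apply, Sum.map_inl,
      Sum.map_inr, swap_apply_left, swap_apply_right, Units.val_neg, Units.val_one, zpow_neg,
      zpow_one]
    rw [zPerm, mul_inv_rev, swap_inv, swap_inv, swap_comm (Sum.inl 1) (Sum.inl 0)]
    have hc := swap_apply_apply (sab : Perm (Fin 2 ⊕ I)) (Sum.inl 1) (Sum.inr (σ i))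
    rw [sab, swap_apply_right, swap_apply_of_ne_of_ne (by simp) (by simp), swap_inv] at hc
    rw [hc, ← mul_assoc, ← mul_assoc, Equiv.swap_mul_self, one_mul]

theorem twist_z_mem (σ : Perm I) (i : I) :
    twist σ * zA i * (twist σ)⁻¹ = zA (σ i) ∨ twist σ * zA i * (twist σ)⁻¹ = (zA (σ i))⁻¹ := by
  rw [twist_z]
  rcases Int.units_eq_one_or (sign σ) with h | h <;> simp [h]

theorem two_mul_card : 2 * Nat.card (alternatingGroup (Fin 2 ⊕ I)) = (Fintype.card I + 2).factorial := by
  have : Nontrivial (Fin 2 ⊕ I) := ⟨⟨Sum.inl 0, Sum.inl 1, by simp⟩⟩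
  rw [two_mul_nat_card_alternatingGroup, Nat.card_perm, Nat.card_eq_fintype_card, Fintype.card_sum,
    Fintype.card_fin, add_comm]

end Model

end Cfsg.Agent.H99.BoundedPres
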