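import Cfsg.Agent.H99.AltWindow

/-!
Bounded presentations of all alternating groups: two overlapping windows.
-/

namespace Cfsg.Agent.H99.BoundedPres

open Equiv Equiv.Perm

/-- Symmetric groups are two-generated. -/
theorem exists_two_gens_perm (α : Type*) [Finite α] :
    ∃ s : Fin 2 → Perm α, Subgroup.closure (Set.range s) = ⊤ := by
  classical
  haveI := Fintype.ofFinite α
  let e := (Fintype.equivFin α).symm
  have key : ∀ n, ∃ s : Fin 2 → Perm (Fin n), Subgroup.closure (Set.range s) = ⊤
    | 0 => ⟨fun _ => 1, Subsingleton.elim _ _⟩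
    | 1 => ⟨fun _ => 1, Subsingleton.elim _ _⟩
    | n + 2 => ⟨![finRotate (n + 2), swap 0 (finRotate (n + 2) 0)], by
        rw [← closure_cycle_adjacent_swap isCycle_finRotate support_finRotate 0]
        congr 1
        ext y
        simp only [Set.mem_range, Fin.exists_fin_two, Set.mem_insert_iff, Set.mem_singleton_iff]
        simp [eq_comm]⟩
  obtain ⟨s, hs⟩ := key (Fintype.card α)
  refine ⟨fun i => (permCongrHom e) (s i), ?_⟩
  have h := congrArg (Subgroup.map (permCongrHom e).toMonoidHom) hs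
  rw [MonoidHom.map_closure, ← Set.range_comp,
    Subgroup.map_top_of_surjective _ (permCongrHom e).surjective] at h
  exact h

section Maps

variable {I J : Type*} [Fintype I] [DecidableEq I] [Fintype J] [DecidableEq J]

theorem sign_via {I J : Type*} [Fintype I] [DecidableEq I] [Fintype J] [DecidableEq J]
    (e : J ↪ I) (σ : Perm J) : sign (σ.viaEmbedding e) = sign σ := by
  classical
  have h := sign_extendDomain σ (Equiv.ofInjective e.1 e.2)
  simp only [Perm.viaEmbedding]
  convert h using 3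

/-- The embedding on the point sets. -/
def ptMap (e : J ↪ I) : Fin 2 ⊕ J ↪ Fin 2 ⊕ I :=
  ⟨Sum.map id e, Function.Injective.sumMap Function.injective_id e.injective⟩

/-- The embedding of alternating groups. -/
noncomputable def altMap (e : J ↪ I) :
    alternatingGroup (Fin 2 ⊕ J) →* alternatingGroup (Fin 2 ⊕ I) :=
  ((viaEmbeddingHom (ptMap e)).comp (alternatingGroup (Fin 2 ⊕ J)).subtype).codRestrict _ fun g => by
    classical
    have hg := mem_alternatingGroup.mp g.2
    rw [mem_alternatingGroup]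
    show sign ((g : Perm (Fin 2 ⊕ J)).viaEmbedding (ptMap e)) = 1
    rw [sign_via, hg]

theorem altMap_coe (e : J ↪ I) (g : alternatingGroup (Fin 2 ⊕ J)) :
    (altMap e g : Perm (Fin 2 ⊕ I)) = (g : Perm (Fin 2 ⊕ J)).viaEmbedding (ptMap e) := rfl

theorem altMap_zA (e : J ↪ I) (j : J) : altMap e (zA j) = zA (e j) := by
  apply Subtype.ext
  rw [altMap_coe]
  show (zPerm j).viaEmbedding (ptMap e) = zPerm (e j)
  refine Equiv.ext fun x => ?_
  by_cases hx : x ∈ Set.range (ptMap e)
  · obtain ⟨y, rfl⟩ := hx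
    rw [viaEmbedding_apply]
    simp only [zPerm, Perm.mul_apply]
    rw [show (Sum.inl 0 : Fin 2 ⊕ I) = ptMap e (Sum.inl 0) from rfl,
      show (Sum.inl 1 : Fin 2 ⊕ I) = ptMap e (Sum.inl 1) from rfl,
      show (Sum.inr (e j) : Fin 2 ⊕ I) = ptMap e (Sum.inr j) from rfl,
      (ptMap e).injective.swap_apply, (ptMap e).injective.swap_apply]
  · rw [viaEmbedding_apply_of_notMem _ _ _ hx]
    have hne : ∀ y, x ≠ ptMap e y := fun y h => hx ⟨y, h.symm⟩
    have h0 : x ≠ (Sum.inl 0 : Fin 2 ⊕ I) := hne (Sum.inl 0)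
    have h1 : x ≠ (Sum.inl 1 : Fin 2 ⊕ I) := hne (Sum.inl 1)
    have h2 : x ≠ (Sum.inr (e j) : Fin 2 ⊕ I) := hne (Sum.inr j)
    simp only [zPerm, Perm.mul_apply]
    rw [swap_apply_of_ne_of_ne h1 h2, swap_apply_of_ne_of_ne h0 h1]

theorem altMap_twist (e : J ↪ I) (σ : Perm J) :
    altMap e (twist σ) = twist (σ.viaEmbedding e) := by
  apply Subtype.ext
  rw [altMap_coe]
  show (Perm.sumCongr (two (sign σ)) σ).viaEmbedding (ptMap e)
    = Perm.sumCongr (two (sign (σ.viaEmbedding e))) (σ.viaEmbedding e)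
  rw [sign_via]
  refine Equiv.ext fun x => ?_
  rcases x with u | i
  · rw [show (Sum.inl u : Fin 2 ⊕ I) = ptMap e (Sum.inl u) from rfl, viaEmbedding_apply]
    rfl
  · by_cases hi : i ∈ Set.range e
    · obtain ⟨j, rfl⟩ := hi
      rw [show (Sum.inr (e j) : Fin 2 ⊕ I) = ptMap e (Sum.inr j) from rfl, viaEmbedding_apply]
      show (Sum.inr (e (σ j)) : Fin 2 ⊕ I) = Sum.inr (σ.viaEmbedding e (e j))
      rw [viaEmbedding_apply]
    · rw [viaEmbedding_apply_of_notMem]
      · show (Sum.inr i : Fin 2 ⊕ I) = Sum.inr (σ.viaEmbedding e i)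
        rw [viaEmbedding_apply_of_notMem _ _ _ hi]
      · rintro ⟨u | j, h⟩
        · exact Sum.inl_ne_inr h
        · exact hi ⟨j, Sum.inr_injective h⟩

omit [Fintype I] [DecidableEq I] [Fintype J] [DecidableEq J] in
theorem via_via {O : Type*} (u : O ↪ J) (e : J ↪ I) (σ : Perm O) :
    (σ.viaEmbedding u).viaEmbedding e = σ.viaEmbedding (u.trans e) := by
  refine Equiv.ext fun x => ?_
  by_cases hx : x ∈ Set.range e
  · obtain ⟨y, rfl⟩ := hx
    rw [viaEmbedding_apply]
    by_cases hy : y ∈ Set.range u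
    · obtain ⟨o, rfl⟩ := hy
      rw [viaEmbedding_apply]
      exact (viaEmbedding_apply σ (u.trans e) o).symm
    · rw [viaEmbedding_apply_of_notMem _ _ _ hy, viaEmbedding_apply_of_notMem]
      rintro ⟨o, ho⟩
      exact hy ⟨o, e.injective ho⟩
  · rw [viaEmbedding_apply_of_notMem _ _ _ hx, viaEmbedding_apply_of_notMem]
    rintro ⟨o, ho⟩
    exact hx ⟨u o, ho⟩

/-- Conjugation by `(α β)` or by the identity, according to a sign. -/
def kappa (u : ℤˣ) : alternatingGroup (Fin 2 ⊕ J) →* alternatingGroup (Fin 2 ⊕ J) :=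
  (MulAut.conjNormal (Perm.sumCongr (two u) (1 : Perm J))).toMonoidHom

theorem kappa_apply (u : ℤˣ) (g : alternatingGroup (Fin 2 ⊕ J)) :
    (kappa u g : Perm (Fin 2 ⊕ J)) =
      Perm.sumCongr (two u) 1 * (g : Perm (Fin 2 ⊕ J)) * (Perm.sumCongr (two u) 1)⁻¹ := rfl

theorem kappa_mul (u v : ℤˣ) (g : alternatingGroup (Fin 2 ⊕ J)) :
    kappa (u * v) g = kappa u (kappa v g) := by
  apply Subtype.ext
  rw [kappa_apply, kappa_apply, kappa_apply, two_mul]
  rw [show Perm.sumCongr (two u * two v) (1 : Perm J)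
    = Perm.sumCongr (two u) 1 * Perm.sumCongr (two v) 1 by rw [Perm.sumCongr_mul, mul_one]]
  generalize Perm.sumCongr (two u) (1 : Perm J) = a
  generalize Perm.sumCongr (two v) (1 : Perm J) = b
  simp [mul_assoc]

theorem kappa_zA (u : ℤˣ) (j : J) : kappa u (zA j) = zA j ^ (u : ℤ) := by
  apply Subtype.ext
  rw [kappa_apply]
  rcases Int.units_eq_one_or u with rfl | rfl
  · simp [two]
  · have h2 : Perm.sumCongr (two (-1)) (1 : Perm J) = sab := by
      rw [two, if_neg (by decide), Perm.sumCongr_swap_one]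
      rfl
    have hi : (sab : Perm (Fin 2 ⊕ J))⁻¹ = sab := inv_eq_of_mul_eq_one_right sab_mul_self
    show _ * zPerm j * _ = _
    rw [h2, hi, sab_zPerm]
    simp [zA]

/-- A twisted permutation away from the second window conjugates it by the sign only. -/
theorem conj_far {e2 : J ↪ I} {σ : Perm I} (hσ : ∀ j, σ (e2 j) = e2 j)
    (y : alternatingGroup (Fin 2 ⊕ J)) :
    twist σ * altMap e2 y * (twist σ)⁻¹ = altMap e2 (kappa (sign σ) y) := by
  have h : ((MulAut.conj (twist σ)).toMonoidHom.comp (altMap e2))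
      = (altMap e2).comp (kappa (sign σ)) := by
    refine hom_ext_closure zA_gen fun j => ?_
    show twist σ * altMap e2 (zA j) * (twist σ)⁻¹ = altMap e2 (kappa (sign σ) (zA j))
    rw [altMap_zA, twist_z, hσ, kappa_zA, map_zpow, altMap_zA]
  exact DFunLike.congr_fun h y

end Maps

section Glue

variable {J : Type} [Fintype J] [DecidableEq J] {I : Type} [Fintype I] [DecidableEq I]
  {G : Type} [Group G]

/-- Extend a relation on generators of the symmetric group of the far set. -/
theorem far_all {D : Type} [Finite D] (π1 π2 : alternatingGroup (Fin 2 ⊕ J) →* G) (v : D ↪ J)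
    {s : Fin 2 → Perm D} (hs : Subgroup.closure (Set.range s) = ⊤) {k : ℕ}
    {f : Fin k → alternatingGroup (Fin 2 ⊕ J)} (hf : Subgroup.closure (Set.range f) = ⊤)
    (h : ∀ a b, π1 (twist ((s a).viaEmbedding v)) * π2 (f b)
      * (π1 (twist ((s a).viaEmbedding v)))⁻¹
        = π2 (kappa (sign ((s a).viaEmbedding v)) (f b)))
    (σ : Perm D) (y : alternatingGroup (Fin 2 ⊕ J)) :
    π1 (twist (σ.viaEmbedding v)) * π2 y * (π1 (twist (σ.viaEmbedding v)))⁻¹
      = π2 (kappa (sign (σ.viaEmbedding v)) y) := by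
  let T : Perm D →* alternatingGroup (Fin 2 ⊕ J) := twist.comp (viaEmbeddingHom v)
  let E : Perm D →* ℤˣ := sign.comp (viaEmbeddingHom v)
  show π1 (T σ) * π2 y * (π1 (T σ))⁻¹ = π2 (kappa (E σ) y)
  have hσ : σ ∈ Subgroup.closure (Set.range s) := by rw [hs]; trivial
  induction hσ using Subgroup.closure_induction generalizing y with
  | mem x hx =>
    obtain ⟨a, rfl⟩ := hx
    have h1 : ((MulAut.conj (π1 (T (s a)))).toMonoidHom.comp π2) = π2.comp (kappa (E (s a))) :=
      hom_ext_closure hf fun b => h a b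
    exact DFunLike.congr_fun h1 y
  | one =>
    rw [map_one T, map_one E, map_one π1]
    have : kappa (1 : ℤˣ) y = y := Subtype.ext (by simp [kappa_apply, two])
    simp [this]
  | mul a b _ _ ha hb =>
    rw [map_mul T, map_mul E, map_mul π1, kappa_mul, ← ha, ← hb]
    simp [mul_assoc]
  | inv a _ ha =>
    have e : E a⁻¹ = E a := by rw [map_inv, Int.units_inv_eq_self]
    have h2 := ha (kappa (E a) y)
    rw [← kappa_mul, Int.units_mul_self] at h2
    have h3 : kappa (1 : ℤˣ) y = y := Subtype.ext (by simp [kappa_apply, two])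
    rw [h3] at h2
    rw [e, map_inv T, map_inv π1, ← h2]
    simp [mul_assoc]

/-- One cross relation spreads along the far symmetric group. -/
theorem cross_all {D : Type} [Finite D] (π1 π2 : alternatingGroup (Fin 2 ⊕ J) →* G) (v : D ↪ J)
    (h : ∀ (σ : Perm D) (y : alternatingGroup (Fin 2 ⊕ J)),
      π1 (twist (σ.viaEmbedding v)) * π2 y * (π1 (twist (σ.viaEmbedding v)))⁻¹
        = π2 (kappa (sign (σ.viaEmbedding v)) y))
    {d0 : D} {j : J} (h0 : (π1 (zA (v d0)) * π2 (zA j)) ^ 2 = 1) (d : D) :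
    (π1 (zA (v d)) * π2 (zA j)) ^ 2 = 1 := by
  classical
  set σ := (swap d0 d).viaEmbedding v with hσ
  have e1 : π1 (twist σ) * π1 (zA (v d0)) * (π1 (twist σ))⁻¹
      = π1 (zA (v d)) ^ ((sign σ : ℤˣ) : ℤ) := by
    rw [← map_inv, ← map_mul, ← map_mul, twist_z, hσ, viaEmbedding_apply, swap_apply_left, map_zpow]
  have e2 : π1 (twist σ) * π2 (zA j) * (π1 (twist σ))⁻¹
      = π2 (zA j) ^ ((sign σ : ℤˣ) : ℤ) := by
    rw [hσ, h, kappa_zA, map_zpow]
  refine conj_zpow_sq (e := sign σ) ?_
  rw [← e1, ← e2, conj_mul, conj_pow, h0, mul_one, mul_inv_cancel]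

/-- Gluing two windows. -/
theorem hasPres_glue {k l : ℕ} (hW : HasPres (alternatingGroup (Fin 2 ⊕ J)) k l) (e1 e2 : J ↪ I)
    (hcov : ∀ i, i ∈ Set.range e1 ∨ i ∈ Set.range e2) :
    HasPres (alternatingGroup (Fin 2 ⊕ I)) (k + k) (l + l + 4 * k + 4) := by
  classical
  obtain ⟨f, R, hR, hfgen, hfsat, huniv⟩ := hW
  choose wd hwd using fun y => exists_word hfgen y
  let i1 : FreeGroup (Fin k) →* FreeGroup (Fin (k + k)) :=
    FreeGroup.lift fun i => FreeGroup.of (Fin.castAdd k i)
  let i2 : FreeGroup (Fin k) →* FreeGroup (Fin (k + k)) :=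
    FreeGroup.lift fun i => FreeGroup.of (Fin.natAdd k i)
  let fb : Fin (k + k) → alternatingGroup (Fin 2 ⊕ I) :=
    Fin.append (fun i => altMap e1 (f i)) (fun i => altMap e2 (f i))
  have l1 : ∀ w, FreeGroup.lift fb (i1 w) = altMap e1 (FreeGroup.lift f w) := by
    intro w
    refine DFunLike.congr_fun (f := (FreeGroup.lift fb).comp i1)
      (g := (altMap e1).comp (FreeGroup.lift f)) (FreeGroup.ext_hom _ _ fun i => ?_) w
    simp [i1, fb]
  have l2 : ∀ w, FreeGroup.lift fb (i2 w) = altMap e2 (FreeGroup.lift f w) := by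
    intro w
    refine DFunLike.congr_fun (f := (FreeGroup.lift fb).comp i2)
      (g := (altMap e2).comp (FreeGroup.lift f)) (FreeGroup.ext_hom _ _ fun i => ?_) w
    simp only [MonoidHom.comp_apply, i2, fb, FreeGroup.lift_apply_of, Fin.append_right]
  -- the common set and the two far sets
  let O := {i : I // i ∈ Set.range e1 ∧ i ∈ Set.range e2}
  let D1 := {i : I // i ∉ Set.range e2}
  let D2 := {i : I // i ∉ Set.range e1}
  have hd1 : ∀ d : D1, (d : I) ∈ Set.range e1 := fun d => (hcov d).resolve_right d.2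
  have hd2 : ∀ d : D2, (d : I) ∈ Set.range e2 := fun d => (hcov d).resolve_left d.2
  let u1 : O ↪ J := ⟨fun o => o.2.1.choose, fun a b h => Subtype.ext (by
    rw [← a.2.1.choose_spec, ← b.2.1.choose_spec]; exact congrArg e1 h)⟩
  let u2 : O ↪ J := ⟨fun o => o.2.2.choose, fun a b h => Subtype.ext (by
    rw [← a.2.2.choose_spec, ← b.2.2.choose_spec]; exact congrArg e2 h)⟩
  let v1 : D1 ↪ J := ⟨fun d => (hd1 d).choose, fun a b h => Subtype.ext (by
    rw [← (hd1 a).choose_spec, ← (hd1 b).choose_spec]; exact congrArg e1 h)⟩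
  let v2 : D2 ↪ J := ⟨fun d => (hd2 d).choose, fun a b h => Subtype.ext (by
    rw [← (hd2 a).choose_spec, ← (hd2 b).choose_spec]; exact congrArg e2 h)⟩
  have hu1 : ∀ o : O, e1 (u1 o) = o := fun o => o.2.1.choose_spec
  have hu2 : ∀ o : O, e2 (u2 o) = o := fun o => o.2.2.choose_spec
  have hv1 : ∀ d : D1, e1 (v1 d) = d := fun d => (hd1 d).choose_spec
  have hv2 : ∀ d : D2, e2 (v2 d) = d := fun d => (hd2 d).choose_spec
  obtain ⟨sO, hsO⟩ := exists_two_gens_perm O
  obtain ⟨s1, hs1⟩ := exists_two_gens_perm D1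
  obtain ⟨s2, hs2⟩ := exists_two_gens_perm D2
  -- the relation lists
  let W1 := fun y => i1 (wd y)
  let W2 := fun y => i2 (wd y)
  let tO1 := fun a => twist ((sO a).viaEmbedding u1)
  let tO2 := fun a => twist ((sO a).viaEmbedding u2)
  let lR : List (FreeGroup (Fin (k + k)) × FreeGroup (Fin (k + k))) :=
    R.toList.map (fun r => (i1 r, 1)) ++ R.toList.map (fun r => (i2 r, 1))
  let lF : List (FreeGroup (Fin (k + k)) × FreeGroup (Fin (k + k))) :=
    (List.finRange 2).flatMap (fun a => (List.finRange k).map fun b =>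
      (W1 (twist ((s1 a).viaEmbedding v1)) * W2 (f b) * (W1 (twist ((s1 a).viaEmbedding v1)))⁻¹,
        W2 (kappa (sign ((s1 a).viaEmbedding v1)) (f b)))) ++
    (List.finRange 2).flatMap (fun a => (List.finRange k).map fun b =>
      (W2 (twist ((s2 a).viaEmbedding v2)) * W1 (f b) * (W2 (twist ((s2 a).viaEmbedding v2)))⁻¹,
        W1 (kappa (sign ((s2 a).viaEmbedding v2)) (f b))))
  let lO : List (FreeGroup (Fin (k + k)) × FreeGroup (Fin (k + k))) :=
    (List.finRange 2).map (fun a => (W1 (tO1 a), W2 (tO2 a))) ++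
      (if h : Nonempty O then [(W1 (zA (u1 h.some)), W2 (zA (u2 h.some)))] else []) ++
      (if h : Nonempty D1 ∧ Nonempty D2 then
        [((W1 (zA (v1 h.1.some)) * W2 (zA (v2 h.2.some))) ^ 2, 1)] else [])
  have hlen : (lR ++ lF ++ lO).length ≤ l + l + 4 * k + 4 := by
    simp only [lR, lF, lO, List.length_append, List.length_map, List.length_flatMap,
      List.length_finRange, Finset.length_toList, List.map_const', List.sum_replicate, smul_eq_mul]
    split_ifs <;> simp <;> omega
  have hgen : Subgroup.closure (Set.range fb) = ⊤ := by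
    rw [eq_top_iff, ← zA_gen, Subgroup.closure_le]
    rintro _ ⟨i, rfl⟩
    rw [SetLike.mem_coe, ← FreeGroup.range_lift_eq_closure]
    rcases hcov i with ⟨j, rfl⟩ | ⟨j, rfl⟩
    · exact ⟨i1 (wd (zA j)), by rw [l1, hwd, altMap_zA]⟩
    · exact ⟨i2 (wd (zA j)), by rw [l2, hwd, altMap_zA]⟩
  refine HasPres.of_list (lR ++ lF ++ lO) hlen fb hgen ?_ ?_
  · have hW1 : ∀ y, FreeGroup.lift fb (W1 y) = altMap e1 y := fun y => by rw [l1, hwd]
    have hW2 : ∀ y, FreeGroup.lift fb (W2 y) = altMap e2 y := fun y => by rw [l2, hwd]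
    intro r hr
    rcases List.mem_append.mp hr with hr | hr
    rcases List.mem_append.mp hr with hr | hr
    · simp only [lR, List.mem_append, List.mem_map, Finset.mem_toList] at hr
      rcases hr with ⟨s, hs, rfl⟩ | ⟨s, hs, rfl⟩
      · simp only [l1, hfsat s hs, map_one]
      · simp only [l2, hfsat s hs, map_one]
    · simp only [lF, List.mem_append, List.mem_flatMap, List.mem_map] at hr
      rcases hr with ⟨a, -, b, -, rfl⟩ | ⟨a, -, b, -, rfl⟩
      · simp only [map_mul, map_inv, hW1, hW2]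
        rw [altMap_twist, via_via, conj_far, sign_via, sign_via]
        intro j
        refine viaEmbedding_apply_of_notMem _ _ _ ?_
        rintro ⟨d, hd⟩
        exact d.2 ⟨j, hd.symm.trans (hv1 d)⟩
      · simp only [map_mul, map_inv, hW1, hW2]
        rw [altMap_twist, via_via, conj_far, sign_via, sign_via]
        intro j
        refine viaEmbedding_apply_of_notMem _ _ _ ?_
        rintro ⟨d, hd⟩
        exact d.2 ⟨j, hd.symm.trans (hv2 d)⟩
    · simp only [lO, List.mem_append, List.mem_map] at hr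
      rcases hr with (⟨a, -, rfl⟩ | hr) | hr
      · simp only [tO1, tO2, hW1, hW2]
        rw [altMap_twist, altMap_twist, via_via, via_via,
          show u1.trans e1 = u2.trans e2 from Function.Embedding.ext fun o => (hu1 o).trans (hu2 o).symm]
      · split_ifs at hr with h
        · rw [List.mem_singleton] at hr
          subst hr
          simp only [hW1, hW2, altMap_zA, hu1, hu2]
        · simp at hr
      · split_ifs at hr with h
        · rw [List.mem_singleton] at hr
          subst hr
          simp only [map_pow, map_mul, map_one, hW1, hW2, altMap_zA, hv1, hv2]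
          refine zA_pair _ _ fun he => ?_
          exact h.1.some.2 (he ▸ hd2 h.2.some)
        · simp at hr
  · intro G _ π hπ hrel θ hθ
    have hr' : ∀ r ∈ lR ++ lF ++ lO, π r.1 = π r.2 := hrel
    let g1 : Fin k → G := fun i => π (i1 (FreeGroup.of i))
    let g2 : Fin k → G := fun i => π (i2 (FreeGroup.of i))
    have hg1 : FreeGroup.lift g1 = π.comp i1 := FreeGroup.ext_hom _ _ fun i => by simp [g1]
    have hg2 : FreeGroup.lift g2 = π.comp i2 := FreeGroup.ext_hom _ _ fun i => by simp [g2]
    obtain ⟨π1, hπ1⟩ := huniv G g1 fun r hr => by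
      have := hr' (i1 r, 1) (List.mem_append_left _ (List.mem_append_left _
        (List.mem_append_left _ (List.mem_map.mpr ⟨r, Finset.mem_toList.mpr hr, rfl⟩))))
      rw [hg1]; simpa using this
    obtain ⟨π2, hπ2⟩ := huniv G g2 fun r hr => by
      have := hr' (i2 r, 1) (List.mem_append_left _ (List.mem_append_left _
        (List.mem_append_right _ (List.mem_map.mpr ⟨r, Finset.mem_toList.mpr hr, rfl⟩))))
      rw [hg2]; simpa using this
    have hP1 : ∀ y, π (W1 y) = π1 y := fun y => by
      have e : π.comp i1 = π1.comp (FreeGroup.lift f) :=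
        FreeGroup.ext_hom _ _ fun i => by simp [hπ1, g1]
      show π.comp i1 (wd y) = _
      rw [e, MonoidHom.comp_apply, hwd]
    have hP2 : ∀ y, π (W2 y) = π2 y := fun y => by
      have e : π.comp i2 = π2.comp (FreeGroup.lift f) :=
        FreeGroup.ext_hom _ _ fun i => by simp [hπ2, g2]
      show π.comp i2 (wd y) = _
      rw [e, MonoidHom.comp_apply, hwd]
    have hfar1 := far_all π1 π2 v1 hs1 hfgen fun a b => by
      have := hr' (W1 (twist ((s1 a).viaEmbedding v1)) * W2 (f b)
          * (W1 (twist ((s1 a).viaEmbedding v1)))⁻¹,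
        W2 (kappa (sign ((s1 a).viaEmbedding v1)) (f b))) (List.mem_append_left _
          (List.mem_append_right _ (List.mem_append_left _ (List.mem_flatMap.mpr
            ⟨a, List.mem_finRange a, List.mem_map.mpr ⟨b, List.mem_finRange b, rfl⟩⟩))))
      simpa only [map_mul, map_inv, hP1, hP2] using this
    have hfar2 := far_all π2 π1 v2 hs2 hfgen fun a b => by
      have := hr' (W2 (twist ((s2 a).viaEmbedding v2)) * W1 (f b)
          * (W2 (twist ((s2 a).viaEmbedding v2)))⁻¹,
        W1 (kappa (sign ((s2 a).viaEmbedding v2)) (f b))) (List.mem_append_left _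
          (List.mem_append_right _ (List.mem_append_right _ (List.mem_flatMap.mpr
            ⟨a, List.mem_finRange a, List.mem_map.mpr ⟨b, List.mem_finRange b, rfl⟩⟩))))
      simpa only [map_mul, map_inv, hP1, hP2] using this
    -- agreement on the common set
    have hOeq : ∀ o : O, π1 (zA (u1 o)) = π2 (zA (u2 o)) := by
      intro o
      have hne : Nonempty O := ⟨o⟩
      have hz0 : π1 (zA (u1 hne.some)) = π2 (zA (u2 hne.some)) := by
        have := hr' (W1 (zA (u1 hne.some)), W2 (zA (u2 hne.some))) (List.mem_append_right _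
          (List.mem_append_left _ (List.mem_append_right _ (by simp [hne]))))
        simpa only [hP1, hP2] using this
      have hhom : π1.comp (twist.comp (viaEmbeddingHom u1)) = π2.comp (twist.comp (viaEmbeddingHom u2)) :=
        hom_ext_closure hsO fun a => by
          have := hr' (W1 (tO1 a), W2 (tO2 a)) (List.mem_append_right _ (List.mem_append_left _
            (List.mem_append_left _ (List.mem_map.mpr ⟨a, List.mem_finRange a, rfl⟩))))
          rw [hP1, hP2] at this
          exact this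
      set σ := swap hne.some o with hσ
      have hT : π1 (twist (σ.viaEmbedding u1)) = π2 (twist (σ.viaEmbedding u2)) :=
        DFunLike.congr_fun hhom σ
      have e1' := congrArg π1 (twist_z (σ.viaEmbedding u1) (u1 hne.some))
      have e2' := congrArg π2 (twist_z (σ.viaEmbedding u2) (u2 hne.some))
      rw [map_mul, map_mul, map_inv, map_zpow, viaEmbedding_apply, sign_via, hσ, swap_apply_left]
        at e1' e2'
      rw [← hσ] at e1' e2'
      rw [hT, hz0, e2'] at e1'
      rcases Int.units_eq_one_or (sign σ) with hs | hs <;> rw [hs] at e1'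
      · simpa using e1'.symm
      · simpa using e1'.symm
    have hcross : ∀ (a : D1) (b : D2), (π1 (zA (v1 a)) * π2 (zA (v2 b))) ^ 2 = 1 := by
      intro a b
      have hne : Nonempty D1 ∧ Nonempty D2 := ⟨⟨a⟩, ⟨b⟩⟩
      have h0 : (π1 (zA (v1 hne.1.some)) * π2 (zA (v2 hne.2.some))) ^ 2 = 1 := by
        have := hr' ((W1 (zA (v1 hne.1.some)) * W2 (zA (v2 hne.2.some))) ^ 2, 1) (List.mem_append_right _
          (List.mem_append_right _ (by rw [dif_pos hne]; exact List.mem_singleton_self _)))
        simpa only [map_pow, map_mul, map_one, hP1, hP2] using this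
      have h1 := cross_all π1 π2 v1 hfar1 h0 a
      have h1' : (π2 (zA (v2 hne.2.some)) * π1 (zA (v1 a))) ^ 2 = 1 := by
        have : π2 (zA (v2 hne.2.some)) * π1 (zA (v1 a))
            = (π1 (zA (v1 a)))⁻¹ * (π1 (zA (v1 a)) * π2 (zA (v2 hne.2.some))) * π1 (zA (v1 a)) := by
          simp [mul_assoc]
        rw [this]
        nth_rewrite 3 [← inv_inv (π1 (zA (v1 a)))]
        rw [conj_pow, h1, mul_one, mul_inv_cancel]
      have h2 := cross_all π2 π1 v2 hfar2 h1' b
      have : π1 (zA (v1 a)) * π2 (zA (v2 b))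
          = (π2 (zA (v2 b)))⁻¹ * (π2 (zA (v2 b)) * π1 (zA (v1 a))) * π2 (zA (v2 b)) := by
        simp [mul_assoc]
      rw [this]
      nth_rewrite 3 [← inv_inv (π2 (zA (v2 b)))]
      rw [conj_pow, h2, mul_one, mul_inv_cancel]
    let zg : I → G := fun i =>
      if h : i ∈ Set.range e1 then π1 (zA h.choose)
      else π2 (zA (hd2 ⟨i, h⟩).choose)
    have hz1 : ∀ j, zg (e1 j) = π1 (zA j) := fun j => by
      have h : e1 j ∈ Set.range e1 := ⟨j, rfl⟩
      simp only [zg, dif_pos h]
      rw [e1.injective h.choose_spec]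
    have hz2 : ∀ j, zg (e2 j) = π2 (zA j) := fun j => by
      by_cases h : e2 j ∈ Set.range e1
      · obtain ⟨j1, hj1⟩ := h
        rw [← hj1, hz1]
        let o : O := ⟨e2 j, ⟨j1, hj1⟩, ⟨j, rfl⟩⟩
        have a1 : u1 o = j1 := e1.injective ((hu1 o).trans hj1.symm)
        have a2 : u2 o = j := e2.injective (hu2 o)
        have := hOeq o
        rwa [a1, a2] at this
      · exact (dif_neg h).trans
          (congrArg (fun x => π2 (zA x)) (e2.injective (hd2 (⟨e2 j, h⟩ : D2)).choose_spec))
    have h3 : ∀ i, zg i ^ 3 = 1 := by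
      intro i
      rcases hcov i with ⟨j, rfl⟩ | ⟨j, rfl⟩
      · rw [hz1, ← map_pow, zA_cube, map_one]
      · rw [hz2, ← map_pow, zA_cube, map_one]
    have h2 : ∀ i i', i ≠ i' → (zg i * zg i') ^ 2 = 1 := by
      have hc : ∀ a b, a ∉ Set.range e2 → b ∉ Set.range e1 → (zg a * zg b) ^ 2 = 1 := by
        intro a b ha hb
        have ea : e1 (v1 ⟨a, ha⟩) = a := hv1 ⟨a, ha⟩
        have eb : e2 (v2 ⟨b, hb⟩) = b := hv2 ⟨b, hb⟩
        rw [← ea, ← eb, hz1, hz2]
        exact hcross _ _
      intro i i' hne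
      by_cases h11 : i ∈ Set.range e1 ∧ i' ∈ Set.range e1
      · obtain ⟨⟨j, rfl⟩, ⟨j', rfl⟩⟩ := h11
        rw [hz1, hz1, ← map_mul, ← map_pow, zA_pair j j' fun h => hne (h ▸ rfl), map_one]
      by_cases h22 : i ∈ Set.range e2 ∧ i' ∈ Set.range e2
      · obtain ⟨⟨j, rfl⟩, ⟨j', rfl⟩⟩ := h22
        rw [hz2, hz2, ← map_mul, ← map_pow, zA_pair j j' fun h => hne (h ▸ rfl), map_one]
      rcases hcov i with hi | hi
      · exact hc i i' (fun h => h22 ⟨h, (hcov i').resolve_left fun h' => h11 ⟨hi, h'⟩⟩)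
          fun h' => h11 ⟨hi, h'⟩
      · have hi' : i' ∉ Set.range e2 := fun h => h22 ⟨hi, h⟩
        have hi1 : i ∉ Set.range e1 := fun h => h11 ⟨h, (hcov i').resolve_right hi'⟩
        have h := hc i' i hi' hi1
        have : zg i * zg i' = (zg i') ⁻¹ * (zg i' * zg i) * zg i' := by simp [mul_assoc]
        rw [this]
        nth_rewrite 3 [← inv_inv (zg i')]
        rw [conj_pow, h, mul_one, mul_inv_cancel]
    have hgG : Subgroup.closure (Set.range zg) = ⊤ := by
      have hh : ∀ (πk : alternatingGroup (Fin 2 ⊕ J) →* G) (ek : J ↪ I),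
          (∀ j, zg (ek j) = πk (zA j)) → ∀ y, πk y ∈ Subgroup.closure (Set.range zg) := by
        intro πk ek hz y
        have hle : (⊤ : Subgroup (alternatingGroup (Fin 2 ⊕ J))).map πk
            ≤ Subgroup.closure (Set.range zg) := by
          rw [← zA_gen, MonoidHom.map_closure, Subgroup.closure_le]
          rintro _ ⟨_, ⟨j, rfl⟩, rfl⟩
          rw [← hz]
          exact Subgroup.subset_closure ⟨_, rfl⟩
        exact hle (Subgroup.mem_map_of_mem πk (Subgroup.mem_top y))
      rw [eq_top_iff]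
      intro y hy
      clear hy
      obtain ⟨w, rfl⟩ := hπ y
      have hw : w ∈ Subgroup.closure (Set.range (FreeGroup.of : Fin (k + k) → _)) := by
        rw [FreeGroup.closure_range_of]; trivial
      induction hw using Subgroup.closure_induction with
      | mem x hx =>
        obtain ⟨i, rfl⟩ := hx
        induction i using Fin.addCases with
        | left i =>
          have : π (FreeGroup.of (Fin.castAdd k i)) = π1 (f i) := by rw [hπ1]; simp [g1, i1]
          rw [this]; exact hh π1 e1 hz1 _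
        | right i =>
          have : π (FreeGroup.of (Fin.natAdd k i)) = π2 (f i) := by rw [hπ2]; simp [g2, i2]
          rw [this]; exact hh π2 e2 hz2 _
      | one => rw [map_one]; exact one_mem _
      | mul x y _ _ hx hy => rw [map_mul]; exact mul_mem hx hy
      | inv x _ hx => rw [map_inv]; exact inv_mem hx
    obtain ⟨hfin, hle⟩ := card_le_carmichael' zg h3 h2 hgG
    refine injective_of_card_le hgen hθ ?_
    have := two_mul_card (I := I)
    omega

end Glue

/-- Small alternating groups, directly. -/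
theorem hasPres_small (m : ℕ) :
    HasPres (alternatingGroup (Fin 2 ⊕ Fin m)) m (m + m * m) := by
  classical
  let l : List (FreeGroup (Fin m) × FreeGroup (Fin m)) :=
    (List.finRange m).map (fun i => (FreeGroup.of i ^ 3, 1)) ++
    (List.finRange m).flatMap (fun i => (List.finRange m).map fun j =>
      (if i = j then (1 : FreeGroup (Fin m)) else (FreeGroup.of i * FreeGroup.of j) ^ 2, 1))
  refine HasPres.of_list l ?_ zA zA_gen ?_ ?_
  · simp [l, List.length_flatMap]
  · intro r hr
    simp only [l, List.mem_append, List.mem_map, List.mem_flatMap] at hr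
    rcases hr with ⟨i, -, rfl⟩ | ⟨i, -, j, -, rfl⟩
    · simp [zA_cube]
    · by_cases h : i = j
      · simp [h]
      · simp [h, zA_pair i j h]
  · intro G _ π hπ hr θ hθ
    have h3 : ∀ i, π (FreeGroup.of i) ^ 3 = 1 := fun i => by
      have := hr (FreeGroup.of i ^ 3, 1) (by simp [l])
      simpa using this
    have h2 : ∀ i j, i ≠ j → (π (FreeGroup.of i) * π (FreeGroup.of j)) ^ 2 = 1 := fun i j hij => by
      have := hr ((FreeGroup.of i * FreeGroup.of j) ^ 2, 1) (by
        simp only [l, List.mem_append, List.mem_flatMap, List.mem_map]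
        exact Or.inr ⟨i, List.mem_finRange _, j, List.mem_finRange _, by simp [hij]⟩)
      simpa using this
    have hg : Subgroup.closure (Set.range fun i => π (FreeGroup.of i)) = ⊤ := by
      have h := congrArg (Subgroup.map π) (FreeGroup.closure_range_of (Fin m))
      rw [MonoidHom.map_closure, ← MonoidHom.range_eq_map, MonoidHom.range_eq_top.mpr hπ,
        ← Set.range_comp] at h
      exact h
    obtain ⟨hfin, hle⟩ := card_le_carmichael' _ h3 h2 hg
    refine injective_of_card_le zA_gen hθ ?_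
    have := two_mul_card (I := Fin m)
    omega

/-- Bounded presentations of `Alt (n)` for all `n`. -/
theorem hasPres_alt (n : ℕ) : ∃ k, k ≤ 6 ∧ HasPres (alternatingGroup (Fin n)) k 32 := by
  classical
  rcases Nat.lt_or_ge n 2 with hn | hn
  · haveI : Subsingleton (alternatingGroup (Fin n)) := by
      haveI : Subsingleton (Fin n) := Fin.subsingleton_iff_le_one.mpr (by omega)
      infer_instance
    exact ⟨0, by omega, ⟨Fin.elim0, ∅, by simp, Subsingleton.elim _ _, by simp,
      fun G _ g _ => ⟨1, fun i => Fin.elim0 i⟩⟩⟩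
  obtain ⟨m, rfl⟩ : ∃ m, n = 2 + m := ⟨n - 2, by omega⟩
  suffices h : ∃ k, k ≤ 6 ∧ HasPres (alternatingGroup (Fin 2 ⊕ Fin m)) k 32 by
    obtain ⟨k, hk, h⟩ := h
    exact ⟨k, hk, h.of_mulEquiv (Equiv.altCongrHom finSumFinEquiv)⟩
  rcases Nat.lt_or_ge m 4 with hm | hm
  · refine ⟨m, by omega, (hasPres_small m).mono ?_⟩
    interval_cases m <;> simp
  obtain ⟨p, hp, hlt, hle⟩ := Nat.exists_prime_lt_and_le_two_mul (m / 2) (by omega)
  haveI : Fact p.Prime := ⟨hp⟩
  let e1 : ZMod p ↪ Fin m := ⟨fun x => ⟨x.val, by have := x.val_lt; omega⟩, fun x y h => by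
    simpa [Fin.ext_iff, (ZMod.val_injective p).eq_iff] using h⟩
  let e2 : ZMod p ↪ Fin m := ⟨fun x => ⟨x.val + (m - p), by have := x.val_lt; omega⟩, fun x y h => by
    simpa [Fin.ext_iff, (ZMod.val_injective p).eq_iff] using h⟩
  refine ⟨3 + 3, le_rfl, (hasPres_glue (hasPres_window p (by omega)) e1 e2 fun i => ?_).mono
    (by norm_num)⟩
  rcases Nat.lt_or_ge i.val p with h | h
  · exact Or.inl ⟨(i.val : ZMod p), Fin.ext (ZMod.val_natCast_of_lt h)⟩
  · refine Or.inr ⟨((i.val - (m - p) : ℕ) : ZMod p), Fin.ext ?_⟩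
    show ((i.val - (m - p) : ℕ) : ZMod p).val + (m - p) = i.val
    rw [ZMod.val_natCast_of_lt (by have := i.isLt; omega)]
    omega

end Cfsg.Agent.H99.BoundedPres
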