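import Mathlib

/-!
Bounded presentations as a closed toolkit: `HasPres T k l` says that `T` has `k` generators
subject to at most `l` relations, in the universal form. Transport, quotient by a cyclic normal
subgroup, and the change to two generators.
-/

namespace Cfsg.Agent.H99.BoundedPres

/-- `T` has a presentation with `k` generators and at most `l` relations. -/
def HasPres (T : Type*) [Group T] (k l : ℕ) : Prop :=
  ∃ (f : Fin k → T) (rels : Finset (FreeGroup (Fin k))), rels.card ≤ l ∧
    Subgroup.closure (Set.range f) = ⊤ ∧ (∀ r ∈ rels, FreeGroup.lift f r = 1) ∧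
    ∀ (G : Type) [Group G] (g : Fin k → G), (∀ r ∈ rels, FreeGroup.lift g r = 1) →
      ∃ φ : T →* G, ∀ i, φ (f i) = g i

theorem exists_word {T : Type*} [Group T] {α : Type*} {f : α → T}
    (hf : Subgroup.closure (Set.range f) = ⊤) (z : T) :
    ∃ w : FreeGroup α, FreeGroup.lift f w = z := by
  have : z ∈ (FreeGroup.lift f).range := by
    rw [FreeGroup.range_lift_eq_closure, hf]
    trivial
  exact this

theorem hom_ext_closure {T G : Type*} [Group T] [Group G] {α : Type*} {f : α → T}
    (hf : Subgroup.closure (Set.range f) = ⊤) {φ ψ : T →* G} (h : ∀ i, φ (f i) = ψ (f i)) :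
    φ = ψ :=
  MonoidHom.eq_of_eqOn_dense hf (by rintro _ ⟨i, rfl⟩; exact h i)

theorem HasPres.toPresentation {T : Type*} [Group T] {k l : ℕ} (h : HasPres T k l) :
    ∃ rels : Finset (FreeGroup (Fin k)), rels.card ≤ l ∧
      Nonempty (PresentedGroup (↑rels : Set (FreeGroup (Fin k))) ≃* T) := by
  obtain ⟨f, rels, hc, hgen, hsat, huniv⟩ := h
  refine ⟨rels, hc, ?_⟩
  let R : Set (FreeGroup (Fin k)) := ↑rels
  have hR : ∀ r ∈ R, FreeGroup.lift f r = 1 := fun r hr => hsat r (Finset.mem_coe.mp hr)
  let θ : PresentedGroup R →* T := PresentedGroup.toGroup hR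
  have e : FreeGroup.lift (PresentedGroup.of (rels := R)) = PresentedGroup.mk R :=
    FreeGroup.ext_hom _ _ fun i => by rw [FreeGroup.lift_apply_of]; rfl
  obtain ⟨φ, hφ⟩ := huniv (PresentedGroup R) (PresentedGroup.of (rels := R))
    (fun r hr => by rw [e]; exact PresentedGroup.one_of_mem (Finset.mem_coe.mpr hr))
  have hθ : ∀ i, θ (PresentedGroup.of i) = f i := fun i => PresentedGroup.toGroup.of hR
  exact ⟨MonoidHom.toMulEquiv θ φ
    (PresentedGroup.ext fun i => by rw [MonoidHom.comp_apply, hθ, hφ, MonoidHom.id_apply])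
    (hom_ext_closure hgen fun i => by rw [MonoidHom.comp_apply, hφ, hθ, MonoidHom.id_apply])⟩

theorem HasPres.of_presentation {T : Type*} [Group T] {k l : ℕ}
    {rels : Finset (FreeGroup (Fin k))} (hc : rels.card ≤ l)
    (e : PresentedGroup (↑rels : Set (FreeGroup (Fin k))) ≃* T) : HasPres T k l := by
  refine ⟨fun i => e (PresentedGroup.of i), rels, hc, ?_, fun r hr => ?_, fun G _ g hg => ?_⟩
  · have h := congrArg (Subgroup.map e.toMonoidHom)
      (PresentedGroup.closure_range_of (↑rels : Set (FreeGroup (Fin k))))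
    rw [MonoidHom.map_closure, ← Set.range_comp, Subgroup.map_top_of_surjective _ e.surjective]
      at h
    exact h
  · have e1 : FreeGroup.lift (fun i => e (PresentedGroup.of i))
        = e.toMonoidHom.comp (PresentedGroup.mk (↑rels : Set (FreeGroup (Fin k)))) := by
      ext i
      simp [PresentedGroup.of]
    rw [e1, MonoidHom.comp_apply, PresentedGroup.one_of_mem (Finset.mem_coe.mpr hr), map_one]
  · exact ⟨(PresentedGroup.toGroup (f := g) hg).comp e.symm.toMonoidHom, fun i => by simp⟩

/-- A list of relation pairs forcing injectivity gives a presentation. -/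
theorem HasPres.of_list {T : Type*} [Group T] {k n : ℕ}
    (l : List (FreeGroup (Fin k) × FreeGroup (Fin k))) (hl : l.length ≤ n) (f : Fin k → T)
    (hgen : Subgroup.closure (Set.range f) = ⊤)
    (hsat : ∀ r ∈ l, FreeGroup.lift f r.1 = FreeGroup.lift f r.2)
    (hinj : ∀ (G : Type) [Group G] (π : FreeGroup (Fin k) →* G), Function.Surjective π →
      (∀ r ∈ l, π r.1 = π r.2) → ∀ θ : G →* T, θ.comp π = FreeGroup.lift f →
        Function.Injective θ) : HasPres T k n := by
  classical
  set R : Finset (FreeGroup (Fin k)) := (l.map fun r => r.1 * r.2⁻¹).toFinset with hR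
  have hmem : ∀ r, r ∈ R ↔ ∃ a ∈ l, a.1 * a.2⁻¹ = r := by
    intro r
    simp [hR]
  have hrel : ∀ r ∈ (↑R : Set (FreeGroup (Fin k))), FreeGroup.lift f r = 1 := by
    intro r hr
    obtain ⟨a, ha, rfl⟩ := (hmem r).mp (Finset.mem_coe.mp hr)
    rw [map_mul, map_inv, hsat a ha, mul_inv_cancel]
  let θ := PresentedGroup.toGroup hrel
  have hθ : θ.comp (PresentedGroup.mk (↑R : Set (FreeGroup (Fin k)))) = FreeGroup.lift f := by
    ext i
    simp only [MonoidHom.comp_apply, FreeGroup.lift_apply_of]
    exact PresentedGroup.toGroup.of hrel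
  have hi : Function.Injective θ := hinj (PresentedGroup (↑R : Set (FreeGroup (Fin k))))
    (PresentedGroup.mk _) (PresentedGroup.mk_surjective _)
    (fun a ha => PresentedGroup.mk_eq_mk_of_mul_inv_mem
      (Finset.mem_coe.mpr ((hmem _).mpr ⟨a, ha, rfl⟩))) θ hθ
  have hs : Function.Surjective θ := by
    rw [← MonoidHom.range_eq_top, eq_top_iff, ← hgen, Subgroup.closure_le]
    rintro _ ⟨i, rfl⟩
    exact ⟨PresentedGroup.of i, PresentedGroup.toGroup.of hrel⟩
  exact HasPres.of_presentation
    (((List.toFinset_card_le _).trans (by rw [List.length_map]; exact hl)) : R.card ≤ n)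
    (MulEquiv.ofBijective θ ⟨hi, hs⟩)

/-- An order bound gives injectivity. -/
theorem injective_of_card_le {T G : Type*} [Group T] [Group G] [Finite T] [Finite G] {k : ℕ}
    {f : Fin k → T} (hgen : Subgroup.closure (Set.range f) = ⊤) {π : FreeGroup (Fin k) →* G}
    {θ : G →* T} (hθ : θ.comp π = FreeGroup.lift f) (hcard : Nat.card G ≤ Nat.card T) :
    Function.Injective θ := by
  have hs : Function.Surjective θ := by
    rw [← MonoidHom.range_eq_top, eq_top_iff, ← hgen, Subgroup.closure_le]
    rintro _ ⟨i, rfl⟩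
    exact ⟨π (FreeGroup.of i), by rw [← MonoidHom.comp_apply, hθ, FreeGroup.lift_apply_of]⟩
  exact (hs.bijective_of_nat_card_le hcard).1

theorem HasPres.of_mulEquiv {T T' : Type*} [Group T] [Group T'] {k l : ℕ} (h : HasPres T k l)
    (e : T ≃* T') : HasPres T' k l := by
  obtain ⟨rels, hc, ⟨e0⟩⟩ := h.toPresentation
  exact HasPres.of_presentation hc (e0.trans e)

theorem HasPres.mono {T : Type*} [Group T] {k l l' : ℕ} (h : HasPres T k l) (hl : l ≤ l') :
    HasPres T k l' := by
  obtain ⟨f, rels, hc, h'⟩ := h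
  exact ⟨f, rels, hc.trans hl, h'⟩

/-- One more relation for the quotient by a normal cyclic subgroup. -/
theorem HasPres.quotient {T : Type*} [Group T] {k l : ℕ} (h : HasPres T k l) (N : Subgroup T)
    [N.Normal] {z : T} (hz : N = Subgroup.zpowers z) : HasPres (T ⧸ N) k (l + 1) := by
  classical
  obtain ⟨f, rels, hc, hgen, hsat, huniv⟩ := h
  obtain ⟨w, hw⟩ := exists_word hgen z
  have hlift : FreeGroup.lift (fun i => QuotientGroup.mk' N (f i))
      = (QuotientGroup.mk' N).comp (FreeGroup.lift f) := by
    ext i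
    simp
  refine ⟨fun i => QuotientGroup.mk' N (f i), insert w rels,
    (Finset.card_insert_le _ _).trans (by omega), ?_, fun r hr => ?_, fun G _ g hg => ?_⟩
  · have h' := congrArg (Subgroup.map (QuotientGroup.mk' N)) hgen
    rw [MonoidHom.map_closure, ← Set.range_comp,
      Subgroup.map_top_of_surjective _ (QuotientGroup.mk'_surjective N)] at h'
    exact h'
  · rw [hlift, MonoidHom.comp_apply]
    rcases Finset.mem_insert.mp hr with rfl | hr
    · rw [hw]
      exact (QuotientGroup.eq_one_iff _).mpr (hz ▸ Subgroup.mem_zpowers z)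
    · rw [hsat r hr, map_one]
  · obtain ⟨φ, hφ⟩ := huniv G g fun r hr => hg r (Finset.mem_insert_of_mem hr)
    have hφl : FreeGroup.lift g = φ.comp (FreeGroup.lift f) := by
      ext i
      simp [hφ]
    have hN : N ≤ φ.ker := by
      rw [hz, Subgroup.zpowers_le, MonoidHom.mem_ker, ← hw, ← MonoidHom.comp_apply, ← hφl]
      exact hg w (Finset.mem_insert_self _ _)
    exact ⟨QuotientGroup.lift N φ hN, fun i => hφ i⟩

/-- Change to two generators at the cost of two relations. -/
theorem HasPres.two {T : Type*} [Group T] {k l : ℕ} (h : HasPres T k l) {a b : T}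
    (hab : Subgroup.closure ({a, b} : Set T) = ⊤) : HasPres T 2 (l + 2) := by
  classical
  obtain ⟨f, rels, hc, hgen, hsat, huniv⟩ := h
  have hab' : Subgroup.closure (Set.range ![a, b]) = ⊤ := by
    rw [← hab]
    congr 1
    ext y
    simp only [Set.mem_range, Fin.exists_fin_two, Set.mem_insert_iff, Set.mem_singleton_iff]
    simp [eq_comm]
  choose w hw using fun i => exists_word hab' (f i)
  choose v hv using fun i => exists_word hgen (![a, b] i)
  have hsub : (FreeGroup.lift ![a, b]).comp (FreeGroup.lift w) = FreeGroup.lift f := by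
    ext i
    simp [hw]
  refine ⟨![a, b], rels.image (FreeGroup.lift w) ∪
    Finset.univ.image (fun i => (FreeGroup.of i)⁻¹ * FreeGroup.lift w (v i)), ?_, hab',
    fun r hr => ?_, fun G _ g hg => ?_⟩
  · refine (Finset.card_union_le _ _).trans (add_le_add (Finset.card_image_le.trans hc) ?_)
    exact Finset.card_image_le.trans (by simp)
  · rcases Finset.mem_union.mp hr with hr | hr
    · obtain ⟨s, hs, rfl⟩ := Finset.mem_image.mp hr
      rw [← MonoidHom.comp_apply, hsub, hsat s hs]
    · obtain ⟨i, -, rfl⟩ := Finset.mem_image.mp hr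
      rw [map_mul, map_inv, FreeGroup.lift_apply_of, ← MonoidHom.comp_apply, hsub, hv,
        inv_mul_cancel]
  · have hgw : FreeGroup.lift (fun i => FreeGroup.lift g (w i))
        = (FreeGroup.lift g).comp (FreeGroup.lift w) := by
      ext i
      simp
    obtain ⟨φ, hφ⟩ := huniv G (fun i => FreeGroup.lift g (w i)) fun r hr => by
      rw [hgw]
      exact hg _ (Finset.mem_union_left _ (Finset.mem_image_of_mem _ hr))
    have hφl : φ.comp (FreeGroup.lift f) = (FreeGroup.lift g).comp (FreeGroup.lift w) := by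
      rw [← hgw]
      ext i
      simp [hφ]
    refine ⟨φ, fun i => ?_⟩
    have h1 := hg _ (Finset.mem_union_right (rels.image (FreeGroup.lift w))
      (Finset.mem_image_of_mem (fun i => (FreeGroup.of i)⁻¹ * FreeGroup.lift w (v i))
        (Finset.mem_univ i)))
    rw [map_mul, map_inv, FreeGroup.lift_apply_of, inv_mul_eq_one] at h1
    calc φ (![a, b] i) = φ.comp (FreeGroup.lift f) (v i) := by rw [MonoidHom.comp_apply, hv]
      _ = _ := by rw [hφl, MonoidHom.comp_apply, ← h1]

end Cfsg.Agent.H99.BoundedPres
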