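import Cfsg.Agent.H99.ShortPresRels
import Cfsg.Agent.Linear.Generation
import Cfsg.Agent.Linear.Order

/-!
The SL(2,q) model for the short presentations, and the presentations of SL(2,q) and PSL(2,q).
-/

namespace Cfsg.Agent.H99.ShortPres

open Polynomial Matrix

section Model

variable {F : Type*} [Field F]

local notation "SL2" => Matrix.SpecialLinearGroup (Fin 2) F

/-- Upper unitriangular element. -/
def up (u : F) : SL2 := ⟨!![1, u; 0, 1], by simp [Matrix.det_fin_two]⟩

/-- Diagonal element. -/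
def dg (s : Fˣ) : SL2 := ⟨!![(s : F), 0; 0, ((s⁻¹ : Fˣ) : F)], by simp [Matrix.det_fin_two]⟩

/-- The Weyl element. -/
def wm : SL2 := ⟨!![0, 1; -1, 0], by simp [Matrix.det_fin_two]⟩

theorem SL_ext {g h : SL2}
    (H : (g : Matrix (Fin 2) (Fin 2) F) = (h : Matrix (Fin 2) (Fin 2) F)) : g = h := Subtype.ext H

theorem up_add (u v : F) : up (u + v) = up u * up v := by
  apply SL_ext
  try simp only [Matrix.SpecialLinearGroup.coe_mul]
  ext i j
  fin_cases i <;> fin_cases j <;> simp [up, Matrix.mul_apply, Fin.sum_univ_two, add_comm]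

theorem up_zero : up (0 : F) = 1 := by
  apply SL_ext
  try simp only [Matrix.SpecialLinearGroup.coe_mul]
  ext i j
  fin_cases i <;> fin_cases j <;> simp [up]

theorem dg_mul (s r : Fˣ) : dg (s * r) = dg s * dg r := by
  apply SL_ext
  try simp only [Matrix.SpecialLinearGroup.coe_mul]
  ext i j
  fin_cases i <;> fin_cases j <;> simp [dg, Matrix.mul_apply, Fin.sum_univ_two, mul_comm]

theorem dg_one : dg (1 : Fˣ) = 1 := by
  apply SL_ext
  try simp only [Matrix.SpecialLinearGroup.coe_mul]
  ext i j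
  fin_cases i <;> fin_cases j <;> simp [dg]

theorem dg_pow (s : Fˣ) (n : ℕ) : dg s ^ n = dg (s ^ n) := by
  induction n with
  | zero => simp [dg_one]
  | succ n ih => rw [pow_succ, pow_succ, dg_mul, ih]

theorem dg_up (s : Fˣ) (u : F) : dg s * up u = up ((s : F) ^ 2 * u) * dg s := by
  apply SL_ext
  try simp only [Matrix.SpecialLinearGroup.coe_mul]
  ext i j
  fin_cases i <;> fin_cases j <;> simp [up, dg, Matrix.mul_apply, Fin.sum_univ_two]
  field_simp

theorem wm_dg (s : Fˣ) : wm * dg s * wm⁻¹ * dg s = 1 := by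
  have e : wm * dg s = (dg s)⁻¹ * wm := by
    rw [eq_inv_mul_iff_mul_eq]
    apply SL_ext
    try simp only [Matrix.SpecialLinearGroup.coe_mul]
    ext i j
    fin_cases i <;> fin_cases j <;> simp [wm, dg, Matrix.mul_apply, Fin.sum_univ_two]
  rw [e, mul_inv_cancel_right, inv_mul_cancel]

theorem wm_sq : (wm : SL2) * wm = dg (-1) := by
  apply SL_ext
  try simp only [Matrix.SpecialLinearGroup.coe_mul]
  ext i j
  fin_cases i <;> fin_cases j <;> simp [wm, dg, Matrix.mul_apply, Fin.sum_univ_two]

theorem up_wm_cube : (up (1 : F) * wm) ^ 3 = 1 := by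
  rw [pow_succ, pow_two]
  apply SL_ext
  try simp only [Matrix.SpecialLinearGroup.coe_mul]
  ext i j
  fin_cases i <;> fin_cases j <;> simp [up, wm, Matrix.mul_apply, Fin.sum_univ_two]

theorem wm_up_wm (u : Fˣ) :
    wm * up (u : F) * wm = up (-(u : F)⁻¹) * wm * dg (-u) * up (-(u : F)⁻¹) := by
  apply SL_ext
  try simp only [Matrix.SpecialLinearGroup.coe_mul]
  ext i j
  fin_cases i <;> fin_cases j <;> simp [up, dg, wm, Matrix.mul_apply, Fin.sum_univ_two]

theorem cnj_up (s : Fˣ) (i n : ℕ) :
    cnj (dg s ^ i) (up (1 : F)) n = up ((((s : F) ^ 2) ^ i) ^ n) := by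
  rw [cnj, mul_inv_eq_iff_eq_mul, dg_pow, dg_pow, dg_up]
  congr 2
  push_cast
  rw [mul_one, ← pow_mul, ← pow_mul, ← pow_mul, ← pow_mul]
  congr 1
  ring

variable {p : ℕ} [Fact p.Prime] [Algebra (ZMod p) F]

theorem wordP_up (s : Fˣ) (i : ℕ) (P : (ZMod p)[X]) :
    wordP (dg s ^ i) (up (1 : F)) P = up (aeval (((s : F) ^ 2) ^ i) P) := by
  let Y : Multiplicative F →* SL2 :=
    MonoidHom.mk' (fun a => up (Multiplicative.toAdd a)) fun a b => up_add _ _
  exact wordP_eq (Y := Y) (fun n => cnj_up s i n) P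

theorem wordP_up_one (s : Fˣ) (P : (ZMod p)[X]) :
    wordP (dg s) (up (1 : F)) P = up (aeval ((s : F) ^ 2) P) := by
  simpa using wordP_up s 1 P

theorem closure_model (s : Fˣ) (hgen : ∀ u : F, ∃ P : (ZMod p)[X], aeval ((s : F) ^ 2) P = u) :
    Subgroup.closure ({up 1, dg s, wm} : Set SL2) = ⊤ := by
  set H := Subgroup.closure ({up 1, dg s, wm} : Set SL2) with hH
  have h1 : up (1 : F) ∈ H := Subgroup.subset_closure (by simp)
  have h2 : dg s ∈ H := Subgroup.subset_closure (by simp)
  have h3 : (wm : SL2) ∈ H := Subgroup.subset_closure (by simp)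
  have hup : ∀ u : F, up u ∈ H := by
    intro u
    obtain ⟨P, hP⟩ := hgen u
    rw [← hP, ← wordP_up_one]
    have hle : orbitClosure (dg s) (up (1 : F)) ≤ H := by
      refine (Subgroup.closure_le _).mpr ?_
      rintro _ ⟨n, rfl⟩
      exact H.mul_mem (H.mul_mem (H.zpow_mem h2 n) h1) (H.inv_mem (H.zpow_mem h2 n))
    exact hle (wordP_mem _ _ P)
  refine Cfsg.Agent.Linear.eq_top_of_transvection_mem fun i j hij c => ?_
  fin_cases i <;> fin_cases j
  · exact absurd rfl hij
  · convert hup c using 1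
    apply SL_ext
    try simp only [Matrix.SpecialLinearGroup.coe_mul]
    ext a b
    fin_cases a <;> fin_cases b <;>
      simp [up, Matrix.SpecialLinearGroup.transvection, Matrix.transvection, Matrix.single]
  · convert H.mul_mem (H.mul_mem h3 (hup (-c))) (H.inv_mem h3) using 1
    rw [eq_mul_inv_iff_mul_eq]
    apply SL_ext
    try simp only [Matrix.SpecialLinearGroup.coe_mul]
    ext a b
    fin_cases a <;> fin_cases b <;>
      simp [up, wm, Matrix.SpecialLinearGroup.transvection, Matrix.transvection, Matrix.single,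
        Matrix.mul_apply, Fin.sum_univ_two]
  · exact absurd rfl hij

end Model

section Params

variable {F : Type*} [Field F] [Fintype F] {p : ℕ} [Fact p.Prime] [Algebra (ZMod p) F]

omit [Fintype F] in
/-- Every element is a polynomial in `z` when `z` lies in no proper intermediate field. -/
theorem exists_aeval_of_top [Finite F] {z : F}
    (h : ∀ K : IntermediateField (ZMod p) F, z ∈ K → K = ⊤) (u : F) :
    ∃ P : (ZMod p)[X], aeval z P = u := by
  have e := h (IntermediateField.adjoin (ZMod p) {z})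
    (IntermediateField.mem_adjoin_simple_self _ z)
  have e2 := congrArg IntermediateField.toSubalgebra e
  rw [IntermediateField.adjoin_simple_toSubalgebra_of_isAlgebraic
    (IsIntegral.of_finite _ z).isAlgebraic, IntermediateField.top_toSubalgebra,
    Algebra.adjoin_singleton_eq_range_aeval] at e2
  have hu : u ∈ (aeval z : (ZMod p)[X] →ₐ[ZMod p] F).range := e2 ▸ Algebra.mem_top
  exact hu

omit [Fintype F] in
theorem adj_cases [Finite F] (ω : Fˣ) (hω : ∀ y : Fˣ, y ∈ Subgroup.zpowers ω)
    (K : IntermediateField (ZMod p) F)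
    (hz : ((ω : F) ^ 2 + ((ω⁻¹ : Fˣ) : F) ^ 2) ∈ K) :
    K = ⊤ ∨ Nat.card F ≤ 9 ∧ (ω : F) ^ 2 ∉ K := by
  haveI := Fintype.ofFinite F
  haveI := Fintype.ofFinite K
  by_cases hK : K = ⊤
  · exact Or.inl hK
  refine Or.inr ?_
  set Q := Fintype.card K with hQ
  have hQ2 : 2 ≤ Q := Fintype.one_lt_card
  have hq : ∃ e, 2 ≤ e ∧ Nat.card F = Q ^ e := by
    refine ⟨Module.finrank K F, ?_, ?_⟩
    · by_contra hlt
      have h0 := Module.finrank_pos (R := K) (M := F)
      exact hK (IntermediateField.finrank_eq_one_iff_eq_top.mp (by omega))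
    · rw [hQ, Nat.card_eq_fintype_card]; exact Module.card_eq_pow_finrank
  obtain ⟨e, he, hqe⟩ := hq
  have hord : orderOf ω = Nat.card F - 1 := by
    rw [orderOf_eq_card_of_forall_mem_zpowers hω, Nat.card_units]
  have hge : Q * Q ≤ Nat.card F := by
    rw [hqe, ← pow_two]; exact Nat.pow_le_pow_right (by omega) he
  have hnot : (ω : F) ^ 2 ∉ K := by
    intro hm
    have h1 := FiniteField.pow_card (⟨(ω : F) ^ 2, hm⟩ : K)
    have h2 : ((ω : F) ^ 2) ^ Q = (ω : F) ^ 2 := congrArg (fun a : K => (a : F)) h1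
    have h3 : (ω ^ 2) ^ Q = ω ^ 2 := Units.ext (by push_cast; exact h2)
    rw [← pow_mul, pow_eq_pow_iff_modEq, hord, Nat.ModEq.comm,
      Nat.modEq_iff_dvd' (by omega)] at h3
    have h4 := Nat.le_of_dvd (by omega) h3
    have h5 : 2 * Q ≤ Q * Q := Nat.mul_le_mul_right _ hQ2
    omega
  refine ⟨?_, hnot⟩
  haveI : CharP K p := charP_of_injective_algebraMap (algebraMap (ZMod p) K).injective p
  obtain ⟨n, -, hn⟩ := FiniteField.card K p
  have hp : CharP F p := charP_of_injective_algebraMap (algebraMap (ZMod p) F).injective p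
  set σ := iterateFrobenius F p n with hσ
  have hσa : ∀ a : F, σ a = a ^ Q := fun a => by rw [hσ, iterateFrobenius_def, hQ, hn]
  set z := (ω : F) ^ 2 + ((ω⁻¹ : Fˣ) : F) ^ 2 with hzdef
  have hzQ : σ z = z := by
    rw [hσa]
    exact congrArg (fun a : K => (a : F)) (FiniteField.pow_card (⟨z, hz⟩ : K))
  have hi : (ω : F) * ((ω⁻¹ : Fˣ) : F) = 1 := by simp
  have hroot : ((ω : F) ^ 2) ^ Q = (ω : F) ^ 2 ∨ ((ω : F) ^ 2) ^ Q = ((ω⁻¹ : Fˣ) : F) ^ 2 := by
    have h0 : ((ω : F) ^ 2) ^ 2 - z * (ω : F) ^ 2 + 1 = 0 := by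
      rw [hzdef]
      linear_combination -((ω : F) * ((ω⁻¹ : Fˣ) : F) + 1) * hi
    have h1 := congrArg σ h0
    simp only [map_sub, map_add, map_mul, map_pow, map_one, map_zero, hzQ] at h1
    rw [hσa, ← pow_mul (ω : F) Q 2, mul_comm Q 2, pow_mul] at h1
    set y := ((ω : F) ^ 2) ^ Q
    have h2 : (y - (ω : F) ^ 2) * (y - ((ω⁻¹ : Fˣ) : F) ^ 2) = 0 := by
      rw [hzdef] at h1
      linear_combination h1 + ((ω : F) * ((ω⁻¹ : Fˣ) : F) + 1) * hi
    rcases mul_eq_zero.mp h2 with h | h
    · exact Or.inl (sub_eq_zero.mp h)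
    · exact Or.inr (sub_eq_zero.mp h)
  rcases hroot with h | h
  · have h3 : (ω ^ 2) ^ Q = ω ^ 2 := Units.ext (by push_cast; exact h)
    rw [← pow_mul, pow_eq_pow_iff_modEq, hord, Nat.ModEq.comm,
      Nat.modEq_iff_dvd' (by omega)] at h3
    have h4 := Nat.le_of_dvd (by omega) h3
    have h5 : 2 * Q ≤ Q * Q := Nat.mul_le_mul_right _ hQ2
    omega
  · have h3 : (ω ^ 2) ^ Q = (ω⁻¹) ^ 2 := Units.ext (by push_cast; simpa using h)
    rw [inv_pow, eq_inv_iff_mul_eq_one, ← pow_mul, ← pow_add,
      ← orderOf_dvd_iff_pow_eq_one, hord] at h3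
    have h4 := Nat.le_of_dvd (by omega) h3
    have h6 : Q ≤ 3 := by
      by_contra hQ4
      have h5 : 4 * Q ≤ Q * Q := Nat.mul_le_mul_right _ (by omega)
      omega
    have h7 : Q * Q ≤ 9 := Nat.mul_le_mul h6 h6
    by_contra h9
    have : 3 ≤ e := by
      by_contra he3
      have he2 : e = 2 := by omega
      subst he2
      rw [pow_two] at hqe
      omega
    have h8 : Q ^ 3 ≤ Nat.card F := hqe ▸ Nat.pow_le_pow_right (by omega) this
    interval_cases Q <;> omega

theorem gen_of_generator (ω : Fˣ) (hω : ∀ y : Fˣ, y ∈ Subgroup.zpowers ω) (u : F) :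
    ∃ P : (ZMod p)[X], aeval ((ω : F) ^ 2) P = u := by
  refine exists_aeval_of_top (fun K hK => ?_) u
  have h1 : ((ω⁻¹ : Fˣ) : F) ^ 2 ∈ K := by
    simpa [Units.val_inv_eq_inv_val, inv_pow] using K.inv_mem hK
  exact (adj_cases ω hω K (K.add_mem hK h1)).resolve_right fun h => h.2 hK

omit [Fintype F] [Fact p.Prime] [Algebra (ZMod p) F] in
theorem eq_pow_of_ne_zero [Finite F] (ω : Fˣ) (hω : ∀ y : Fˣ, y ∈ Subgroup.zpowers ω) {u : F}
    (hu : u ≠ 0) : ∃ m : ℕ, u = (ω : F) ^ m := by
  obtain ⟨m, hm⟩ := mem_powers_iff_mem_zpowers.mpr (hω (Units.mk0 u hu))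
  exact ⟨m, by simpa using (congrArg Units.val hm).symm⟩

end Params

section Main

universe w

variable {F : Type w} [Field F] [Fintype F]

local notation "SL2" => Matrix.SpecialLinearGroup (Fin 2) F

theorem sat_map {G H : Type*} [Group G] [Group H] (f : G →* H) {l : List (G × G)} (hl : Sat l) :
    Sat (l.map (Prod.map f f)) := by
  intro r hr
  obtain ⟨a, ha, rfl⟩ := List.mem_map.mp hr
  simp [hl a ha]

theorem sat_of_map {G H : Type*} [Group G] [Group H] (f : G →* H) {l : List (G × G)}
    (hl : ∀ r ∈ l, f r.1 = f r.2) : Sat (l.map (Prod.map f f)) := by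
  intro r hr
  obtain ⟨a, ha, rfl⟩ := List.mem_map.mp hr
  simp [hl a ha]

theorem of_sat_map {G H : Type*} [Group G] [Group H] (f : G →* H) {l : List (G × G)}
    (hl : Sat (l.map (Prod.map f f))) : ∀ r ∈ l, f r.1 = f r.2 := fun r hr =>
  hl _ (List.mem_map.mpr ⟨r, hr, rfl⟩)

theorem closure_gen {G : Type*} [Group G] (π : FreeGroup (Fin 3) →* G)
    (hπ : Function.Surjective π) :
    Subgroup.closure ({π (FreeGroup.of 0), π (FreeGroup.of 1), π (FreeGroup.of 2)} : Set G) = ⊤ := by
  have h := congrArg (Subgroup.map π) (FreeGroup.closure_range_of (Fin 3))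
  rw [MonoidHom.map_closure, ← MonoidHom.range_eq_map, MonoidHom.range_eq_top.mpr hπ] at h
  rw [← h]
  congr 1
  ext g
  simp [Fin.exists_fin_succ, eq_comm]

/-- The presentations for SL(2,q), or for a quotient of half the order killing `wm * wm`. -/
theorem exists_pres {T : Type w} [Group T] [Finite T] (f : SL2 →* T)
    (hf : Function.Surjective f)
    (hcase : Nat.card T = Fintype.card F * (Fintype.card F ^ 2 - 1) ∨
      (f (wm * wm) = 1 ∧ 2 * Nat.card T = Fintype.card F * (Fintype.card F ^ 2 - 1) ∧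
        Odd (Fintype.card F))) :
    (∃ rels : Finset (FreeGroup (Fin 3)), rels.card ≤ 9 ∧
        Nonempty (PresentedGroup (↑rels : Set (FreeGroup (Fin 3))) ≃* T)) ∧
      (CharP F 2 → ∃ rels : Finset (FreeGroup (Fin 3)), rels.card ≤ 5 ∧
        Nonempty (PresentedGroup (↑rels : Set (FreeGroup (Fin 3))) ≃* T)) := by
  obtain ⟨p, hch⟩ := CharP.exists F
  haveI hpf : Fact p.Prime := ⟨CharP.char_is_prime F p⟩
  letI : Algebra (ZMod p) F := ZMod.algebra F p
  obtain ⟨d, -, hqd⟩ := FiniteField.card F p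
  obtain ⟨ω, hω⟩ := IsCyclic.exists_generator (α := Fˣ)
  set q := Fintype.card F with hq
  have hq2 : 2 ≤ q := Fintype.one_lt_card
  have hgen := fun u => gen_of_generator (p := p) ω hω u
  set ζ := (ω : F) ^ 2 with hζdef
  have hζ : ζ ≠ 0 := pow_ne_zero _ ω.ne_zero
  set g : Fin 3 → T := ![f (up 1), f (dg ω), f wm] with hg
  have hgenT : Subgroup.closure (Set.range g) = ⊤ := by
    have h := congrArg (Subgroup.map f) (closure_model (p := p) ω hgen)
    rw [MonoidHom.map_closure, ← MonoidHom.range_eq_map, MonoidHom.range_eq_top.mpr hf] at h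
    rw [← h]
    congr 1
    ext y
    simp only [hg, Set.mem_range, Fin.exists_fin_succ, Set.image_insert_eq, Set.image_singleton,
      Set.mem_insert_iff, Set.mem_singleton_iff]
    simp [eq_comm]
  have hord : orderOf ω = q - 1 := by
    rw [orderOf_eq_card_of_forall_mem_zpowers hω, Nat.card_units, Nat.card_eq_fintype_card]
  have hωq : (ω : F) ^ q = ω := FiniteField.pow_card _
  have hsq : q ^ 2 - 1 = (q - 1) * (q + 1) := by
    have := Nat.sq_sub_sq q 1
    rw [one_pow] at this
    rw [this, mul_comm]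
  rcases Nat.even_or_odd q with hev | hodd
  · -- characteristic two
    have hp2 : p = 2 := by
      have h2 : 2 ∣ p ^ (d : ℕ) := hqd ▸ hev.two_dvd
      exact ((Nat.prime_dvd_prime_iff_eq Nat.prime_two hpf.out).mp
        (Nat.prime_two.dvd_of_dvd_pow h2)).symm
    have hT : Nat.card T = q * (q ^ 2 - 1) := by
      rcases hcase with h | h
      · exact h
      · exact absurd hev (Nat.not_even_iff_odd.mpr h.2.2)
    subst hp2
    have hneg : (-1 : Fˣ) = 1 := Units.ext (by push_cast; exact CharTwo.neg_eq _)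
    suffices h5 : ∃ rels : Finset (FreeGroup (Fin 3)), rels.card ≤ 5 ∧
        Nonempty (PresentedGroup (↑rels : Set (FreeGroup (Fin 3))) ≃* T) by
      obtain ⟨R, hR, hi⟩ := h5
      exact ⟨⟨R, by omega, hi⟩, fun _ => ⟨R, hR, hi⟩⟩
    have hxx : up (1 : F) * up 1 = 1 := by
      rw [← up_add, CharTwo.add_self_eq_zero, up_zero]
    have htt : (wm : SL2) * wm = 1 := by rw [wm_sq, hneg, dg_one]
    rcases Nat.eq_or_lt_of_le hq2 with hq2e | hq4
    · -- two elements
      set x := FreeGroup.of (0 : Fin 3)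
      set hh := FreeGroup.of (1 : Fin 3)
      set tt := FreeGroup.of (2 : Fin 3)
      refine exists_rels (relsMin x hh tt) (by simp [relsMin]) g hgenT ?_ ?_
      · apply of_sat_map
        rw [map_relsMin]
        simp only [x, hh, tt, FreeGroup.lift_apply_of, hg]
        rw [show (![f (up 1), f (dg ω), f wm] : Fin 3 → T) 0 = f (up 1) from rfl,
          show (![f (up 1), f (dg ω), f wm] : Fin 3 → T) 1 = f (dg ω) from rfl,
          show (![f (up 1), f (dg ω), f wm] : Fin 3 → T) 2 = f wm from rfl, ← map_relsMin]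
        refine sat_map f ?_
        have hω1 : ω = 1 := by rw [← orderOf_eq_one_iff, hord]; omega
        simp [Sat, relsMin, hxx, htt, up_wm_cube, hω1, dg_one]
      · intro G _ π hπ hr
        have hs := sat_of_map π hr
        rw [map_relsMin] at hs
        obtain ⟨h1, h2⟩ := bound_min (F := F) (p := 2) hq2e.symm rfl hs (closure_gen π hπ)
        refine ⟨h1, h2.trans (le_of_eq ?_)⟩
        rw [hT, ← hq, ← hq2e]
        norm_num
    · -- at least four
      have hne : (1 : F) + ζ ≠ 0 := by
        intro h0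
        have h1 : ω ^ 2 = 1 := Units.ext (by
          push_cast
          have := eq_neg_of_add_eq_zero_right h0
          rwa [CharTwo.neg_eq] at this)
        have h2 := Nat.le_of_dvd two_pos (orderOf_dvd_of_pow_eq_one h1)
        rw [hord] at h2
        obtain ⟨c, hc⟩ := hev
        omega
      have hall : ∀ u : F, u ≠ 0 → ∃ n : ℕ, u = ζ ^ n := by
        intro u hu
        obtain ⟨m, rfl⟩ := eq_pow_of_ne_zero ω hω hu
        obtain ⟨c, hc⟩ := hev
        refine ⟨m * c, ?_⟩
        rw [hζdef, ← pow_mul, show 2 * (m * c) = q * m by rw [hc]; ring, pow_mul, hωq]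
      obtain ⟨j, hj⟩ := hall _ hne
      set x := FreeGroup.of (0 : Fin 3)
      set hh := FreeGroup.of (1 : Fin 3)
      set tt := FreeGroup.of (2 : Fin 3)
      refine exists_rels (relsTwo (minpoly (ZMod 2) ζ) (q - 1) j x hh tt) (by simp [relsTwo]) g
        hgenT ?_ ?_
      · apply of_sat_map
        rw [map_relsTwo]
        simp only [x, hh, tt, FreeGroup.lift_apply_of, hg]
        rw [show (![f (up 1), f (dg ω), f wm] : Fin 3 → T) 0 = f (up 1) from rfl,
          show (![f (up 1), f (dg ω), f wm] : Fin 3 → T) 1 = f (dg ω) from rfl,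
          show (![f (up 1), f (dg ω), f wm] : Fin 3 → T) 2 = f wm from rfl, ← map_relsTwo]
        refine sat_map f ?_
        have e1 := cnj_up ω 1 1
        have ej := cnj_up ω j 1
        simp only [cnj, pow_one, ← hζdef] at e1 ej
        simp only [Sat, relsTwo, List.forall_mem_cons, List.not_mem_nil, IsEmpty.forall_iff,
          implies_true, and_true]
        refine ⟨hxx, ?_, ?_, wm_dg ω, ?_⟩
        · rw [ej, e1, ← up_add, hj]
        · rw [wordP_up_one, minpoly.aeval, up_zero, dg_pow, ← hord, pow_orderOf_eq_one, dg_one]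
        · rw [up_wm_cube, htt]
      · intro G _ π hπ hr
        have hs := sat_of_map π hr
        rw [map_relsTwo] at hs
        obtain ⟨h1, h2⟩ := bound_two (F := F) rfl (by omega) hζ hgen hall hs (closure_gen π hπ)
        refine ⟨h1, h2.trans (le_of_eq ?_)⟩
        rw [hT, ← hq, hsq, mul_assoc]
  · -- odd characteristic
    refine ⟨?_, fun h2 => ?_⟩
    swap
    · exfalso
      rw [hq] at hodd
      exact Nat.not_even_iff_odd.mpr hodd
        (FiniteField.even_card_iff_char_two.mp (ringChar.eq F 2) |> Nat.even_iff.mpr)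
    have hp2 : p ≠ 2 := by
      rintro rfl
      rw [hqd] at hodd
      exact Nat.not_even_iff_odd.mpr hodd ((Nat.even_pow).mpr ⟨even_two, d.ne_zero⟩)
    have h2F : (2 : F) ≠ 0 := by
      intro h0
      have := (CharP.cast_eq_zero_iff F p 2).mp (by exact_mod_cast h0)
      exact hp2 ((Nat.prime_dvd_prime_iff_eq hpf.out Nat.prime_two).mp this)
    obtain ⟨k, hk⟩ := hodd
    have hk0 : 0 < k := by omega
    have hωk : ω ^ k = -1 := by
      have h1 : (((ω ^ k : Fˣ) : F)) ^ 2 = 1 := by
        rw [← Units.val_pow_eq_pow_val, ← pow_mul, show k * 2 = q - 1 by omega, ← hord,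
          pow_orderOf_eq_one, Units.val_one]
      rcases sq_eq_one_iff.mp h1 with h | h
      · have := Nat.le_of_dvd hk0 (orderOf_dvd_of_pow_eq_one (Units.ext h))
        rw [hord] at this
        omega
      · exact Units.ext (by simpa using h)
    have hrep : ∀ u : F, u ≠ 0 → ∃ n : ℕ, u = ζ ^ n ∨ u = ζ ^ n * (ω : F) := by
      intro u hu
      obtain ⟨m, rfl⟩ := eq_pow_of_ne_zero ω hω hu
      refine ⟨m / 2, ?_⟩
      rcases Nat.mod_two_eq_zero_or_one m with h | h
      · left; rw [hζdef, ← pow_mul]; congr 1; omega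
      · right; rw [hζdef, ← pow_mul, ← pow_succ]; congr 1; omega
    obtain ⟨Pw, hPw⟩ := hgen (ω : F)
    obtain ⟨Pc, hPc⟩ := hgen (-(ω : F)⁻¹)
    have hhk : dg ω ^ k = wm * wm := by rw [dg_pow, hωk, wm_sq]
    have hxp : up (1 : F) ^ p = 1 := by
      have e : ∀ n : ℕ, up (1 : F) ^ n = up (n : F) := by
        intro n
        induction n with
        | zero => simp [up_zero]
        | succ n ih => rw [pow_succ, ih, ← up_add, Nat.cast_succ]
      rw [e, CharP.cast_eq_zero, up_zero]
    have hcomm : ∀ u : F, up (1 : F) * up u = up u * up 1 := fun u => by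
      rw [← up_add, ← up_add, add_comm]
    have hw : wm * wordP (dg ω) (up (1 : F)) Pw * wm
        = wordP (dg ω) (up (1 : F)) Pc * wm * dg ω ^ (k + 1) * wordP (dg ω) (up (1 : F)) Pc := by
      rw [wordP_up_one, wordP_up_one, ← hζdef, hPw, hPc, wm_up_wm, dg_pow, pow_succ, hωk,
        neg_one_mul]
    obtain ⟨extra, N, hN, hextra, hlen, hNT⟩ : ∃ (extra : List
        (FreeGroup (Fin 3) × FreeGroup (Fin 3))) (N : ℕ), 0 < N ∧
        (∀ r ∈ extra, FreeGroup.lift g r.1 = FreeGroup.lift g r.2) ∧ extra.length ≤ 1 ∧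
        (q * N * (q + 1) = Nat.card T ∧ ∀ (G : Type) [Group G] (π : FreeGroup (Fin 3) →* G),
          (∀ r ∈ extra, π r.1 = π r.2) →
            (N = k ∧ π (FreeGroup.of 2) * π (FreeGroup.of 2) = 1) ∨ N = 2 * k) := by
      rcases hcase with h | h
      · refine ⟨[], 2 * k, by omega, by simp, by simp, ?_, fun G _ π _ => Or.inr rfl⟩
        rw [h, hsq, show q - 1 = 2 * k by omega, mul_assoc]
      · refine ⟨[(FreeGroup.of 2 * FreeGroup.of 2, 1)], k, hk0, ?_, by simp, ?_,
          fun G _ π hr => Or.inl ⟨rfl, ?_⟩⟩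
        · intro r hr
          rw [List.mem_singleton] at hr
          subst hr
          simp only [map_mul, map_one, FreeGroup.lift_apply_of, hg]
          rw [← h.1, map_mul]
          rfl
        · have h2 := h.2.1
          rw [hsq, show q - 1 = 2 * k by omega,
            show q * (2 * k * (q + 1)) = 2 * (q * k * (q + 1)) by ring] at h2
          omega
        · simpa using hr _ (List.mem_singleton.mpr rfl)
    set x := FreeGroup.of (0 : Fin 3)
    set hh := FreeGroup.of (1 : Fin 3)
    set tt := FreeGroup.of (2 : Fin 3)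
    have hgx : FreeGroup.lift g x = f (up 1) := by simp [x, hg]
    have hgh : FreeGroup.lift g hh = f (dg ω) := by simp [hh, hg]
    have hgt : FreeGroup.lift g tt = f wm := by simp [tt, hg]
    rcases le_or_gt q 9 with hsmall | hbig
    · -- small fields
      have hdeg : (minpoly (ZMod p) ζ).natDegree ≤ 2 := by
        refine (minpoly.natDegree_le ζ).trans ?_
        have hc := Module.card_eq_pow_finrank (K := ZMod p) (V := F)
        rw [ZMod.card, ← hq] at hc
        by_contra h3
        have hp3 : 3 ≤ p := by have := hpf.out.two_le; omega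
        have : 3 ^ 3 ≤ p ^ Module.finrank (ZMod p) F :=
          (Nat.pow_le_pow_left hp3 3).trans (Nat.pow_le_pow_right (by omega) (by omega))
        omega
      refine exists_rels (relsSmall (minpoly (ZMod p) ζ) Pw Pc k x hh tt ++ extra)
        (by simp [relsSmall]; omega) g hgenT ?_ ?_
      · intro r hr
        rcases List.mem_append.mp hr with hr | hr
        · revert r
          suffices H : ∀ r ∈ relsSmall (minpoly (ZMod p) ζ) Pw Pc k x hh tt,
              FreeGroup.lift g r.1 = FreeGroup.lift g r.2 by intro r _ hr; exact H r hr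
          apply of_sat_map
          rw [map_relsSmall, hgx, hgh, hgt, ← map_relsSmall]
          refine sat_map f ?_
          have e1 := cnj_up ω 1 1
          simp only [cnj, pow_one, ← hζdef] at e1
          simp only [Sat, relsSmall, List.forall_mem_cons, List.not_mem_nil, IsEmpty.forall_iff,
            implies_true, and_true]
          exact ⟨hxp, by rw [e1]; exact hcomm _,
            by rw [wordP_up_one, minpoly.aeval, up_zero], hhk, wm_dg ω, up_wm_cube, hw⟩
        · exact hextra r hr
      · intro G _ π hπ hr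
        have hs := sat_of_map π (l := relsSmall (minpoly (ZMod p) ζ) Pw Pc k x hh tt)
          fun r h => hr r (List.mem_append_left _ h)
        rw [map_relsSmall] at hs
        obtain ⟨h1, h2⟩ := bound_small (F := F) hN hζ hgen hrep hdeg hPw hs
          (hNT.2 G π fun r h => hr r (List.mem_append_right _ h)) (closure_gen π hπ)
        exact ⟨h1, h2.trans (le_of_eq (by rw [← hq]; exact hNT.1))⟩
    · -- generic fields
      have hne : ∀ m : ℕ, 0 < m → m ≤ 4 → ω ^ m ≠ 1 := by
        intro m hm0 hm4 h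
        have := Nat.le_of_dvd hm0 (orderOf_dvd_of_pow_eq_one h)
        rw [hord] at this
        omega
      set a : F := ((ω : F) - (ω : F)⁻¹) / 2 with ha
      set b : F := ((ω : F) + (ω : F)⁻¹) / 2 with hb
      have hω0 : (ω : F) ≠ 0 := ω.ne_zero
      have hab : b ^ 2 = 1 + a ^ 2 := by rw [ha, hb]; field_simp; ring
      have ha0 : a ≠ 0 := by
        intro h0
        rw [ha, div_eq_zero_iff, or_iff_left h2F, sub_eq_zero] at h0
        refine hne 2 two_pos (by norm_num) (Units.ext ?_)
        push_cast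
        nth_rewrite 1 [pow_two]
        nth_rewrite 2 [h0]
        exact mul_inv_cancel₀ hω0
      have hb0 : b ≠ 0 := by
        intro h0
        rw [hb, div_eq_zero_iff, or_iff_left h2F, add_eq_zero_iff_eq_neg] at h0
        refine hne 4 (by norm_num) le_rfl (Units.ext ?_)
        push_cast
        have h1 : (ω : F) ^ 2 = -1 := by
          rw [pow_two]; nth_rewrite 2 [h0]; rw [mul_neg, mul_inv_cancel₀ hω0]
        rw [show 4 = 2 * 2 from rfl, pow_mul, h1]; norm_num
      obtain ⟨i, hi⟩ := eq_pow_of_ne_zero ω hω ha0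
      obtain ⟨j, hj⟩ := eq_pow_of_ne_zero ω hω hb0
      have hXgen : ∀ u : F, ∃ P : (ZMod p)[X], aeval (a ^ 2) P = u := by
        refine exists_aeval_of_top fun K hK => ?_
        have hz : ((ω : F) ^ 2 + ((ω⁻¹ : Fˣ) : F) ^ 2) ∈ K := by
          have e : (ω : F) ^ 2 + ((ω⁻¹ : Fˣ) : F) ^ 2 = (4 : ℕ) * a ^ 2 + (2 : ℕ) := by
            rw [ha, Units.val_inv_eq_inv_val]; field_simp; ring
          rw [e]
          exact K.add_mem (K.mul_mem (natCast_mem K 4) hK) (natCast_mem K 2)
        rcases adj_cases ω hω K hz with h | h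
        · exact h
        · rw [Nat.card_eq_fintype_card, ← hq] at h; omega
      obtain ⟨R, hR⟩ := hXgen ζ
      have hzi : ζ ^ i = a ^ 2 := by rw [hζdef, ← pow_mul, mul_comm, pow_mul, hi]
      have hzj : ζ ^ j = b ^ 2 := by rw [hζdef, ← pow_mul, mul_comm, pow_mul, hj]
      refine exists_rels (relsGen (minpoly (ZMod p) ζ) R Pw Pc k i j x hh tt ++ extra)
        (by simp [relsGen]; omega) g hgenT ?_ ?_
      · intro r hr
        rcases List.mem_append.mp hr with hr | hr
        · revert r
          suffices H : ∀ r ∈ relsGen (minpoly (ZMod p) ζ) R Pw Pc k i j x hh tt,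
              FreeGroup.lift g r.1 = FreeGroup.lift g r.2 by intro r _ hr; exact H r hr
          apply of_sat_map
          rw [map_relsGen, hgx, hgh, hgt, ← map_relsGen]
          refine sat_map f ?_
          have e1 := cnj_up ω 1 1
          have ei := cnj_up ω i 1
          have ej := cnj_up ω j 1
          simp only [cnj, pow_one, ← hζdef] at e1 ei ej
          simp only [Sat, relsGen, List.forall_mem_cons, List.not_mem_nil, IsEmpty.forall_iff,
            implies_true, and_true]
          refine ⟨hxp, by rw [ei]; exact hcomm _, ?_, ?_, ?_, wm_dg ω, up_wm_cube, hw⟩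
          · rw [ej, ei, ← up_add, hzi, hzj, hab]
          · rw [e1, wordP_up, ← hζdef, hzi, hR]
          · rw [wordP_up_one, minpoly.aeval, up_zero, mul_one, hhk]
        · exact hextra r hr
      · intro G _ π hπ hr
        have hs := sat_of_map π (l := relsGen (minpoly (ZMod p) ζ) R Pw Pc k i j x hh tt)
          fun r h => hr r (List.mem_append_left _ h)
        rw [map_relsGen] at hs
        obtain ⟨h1, h2⟩ := bound_gen (F := F) hN hζ hgen hrep hPw hs
          (hNT.2 G π fun r h => hr r (List.mem_append_right _ h)) (closure_gen π hπ)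
        exact ⟨h1, h2.trans (le_of_eq (by rw [← hq]; exact hNT.1))⟩

end Main

end Cfsg.Agent.H99.ShortPres
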