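import Cfsg.Agent.H99.SLThreeRels
import Cfsg.Agent.Linear.Generation
import Cfsg.Agent.H99.ShortPresModel

/-!
SL(3,q) has a presentation with four generators and at most fourteen relations.
-/

namespace Cfsg.Agent.H99.SLThree

open Polynomial Matrix Cfsg.Agent.H99.ShortPres

section Model

variable {F : Type*} [Field F]

local notation "SL3" => Matrix.SpecialLinearGroup (Fin 3) F

/-- Elementary transvection. -/
def el (i j : Fin 3) (h : i ≠ j) (u : F) : SL3 := Matrix.SpecialLinearGroup.transvection h u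

/-- Diagonal element `diag(a, b, 1/(ab))`. -/
def dd (a b : Fˣ) : SL3 :=
  ⟨!![(a : F), 0, 0; 0, b, 0; 0, 0, ((a * b)⁻¹ : Fˣ)], by
    simp [Matrix.det_fin_three]; field_simp⟩

/-- The Weyl element of the (0,1) block. -/
def tm : SL3 := ⟨!![0, 1, 0; -1, 0, 0; 0, 0, 1], by simp [Matrix.det_fin_three]⟩

/-- The three-cycle. -/
def cm : SL3 := ⟨!![0, 0, 1; 1, 0, 0; 0, 1, 0], by simp [Matrix.det_fin_three]⟩

theorem SL_ext3 {g h : SL3}
    (H : (g : Matrix (Fin 3) (Fin 3) F) = (h : Matrix (Fin 3) (Fin 3) F)) : g = h := Subtype.ext H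

/-- `el 0 1`. -/
def xm (u : F) : SL3 := el 0 1 (by decide) u

theorem el_add (i j : Fin 3) (h : i ≠ j) (u v : F) : el i j h (u + v) = el i j h u * el i j h v :=
  SL_ext3 (by
    rw [Matrix.SpecialLinearGroup.coe_mul]
    exact (Matrix.transvection_mul_transvection_same _ _ h u v).symm)

theorem el_zero (i j : Fin 3) (h : i ≠ j) : el i j h (0 : F) = 1 :=
  SL_ext3 (Matrix.transvection_zero i j)

theorem dd_mul (a b a' b' : Fˣ) : dd (a * a') (b * b') = dd a b * dd a' b' := by
  apply SL_ext3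
  rw [Matrix.SpecialLinearGroup.coe_mul]
  ext i j
  fin_cases i <;> fin_cases j <;> simp [dd, Matrix.mul_apply, Fin.sum_univ_three]
  ring

theorem dd_one : dd (1 : Fˣ) 1 = 1 := by
  apply SL_ext3
  ext i j
  fin_cases i <;> fin_cases j <;> simp [dd]

theorem dd_pow (a b : Fˣ) (n : ℕ) : dd a b ^ n = dd (a ^ n) (b ^ n) := by
  induction n with
  | zero => simp [dd_one]
  | succ n ih => rw [pow_succ, pow_succ, pow_succ, dd_mul, ih]

theorem dd_inv (a b : Fˣ) : (dd a b)⁻¹ = dd a⁻¹ b⁻¹ :=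
  inv_eq_of_mul_eq_one_right (by rw [← dd_mul, mul_inv_cancel, mul_inv_cancel, dd_one])

theorem dd_xm (a b : Fˣ) (u : F) :
    dd a b * xm u * (dd a b)⁻¹ = xm ((a : F) * (b : F)⁻¹ * u) := by
  rw [mul_inv_eq_iff_eq_mul]
  apply SL_ext3
  simp only [Matrix.SpecialLinearGroup.coe_mul]
  ext i j
  fin_cases i <;> fin_cases j <;>
    simp [dd, xm, el, Matrix.SpecialLinearGroup.transvection, Matrix.transvection, Matrix.single,
      Matrix.mul_apply, Fin.sum_univ_three]
  field_simp

theorem cm_dd_l (a : Fˣ) : cm⁻¹ * dd 1 a * cm = dd a a⁻¹ := by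
  rw [mul_assoc, inv_mul_eq_iff_eq_mul]
  apply SL_ext3
  simp only [Matrix.SpecialLinearGroup.coe_mul]
  ext i j
  fin_cases i <;> fin_cases j <;> simp [dd, cm, Matrix.mul_apply, Fin.sum_univ_three]

theorem cm_dd_r (a : Fˣ) : cm * dd 1 a * cm⁻¹ = dd a⁻¹ 1 := by
  rw [mul_inv_eq_iff_eq_mul]
  apply SL_ext3
  simp only [Matrix.SpecialLinearGroup.coe_mul]
  ext i j
  fin_cases i <;> fin_cases j <;> simp [dd, cm, Matrix.mul_apply, Fin.sum_univ_three]

theorem tm_dd (a b : Fˣ) : tm * dd a b * tm⁻¹ = dd b a := by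
  rw [mul_inv_eq_iff_eq_mul]
  apply SL_ext3
  simp only [Matrix.SpecialLinearGroup.coe_mul]
  ext i j
  fin_cases i <;> fin_cases j <;> simp [dd, tm, Matrix.mul_apply, Fin.sum_univ_three, mul_comm]

theorem tm_sq : (tm : SL3) * tm = dd (-1) (-1) := by
  apply SL_ext3
  simp only [Matrix.SpecialLinearGroup.coe_mul]
  ext i j
  fin_cases i <;> fin_cases j <;> simp [dd, tm, Matrix.mul_apply, Fin.sum_univ_three]

theorem cm_cube : (cm : SL3) * cm * cm = 1 := by
  apply SL_ext3
  simp only [Matrix.SpecialLinearGroup.coe_mul]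
  ext i j
  fin_cases i <;> fin_cases j <;> simp [cm, Matrix.mul_apply, Fin.sum_univ_three]

theorem cm_tm_cm : (cm : SL3) * tm⁻¹ * cm = tm := by
  have e : (tm : SL3) * tm * tm * tm = 1 := by
    rw [mul_assoc (tm * tm), tm_sq, ← dd_mul]; simp [dd_one]
  rw [inv_eq_of_mul_eq_one_right (show (tm : SL3) * (tm * tm * tm) = 1 by
    rw [← e]; simp only [mul_assoc])]
  apply SL_ext3
  simp only [Matrix.SpecialLinearGroup.coe_mul]
  ext i j
  fin_cases i <;> fin_cases j <;> simp [cm, tm, Matrix.mul_apply, Fin.sum_univ_three]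

theorem xm_tm_cube : (xm (1 : F) * tm) ^ 3 = 1 := by
  rw [pow_succ, pow_two]
  apply SL_ext3
  simp only [Matrix.SpecialLinearGroup.coe_mul]
  ext i j
  fin_cases i <;> fin_cases j <;>
    simp [xm, el, tm, Matrix.SpecialLinearGroup.transvection, Matrix.transvection, Matrix.single,
      Matrix.mul_apply, Fin.sum_univ_three]

theorem tm_xm (u : F) : tm * xm u * tm⁻¹ = el 1 0 (by decide) (-u) := by
  rw [mul_inv_eq_iff_eq_mul]
  apply SL_ext3
  simp only [Matrix.SpecialLinearGroup.coe_mul]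
  ext i j
  fin_cases i <;> fin_cases j <;>
    simp [tm, xm, el, Matrix.SpecialLinearGroup.transvection, Matrix.transvection, Matrix.single,
      Matrix.mul_apply, Fin.sum_univ_three]

theorem cm_el (i j : Fin 3) (h : i ≠ j) (u : F) :
    cm * el i j h u * cm⁻¹ = el (i + 1) (j + 1) (by simpa using h) u := by
  rw [mul_inv_eq_iff_eq_mul]
  apply SL_ext3
  simp only [Matrix.SpecialLinearGroup.coe_mul]
  fin_cases i <;> fin_cases j <;> first | exact absurd rfl h | (
    ext a b
    fin_cases a <;> fin_cases b <;>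
      simp [cm, el, Matrix.SpecialLinearGroup.transvection, Matrix.transvection, Matrix.single,
        Matrix.mul_apply, Fin.sum_univ_three])

theorem cm_cm_el (i j : Fin 3) (h : i ≠ j) (u : F) :
    cm * cm * el i j h u * (cm * cm)⁻¹
      = el (i + 1 + 1) (j + 1 + 1) (by simpa using h) u := by
  rw [show cm * cm * el i j h u * (cm * cm)⁻¹ = cm * (cm * el i j h u * cm⁻¹) * cm⁻¹ by
    simp [mul_assoc], cm_el, cm_el]

theorem model_A (b : F) :
    (relA (xm 1) tm cm (xm b)).1 = (relA (xm 1) tm cm (xm b)).2 := by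
  simp only [relA]
  rw [tm_xm, cm_cm_el]
  apply SL_ext3
  simp only [Matrix.SpecialLinearGroup.coe_mul]
  ext i j
  fin_cases i <;> fin_cases j <;>
    simp [xm, el, Matrix.SpecialLinearGroup.transvection, Matrix.transvection, Matrix.single,
      Matrix.mul_apply, Fin.sum_univ_three]

theorem model_B (b : F) :
    (relB (xm 1) tm cm (xm b)).1 = (relB (xm 1) tm cm (xm b)).2 := by
  simp only [relB]
  rw [tm_xm, cm_el]
  apply SL_ext3
  simp only [Matrix.SpecialLinearGroup.coe_mul]
  ext i j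
  fin_cases i <;> fin_cases j <;>
    simp [xm, el, Matrix.SpecialLinearGroup.transvection, Matrix.transvection, Matrix.single,
      Matrix.mul_apply, Fin.sum_univ_three]

theorem model_C (b : F) :
    (relC (xm 1) tm cm (xm b) (xm (-b))).1 = (relC (xm 1) tm cm (xm b) (xm (-b))).2 := by
  simp only [relC]
  rw [tm_xm, neg_neg, cm_cm_el]
  rw [show cm * xm b * cm⁻¹ = el (0 + 1) (1 + 1) (by decide) b from cm_el 0 1 (by decide) b]
  apply SL_ext3
  simp only [Matrix.SpecialLinearGroup.coe_mul]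
  ext i j
  fin_cases i <;> fin_cases j <;>
    simp [xm, el, Matrix.SpecialLinearGroup.transvection, Matrix.transvection, Matrix.single,
      Matrix.mul_apply, Fin.sum_univ_three]

variable {p : ℕ} [Fact p.Prime] [Algebra (ZMod p) F]

theorem cnj_xm (ω : Fˣ) (n : ℕ) :
    cnj (dd 1 ω) (xm (1 : F)) n = xm (((ω : F)⁻¹) ^ n) := by
  rw [cnj, dd_pow, dd_xm]
  congr 1
  simp

theorem wordP_xm (ω : Fˣ) (P : (ZMod p)[X]) :
    wordP (dd 1 ω) (xm (1 : F)) P = xm (aeval ((ω : F)⁻¹) P) := by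
  let Y : Multiplicative F →* SL3 :=
    MonoidHom.mk' (fun a => xm (Multiplicative.toAdd a)) fun a b => el_add _ _ _ _ _
  exact wordP_eq (Y := Y) (fun n => cnj_xm ω n) P

theorem xm_inv (u : F) : (xm u)⁻¹ = xm (-u) := by
  refine inv_eq_of_mul_eq_one_right ?_
  rw [xm, xm, ← el_add, add_neg_cancel, el_zero]

theorem xm_pow_char [CharP F p] : xm (1 : F) ^ p = 1 := by
  have e : ∀ n : ℕ, xm (1 : F) ^ n = xm (n : F) := by
    intro n
    induction n with
    | zero => simp [xm, el_zero]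
    | succ n ih => rw [pow_succ, ih, xm, xm, xm, ← el_add, Nat.cast_succ]
  rw [e, CharP.cast_eq_zero, xm, el_zero]

theorem sat_base (ω : Fˣ) : Sat (base (xm (1 : F)) (dd 1 ω) tm cm) := by
  simp only [Sat, base, List.forall_mem_cons, List.not_mem_nil, IsEmpty.forall_iff,
    implies_true, and_true]
  rw [cm_dd_l, cm_dd_r]
  refine ⟨?_, ?_, ?_, ?_, cm_cube, cm_tm_cm⟩
  · have e : dd 1 ω * dd 1 ω = (dd 1 (ω * ω)⁻¹)⁻¹ := by
      rw [← dd_mul, dd_inv, inv_one, inv_inv, one_mul]
    rw [e, inv_inv, dd_xm, dd_xm]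
    congr 1
    push_cast
    field_simp
  · rw [← dd_mul, ← dd_mul, one_mul, mul_one, mul_comm]
  · simp [← dd_mul, dd_one]
  · rw [tm_dd, ← dd_mul, inv_mul_cancel, mul_inv_cancel, dd_one]

theorem sat_braid_tail :
    (xm (1 : F) * tm) ^ 3 = 1 ∧
      ((relA (xm (1 : F)) tm cm (xm (1 : F))⁻¹).1 = (relA (xm (1 : F)) tm cm (xm (1 : F))⁻¹).2) ∧
      ((relB (xm (1 : F)) tm cm (xm (1 : F))⁻¹).1 = (relB (xm (1 : F)) tm cm (xm (1 : F))⁻¹).2) ∧
      ((relC (xm (1 : F)) tm cm (xm 1) (xm (1 : F))⁻¹).1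
        = (relC (xm (1 : F)) tm cm (xm 1) (xm (1 : F))⁻¹).2) := by
  rw [xm_inv]
  exact ⟨xm_tm_cube, model_A _, model_B _, model_C _⟩

end Model

section Params

variable {F : Type*} [Field F] [Fintype F] {p : ℕ} [Fact p.Prime] [Algebra (ZMod p) F]

omit [Fintype F] in
theorem spanPowers_of_gen {z : F} (h : ∀ u : F, ∃ P : (ZMod p)[X], aeval z P = u) :
    SpanPowers F z := by
  intro Q h0 hadd hpow u
  obtain ⟨P, rfl⟩ := h u
  induction P using Polynomial.induction_on' with
  | add a b ha hb => rw [map_add]; exact hadd _ _ ha hb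
  | monomial n a =>
    rw [aeval_monomial, ← Algebra.smul_def, ← ZMod.natCast_zmod_val a, Nat.cast_smul_eq_nsmul]
    generalize a.val = m
    induction m with
    | zero => simpa using h0
    | succ m ih => rw [succ_nsmul]; exact hadd _ _ ih (hpow n)

theorem gen_inv (ω : Fˣ) (hω : ∀ y : Fˣ, y ∈ Subgroup.zpowers ω) (u : F) :
    ∃ P : (ZMod p)[X], aeval ((ω : F)⁻¹) P = u := by
  refine exists_aeval_of_top (fun K hK => top_le_iff.mp fun y _ => ?_) u
  have hω' : (ω : F) ∈ K := by simpa using K.inv_mem hK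
  by_cases hy : y = 0
  · rw [hy]; exact K.zero_mem
  · obtain ⟨m, rfl⟩ := eq_pow_of_ne_zero ω hω hy
    exact pow_mem hω' m

theorem gen_cube (ω : Fˣ) (hω : ∀ y : Fˣ, y ∈ Subgroup.zpowers ω) (h4 : Fintype.card F ≠ 4)
    (u : F) : ∃ P : (ZMod p)[X], aeval ((ω : F) ^ 3) P = u := by
  refine exists_aeval_of_top (fun K hK => ?_) u
  by_contra hK'
  haveI := Fintype.ofFinite K
  set Q := Fintype.card K with hQ
  have hQ2 : 2 ≤ Q := Fintype.one_lt_card
  have hq : ∃ e, 2 ≤ e ∧ Fintype.card F = Q ^ e := by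
    refine ⟨Module.finrank K F, ?_, Module.card_eq_pow_finrank⟩
    by_contra hlt
    have h0 := Module.finrank_pos (R := K) (M := F)
    exact hK' (IntermediateField.finrank_eq_one_iff_eq_top.mp (by omega))
  obtain ⟨e, he, hqe⟩ := hq
  have hord : orderOf ω = Fintype.card F - 1 := by
    rw [orderOf_eq_card_of_forall_mem_zpowers hω, Nat.card_units, Nat.card_eq_fintype_card]
  have hge : Q * Q ≤ Fintype.card F := by
    rw [hqe, ← pow_two]; exact Nat.pow_le_pow_right (by omega) he
  have h1 := FiniteField.pow_card (⟨(ω : F) ^ 3, hK⟩ : K)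
  have h2 : ((ω : F) ^ 3) ^ Q = (ω : F) ^ 3 := congrArg (fun a : K => (a : F)) h1
  have h3 : (ω ^ 3) ^ Q = ω ^ 3 := Units.ext (by push_cast; exact h2)
  rw [← pow_mul, pow_eq_pow_iff_modEq, hord, Nat.ModEq.comm,
    Nat.modEq_iff_dvd' (by omega)] at h3
  have hle := Nat.le_of_dvd (by omega) h3
  have hQ' : Q = 2 := by
    by_contra hne
    have : 3 * Q ≤ Q * Q := Nat.mul_le_mul_right _ (by omega)
    omega
  rw [hQ'] at hge hle
  omega

end Params

section Main

universe w

variable {F : Type w} [Field F] [Fintype F] {p : ℕ} [Fact p.Prime] [Algebra (ZMod p) F]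

local notation "SL3" => Matrix.SpecialLinearGroup (Fin 3) F

/-- From a list of relation pairs which forces Steinberg data to a presentation. -/
theorem exists_rels4 (ω : Fˣ) (k : ℕ)
    (hgen : ∀ u : F, ∃ P : (ZMod p)[X], aeval ((ω : F)⁻¹) P = u)
    (l : List (FreeGroup (Fin 4) × FreeGroup (Fin 4))) (hl : l.length ≤ 14)
    (hsat : ∀ r ∈ l, FreeGroup.lift ![xm (1 : F), dd 1 ω, tm, cm] r.1
      = FreeGroup.lift ![xm (1 : F), dd 1 ω, tm, cm] r.2)
    (hgood : ∀ (G : Type) [Group G] (π : FreeGroup (Fin 4) →* G), Function.Surjective π →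
      (∀ r ∈ l, π r.1 = π r.2) →
        Good (p := p) ω k (π (FreeGroup.of 0)) (π (FreeGroup.of 1)) (π (FreeGroup.of 2))
          (π (FreeGroup.of 3))) :
    ∃ rels : Finset (FreeGroup (Fin 4)), rels.card ≤ 14 ∧
      Nonempty (PresentedGroup (↑rels : Set (FreeGroup (Fin 4))) ≃* SL3) := by
  classical
  refine ⟨(l.map fun r => r.1 * r.2⁻¹).toFinset,
    (List.toFinset_card_le _).trans (by rw [List.length_map]; exact hl), ?_⟩
  set f : Fin 4 → SL3 := ![xm (1 : F), dd 1 ω, tm, cm] with hf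
  set R : Set (FreeGroup (Fin 4)) := ↑((l.map fun r => r.1 * r.2⁻¹).toFinset) with hR
  have hmem : ∀ r, r ∈ R ↔ ∃ a ∈ l, a.1 * a.2⁻¹ = r := by
    intro r
    simp [hR]
  have hrel : ∀ r ∈ R, FreeGroup.lift f r = 1 := by
    intro r hr
    obtain ⟨a, ha, rfl⟩ := (hmem r).mp hr
    rw [map_mul, map_inv, hsat a ha, mul_inv_cancel]
  let x : PresentedGroup R := PresentedGroup.of 0
  let g : PresentedGroup R := PresentedGroup.of 1
  let t : PresentedGroup R := PresentedGroup.of 2
  let c : PresentedGroup R := PresentedGroup.of 3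
  obtain ⟨X, D, hword, hfam⟩ := hgood (PresentedGroup R) (PresentedGroup.mk R)
    (PresentedGroup.mk_surjective R) (fun a ha => PresentedGroup.mk_eq_mk_of_mul_inv_mem
      ((hmem _).mpr ⟨a, ha, rfl⟩))
  let φ := PresentedGroup.toGroup hrel
  have hx : φ x = xm 1 := PresentedGroup.toGroup.of hrel
  have hg : φ g = dd 1 ω := PresentedGroup.toGroup.of hrel
  have ht : φ t = tm := PresentedGroup.toGroup.of hrel
  have hc : φ c = cm := PresentedGroup.toGroup.of hrel
  have hX : ∀ u, φ (X u) = xm u := by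
    intro u
    obtain ⟨P, rfl⟩ := hgen u
    rw [hword, map_wordP]
    show wordP (φ g) (φ x) P = _
    rw [hg, hx, wordP_xm]
  have hY : ∀ u, φ (rY X t u) = el 1 0 (by decide) u := by
    intro u
    rw [rY, MulAut.conj_apply, map_mul, map_mul, map_inv, ht, hX, tm_xm, neg_neg]
  have hroot : ∀ i j (h : i ≠ j) u, φ (root X t c i j u) = el i j h u := by
    intro i j h u
    fin_cases i <;> fin_cases j
    · exact absurd rfl h
    · exact hX u
    · show φ (MulAut.conj (c * c) (rY X t u)) = _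
      rw [MulAut.conj_apply, map_mul, map_mul, map_inv, map_mul, hc, hY]
      exact cm_cm_el 1 0 (by decide) u
    · exact hY u
    · exact absurd rfl h
    · show φ (MulAut.conj c (X u)) = _
      rw [MulAut.conj_apply, map_mul, map_mul, map_inv, hc, hX]
      exact cm_el 0 1 (by decide) u
    · show φ (MulAut.conj (c * c) (X u)) = _
      rw [MulAut.conj_apply, map_mul, map_mul, map_inv, map_mul, hc, hX]
      exact cm_cm_el 0 1 (by decide) u
    · show φ (MulAut.conj c (rY X t u)) = _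
      rw [MulAut.conj_apply, map_mul, map_mul, map_inv, hc, hY]
      exact cm_el 1 0 (by decide) u
    · exact absurd rfl h
  have hinj : Function.Injective φ :=
    Cfsg.Agent.H54.Presentation.StRels.injective 3 le_rfl (D.stRels hfam) D.closure_roots φ
      fun i j h u => (congrArg Subtype.val (hroot i j h u)).trans rfl
  have hsurj : Function.Surjective φ := by
    rw [← MonoidHom.range_eq_top]
    exact Cfsg.Agent.Linear.eq_top_of_transvection_mem fun i j hij u => ⟨_, hroot i j hij u⟩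
  exact ⟨MulEquiv.ofBijective φ ⟨hinj, hsurj⟩⟩

theorem lift_sat {H : Type*} [Group H] {l : List (FreeGroup (Fin 4) × FreeGroup (Fin 4))}
    (π : FreeGroup (Fin 4) →* H) (h : ∀ r ∈ l, π r.1 = π r.2) : Sat (l.map (Prod.map π π)) := by
  intro r hr
  obtain ⟨a, ha, rfl⟩ := List.mem_map.mp hr
  exact h a ha

theorem of_sat {H : Type*} [Group H] {l : List (FreeGroup (Fin 4) × FreeGroup (Fin 4))}
    (π : FreeGroup (Fin 4) →* H) (h : Sat (l.map (Prod.map π π))) : ∀ r ∈ l, π r.1 = π r.2 :=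
  fun r hr => h _ (List.mem_map.mpr ⟨r, hr, rfl⟩)

theorem closure_gen4 {G : Type*} [Group G] (π : FreeGroup (Fin 4) →* G)
    (hπ : Function.Surjective π) :
    Subgroup.closure ({π (FreeGroup.of 0), π (FreeGroup.of 1), π (FreeGroup.of 2),
      π (FreeGroup.of 3)} : Set G) = ⊤ := by
  have h := congrArg (Subgroup.map π) (FreeGroup.closure_range_of (Fin 4))
  rw [MonoidHom.map_closure, ← MonoidHom.range_eq_map, MonoidHom.range_eq_top.mpr hπ] at h
  rw [← h]
  congr 1
  ext g
  simp [Fin.exists_fin_succ, eq_comm]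

end Main

/-- SL(3,q) has a presentation with four generators and fourteen relations. -/
theorem exists_pres_three {F : Type*} [Field F] [Fintype F] :
    ∃ rels : Finset (FreeGroup (Fin 4)), rels.card ≤ 14 ∧
      Nonempty (PresentedGroup (↑rels : Set (FreeGroup (Fin 4))) ≃*
        Matrix.SpecialLinearGroup (Fin 3) F) := by
  obtain ⟨p, hch⟩ := CharP.exists F
  haveI hpf : Fact p.Prime := ⟨CharP.char_is_prime F p⟩
  letI : Algebra (ZMod p) F := ZMod.algebra F p
  obtain ⟨d, -, hqd⟩ := FiniteField.card F p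
  obtain ⟨ω, hω⟩ := IsCyclic.exists_generator (α := Fˣ)
  set q := Fintype.card F with hq
  have hq2 : 2 ≤ q := Fintype.one_lt_card
  have hgen := fun u => gen_inv (p := p) ω hω u
  have hord : orderOf ω = q - 1 := by
    rw [orderOf_eq_card_of_forall_mem_zpowers hω, Nat.card_units, Nat.card_eq_fintype_card]
  set x := FreeGroup.of (0 : Fin 4) with hx
  set g := FreeGroup.of (1 : Fin 4) with hg
  set t := FreeGroup.of (2 : Fin 4) with ht
  set c := FreeGroup.of (3 : Fin 4) with hc
  have hfx : FreeGroup.lift ![xm (1 : F), dd 1 ω, tm, cm] x = xm 1 := by simp [hx]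
  have hfg : FreeGroup.lift ![xm (1 : F), dd 1 ω, tm, cm] g = dd 1 ω := by simp [hg]
  have hft : FreeGroup.lift ![xm (1 : F), dd 1 ω, tm, cm] t = tm := by simp [ht]
  have hfc : FreeGroup.lift ![xm (1 : F), dd 1 ω, tm, cm] c = cm := by simp [hc]
  have e1 := cnj_xm ω 1
  simp only [cnj, pow_one] at e1
  have hcomm : ∀ u : F, xm (1 : F) * xm u = xm u * xm 1 := fun u => by
    rw [xm, xm, ← el_add, ← el_add, add_comm]
  have hμ : wordP (dd 1 ω) (xm (1 : F)) (minpoly (ZMod p) ((ω : F)⁻¹)) = 1 := by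
    rw [wordP_xm, minpoly.aeval, xm, el_zero]
  obtain ⟨tb, tA, tB, tC⟩ := sat_braid_tail (F := F)
  by_cases h4 : q = 4
  · -- four elements
    have hp2 : p = 2 := by
      have h2 : 2 ∣ p ^ (d : ℕ) := by rw [← hqd, h4]; norm_num
      exact ((Nat.prime_dvd_prime_iff_eq Nat.prime_two hpf.out).mp
        (Nat.prime_two.dvd_of_dvd_pow h2)).symm
    have hd : (minpoly (ZMod p) ((ω : F)⁻¹)).natDegree ≤ 2 := by
      refine (minpoly.natDegree_le _).trans ?_
      have hcd := Module.card_eq_pow_finrank (K := ZMod p) (V := F)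
      rw [ZMod.card, ← hq, h4] at hcd
      generalize Module.finrank (ZMod p) F = n at hcd ⊢
      rw [hp2] at hcd
      exact ((Nat.pow_right_injective le_rfl).eq_iff.mp (hcd.symm.trans (by norm_num : 4 = 2 ^ 2))).le
    have h2F : (2 : F) = 0 := by
      have := CharP.cast_eq_zero F p
      rw [hp2] at this
      exact_mod_cast this
    have hw : (ω : F) ^ 3 = 1 := by
      rw [← Units.val_pow_eq_pow_val, show 3 = q - 1 by omega, ← hord, pow_orderOf_eq_one,
        Units.val_one]
    have hspan : SpanPowers F (ω : F) := by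
      intro Q h0 hadd hpow u
      by_cases hu : u = 0
      · rw [hu]; exact h0
      · obtain ⟨m, rfl⟩ := eq_pow_of_ne_zero ω hω hu
        exact hpow m
    obtain ⟨Pp, hPp⟩ := hgen (ω : F)
    obtain ⟨Pn, hPn⟩ := hgen (-(ω : F))
    refine exists_rels4 ω 0 hgen (lFour (minpoly (ZMod p) ((ω : F)⁻¹)) Pp Pn x g t c)
      (by simp [lFour, base]) ?_ ?_
    · apply of_sat
      rw [map_lFour, hfx, hfg, hft, hfc]
      simp only [Sat, lFour, List.forall_mem_append, List.forall_mem_cons, List.not_mem_nil,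
        IsEmpty.forall_iff, implies_true, and_true]
      refine ⟨⟨⟨?_, by rw [e1]; exact hcomm _, hμ⟩, sat_base ω⟩, ?_, ?_, ?_, tC, ?_⟩
      · rw [xm, ← el_add, show (1 : F) + 1 = 0 by linear_combination h2F, el_zero]
      · rw [tb, tm_sq, show (-1 : Fˣ) = 1 from Units.ext (by push_cast; linear_combination -h2F),
          dd_one]
      · rw [wordP_xm, hPn]; exact model_A _
      · rw [wordP_xm, hPn]; exact model_B _
      · rw [wordP_xm, wordP_xm, hPn, hPp]; exact model_C _
    · intro G _ π hπ hr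
      have hs := lift_sat π hr
      rw [map_lFour] at hs
      exact good_four hp2 hgen hd hspan h2F hw hPp hPn hs (closure_gen4 π hπ)
  obtain ⟨k, hωk⟩ : ∃ k : ℕ, ω ^ k = -1 := by
    obtain ⟨m, hm⟩ := mem_powers_iff_mem_zpowers.mpr (hω (-1))
    exact ⟨m, hm⟩
  have hωk' : (ω : F) ^ k = -1 := by
    rw [← Units.val_pow_eq_pow_val, hωk, Units.val_neg, Units.val_one]
  have hz : SpanPowers F ((ω : F) ^ 3) :=
    spanPowers_of_gen (p := p) (gen_cube ω hω h4)
  have hk' : (cm⁻¹ * dd 1 ω * cm) ^ k = tm * (tm : Matrix.SpecialLinearGroup (Fin 3) F) := by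
    rw [cm_dd_l, dd_pow, inv_pow, hωk, tm_sq, inv_neg, inv_one]
  by_cases h5 : q ≤ 3
  · -- prime fields
    have hd : (minpoly (ZMod p) ((ω : F)⁻¹)).natDegree ≤ 2 := by
      refine (minpoly.natDegree_le _).trans ?_
      have hcd := Module.card_eq_pow_finrank (K := ZMod p) (V := F)
      rw [ZMod.card, ← hq] at hcd
      by_contra h3
      have : 2 ^ 3 ≤ p ^ Module.finrank (ZMod p) F :=
        (Nat.pow_le_pow_left hpf.out.two_le 3).trans
          (Nat.pow_le_pow_right hpf.out.pos (by omega))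
      omega
    refine exists_rels4 ω k hgen (lSmall (minpoly (ZMod p) ((ω : F)⁻¹)) k x g t c)
      (by simp [lSmall, base]) ?_ ?_
    · apply of_sat
      rw [map_lSmall, hfx, hfg, hft, hfc]
      simp only [Sat, lSmall, List.forall_mem_append, List.forall_mem_cons, List.not_mem_nil,
        IsEmpty.forall_iff, implies_true, and_true]
      exact ⟨⟨⟨xm_pow_char, by rw [e1]; exact hcomm _, hμ, hk'⟩, sat_base ω⟩, tb, tA, tB, tC⟩
    · intro G _ π hπ hr
      have hs := lift_sat π hr
      rw [map_lSmall] at hs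
      exact good_small hgen hd hz hωk' hs (closure_gen4 π hπ)
  · -- generic fields
    have hne : (1 : F) + (ω : F)⁻¹ ≠ 0 := by
      intro h0
      have h1 : (ω : F)⁻¹ = -1 := eq_neg_of_add_eq_zero_right h0
      have h2 : ω ^ 2 = 1 := Units.ext (by
        push_cast
        rw [← inv_inv (ω : F), h1]; norm_num)
      have := Nat.le_of_dvd two_pos (orderOf_dvd_of_pow_eq_one h2)
      rw [hord] at this
      omega
    obtain ⟨j, hj⟩ : ∃ j : ℕ, (1 : F) + (ω : F)⁻¹ = ((ω : F)⁻¹) ^ j := by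
      obtain ⟨m, hm⟩ := eq_pow_of_ne_zero ω hω (inv_ne_zero hne)
      exact ⟨m, by rw [inv_pow, ← hm, inv_inv]⟩
    refine exists_rels4 ω k hgen (lGen (minpoly (ZMod p) ((ω : F)⁻¹)) k j x g t c)
      (by simp [lGen, base]) ?_ ?_
    · apply of_sat
      rw [map_lGen, hfx, hfg, hft, hfc]
      simp only [Sat, lGen, List.forall_mem_append, List.forall_mem_cons, List.not_mem_nil,
        IsEmpty.forall_iff, implies_true, and_true]
      refine ⟨⟨⟨xm_pow_char, by rw [e1]; exact hcomm _, ?_, by rw [hμ, mul_one]; exact hk'⟩,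
        sat_base ω⟩, tb, tA, tB, tC⟩
      have ej := cnj_xm ω j
      simp only [cnj] at ej
      rw [ej, e1, xm, xm, xm, ← el_add, hj]
    · intro G _ π hπ hr
      have hs := lift_sat π hr
      rw [map_lGen] at hs
      exact good_gen hgen hz hωk' hs (closure_gen4 π hπ)

end Cfsg.Agent.H99.SLThree
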