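import Cfsg.Agent.H99.AltBounded
import Cfsg.Agent.H99.SLThreeModel
import Cfsg.Agent.H54.SteinbergPresentation

/-!
Bounded presentations of `SL_n`, `n ≥ 4`: the Steinberg relations out of `SL_3` and `Alt n`.
-/

namespace Cfsg.Agent.H99.BoundedPres

open Equiv Equiv.Perm Matrix Cfsg.Agent.H99.SLThree

section Perms

variable {α β : Type*} [Fintype α] [DecidableEq α] [Fintype β] [DecidableEq β]

/-- Alternating group of a subset. -/
noncomputable def viaA (e : α ↪ β) : alternatingGroup α →* alternatingGroup β :=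
  ((viaEmbeddingHom e).comp (alternatingGroup α).subtype).codRestrict _ fun g => by
    have hg := mem_alternatingGroup.mp g.2
    rw [mem_alternatingGroup]
    show sign ((g : Perm α).viaEmbedding e) = 1
    rw [sign_via, hg]

theorem viaA_apply (e : α ↪ β) (g : alternatingGroup α) (x : α) :
    (viaA e g : Perm β) (e x) = e ((g : Perm α) x) :=
  viaEmbedding_apply _ _ _

theorem viaA_fix (e : α ↪ β) (g : alternatingGroup α) {y : β} (hy : y ∉ Set.range e) :
    (viaA e g : Perm β) y = y :=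
  viaEmbedding_apply_of_notMem _ _ _ hy

/-- Either parity is available after one prescribed transposition. -/
theorem exists_alt_extending {γ : Type*} [Finite γ] (f g : γ ↪ β) (a b : β) (hab : a ≠ b) :
    ∃ s : alternatingGroup β, (∀ x, (s : Perm β) (f x) = g x) ∨
      ∀ x, (s : Perm β) (swap a b (f x)) = g x := by
  obtain ⟨σ, hσ⟩ := Equiv.Perm.exists_extending_pair f g f.injective g.injective
  rcases Int.units_eq_one_or (sign σ) with h | h
  · exact ⟨⟨σ, mem_alternatingGroup.mpr h⟩, Or.inl hσ⟩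
  · refine ⟨⟨σ * swap a b, mem_alternatingGroup.mpr ?_⟩, Or.inr fun x => ?_⟩
    · rw [map_mul, h, sign_swap hab, Int.units_mul_self]
    · show σ (swap a b (swap a b (f x))) = g x
      rw [swap_apply_self, hσ]

end Perms

section Linear

variable {F : Type*} [Field F] {ι : Type*} [Fintype ι] [DecidableEq ι]

/-- Elementary transvection. -/
def tv {i j : ι} (h : i ≠ j) (t : F) : Matrix.SpecialLinearGroup ι F :=
  Matrix.SpecialLinearGroup.transvection h t

theorem tv_coe {i j : ι} (h : i ≠ j) (t : F) :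
    (tv h t : Matrix ι ι F) = 1 + Matrix.single i j t := rfl

theorem tv_comm {i j a b : ι} (hij : i ≠ j) (hab : a ≠ b) (h1 : i ≠ b) (h2 : j ≠ a) (t u : F) :
    Commute (tv hij t) (tv hab u) := by
  refine Subtype.ext ?_
  simp only [Matrix.SpecialLinearGroup.coe_mul, tv_coe]
  rw [add_mul, add_mul, mul_add, mul_add, mul_add, mul_add,
    Matrix.single_mul_single_of_ne (h := h2), Matrix.single_mul_single_of_ne (h := Ne.symm h1)]
  simp only [Matrix.one_mul, Matrix.mul_one, add_zero]
  abel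

theorem tv_rule {i j l : ι} (hij : i ≠ j) (hjl : j ≠ l) (hil : i ≠ l) (t u : F) :
    tv hij t * tv hjl u = tv hil (t * u) * tv hjl u * tv hij t := by
  refine Subtype.ext ?_
  simp only [Matrix.SpecialLinearGroup.coe_mul, tv_coe]
  simp [add_mul, mul_add, Matrix.single_mul_single_of_ne, hij.symm, hjl.symm, hil.symm,
    Matrix.single_mul_single_same]
  abel

/-- Permutation matrices of even permutations. -/
def muA : alternatingGroup ι →* Matrix.SpecialLinearGroup ι F where
  toFun g := ⟨((g : Perm ι)⁻¹).permMatrix F, by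
    rw [Matrix.det_permutation, sign_inv, mem_alternatingGroup.mp g.2]; simp⟩
  map_one' := Subtype.ext (by simp)
  map_mul' a b := Subtype.ext (by
    show (((a * b : alternatingGroup ι) : Perm ι)⁻¹).permMatrix F = _
    rw [Subgroup.coe_mul, _root_.mul_inv_rev, Perm.permMatrix, Perm.mul_def,
      Equiv.toPEquiv_trans, PEquiv.toMatrix_trans]
    rfl)

theorem muA_conj_apply (g : alternatingGroup ι) (M : Matrix.SpecialLinearGroup ι F) (i j : ι) :
    ((muA g * M * (muA g)⁻¹ : Matrix.SpecialLinearGroup ι F) : Matrix ι ι F) i j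
      = (M : Matrix ι ι F) ((g : Perm ι).symm i) ((g : Perm ι).symm j) := by
  rw [← map_inv, Matrix.SpecialLinearGroup.coe_mul, Matrix.SpecialLinearGroup.coe_mul]
  show ((((g : Perm ι)⁻¹).toPEquiv.toMatrix : Matrix ι ι F) * (M : Matrix ι ι F)
    * ((((g⁻¹ : alternatingGroup ι) : Perm ι)⁻¹).toPEquiv.toMatrix : Matrix ι ι F) :
      Matrix ι ι F) i j = _
  rw [PEquiv.toMatrix_toPEquiv_mul, PEquiv.mul_toMatrix_toPEquiv]
  simp [Perm.inv_def]

theorem muA_tv (g : alternatingGroup ι) {i j : ι} (h : i ≠ j) (t : F) :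
    muA g * tv h t * (muA g)⁻¹ = tv ((g : Perm ι).injective.ne h) t := by
  refine Subtype.ext (Matrix.ext fun a b => ?_)
  rw [muA_conj_apply]
  simp only [tv_coe, Matrix.add_apply, Matrix.one_apply, Matrix.single_apply,
    EmbeddingLike.apply_eq_iff_eq]
  simp only [Equiv.eq_symm_apply]

theorem diag_tv_commute {D : Matrix.SpecialLinearGroup ι F} {f : ι → F}
    (hD : (D : Matrix ι ι F) = Matrix.diagonal f) {i j : ι} (h : i ≠ j) (hf : f i = f j) (t : F) :
    Commute D (tv h t) := by
  refine Subtype.ext (Matrix.ext fun a b => ?_)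
  simp only [Matrix.SpecialLinearGroup.coe_mul, hD, Matrix.diagonal_mul, Matrix.mul_diagonal, tv_coe,
    Matrix.add_apply, Matrix.one_apply, Matrix.single_apply]
  by_cases hab : i = a ∧ j = b
  · obtain ⟨rfl, rfl⟩ := hab
    rw [hf]; ring
  · rw [if_neg hab, add_zero]
    split_ifs with e
    · rw [e]; ring
    · ring

theorem muA_diag (g : alternatingGroup ι) {D : Matrix.SpecialLinearGroup ι F} {f : ι → F}
    (hD : (D : Matrix ι ι F) = Matrix.diagonal f) :
    ((muA g * D * (muA g)⁻¹ : Matrix.SpecialLinearGroup ι F) : Matrix ι ι F)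
      = Matrix.diagonal fun i => f ((g : Perm ι).symm i) := by
  refine Matrix.ext fun a b => ?_
  rw [muA_conj_apply, hD]
  simp only [Matrix.diagonal_apply, EmbeddingLike.apply_eq_iff_eq]

theorem diag_commute {D E : Matrix.SpecialLinearGroup ι F} {f g : ι → F}
    (hD : (D : Matrix ι ι F) = Matrix.diagonal f) (hE : (E : Matrix ι ι F) = Matrix.diagonal g) :
    Commute D E := by
  refine Subtype.ext ?_
  simp only [Matrix.SpecialLinearGroup.coe_mul, hD, hE, Matrix.diagonal_mul_diagonal, mul_comm]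

end Linear

section Block

variable {F : Type*} [Field F] (k : ℕ)

/-- The first three coordinates. -/
def p3 : Fin 3 ↪ Fin (k + 4) := Fin.castLEEmb (by omega)

/-- The first four coordinates. -/
def q4 : Fin 4 ↪ Fin (k + 4) := Fin.castLEEmb (by omega)

/-- The splitting of the coordinates. -/
def eN : Fin 3 ⊕ Fin (k + 1) ≃ Fin (k + 4) := finSumFinEquiv.trans (finCongr (by omega))

theorem eN_inl (a : Fin 3) : eN k (Sum.inl a) = p3 k a := Fin.ext rfl

theorem eN_inr (b : Fin (k + 1)) : eN k (Sum.inr b) ∉ Set.range (p3 k) := by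
  rintro ⟨a, ha⟩
  rw [← eN_inl] at ha
  exact Sum.inl_ne_inr ((eN k).injective ha)

/-- `SL_3` on the first three coordinates. -/
def emb : Matrix.SpecialLinearGroup (Fin 3) F →* Matrix.SpecialLinearGroup (Fin (k + 4)) F where
  toFun M := ⟨(Matrix.fromBlocks (M : Matrix (Fin 3) (Fin 3) F) 0 0 1).submatrix (eN k).symm
    (eN k).symm, by rw [det_submatrix_equiv_self, det_fromBlocks_zero₂₁]; simp⟩
  map_one' := Subtype.ext (by simp)
  map_mul' A B := Subtype.ext (by
    show _ = (Matrix.fromBlocks (A : Matrix (Fin 3) (Fin 3) F) 0 0 1).submatrix (eN k).symm (eN k).symm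
      * (Matrix.fromBlocks (B : Matrix (Fin 3) (Fin 3) F) 0 0 1).submatrix (eN k).symm (eN k).symm
    rw [Matrix.submatrix_mul_equiv, Matrix.fromBlocks_multiply]
    simp)

theorem emb_apply (M : Matrix.SpecialLinearGroup (Fin 3) F) (x y : Fin 3 ⊕ Fin (k + 1)) :
    (emb k M : Matrix (Fin (k + 4)) (Fin (k + 4)) F) (eN k x) (eN k y)
      = Matrix.fromBlocks (M : Matrix (Fin 3) (Fin 3) F) 0 0 1 x y := by
  show (Matrix.fromBlocks (M : Matrix (Fin 3) (Fin 3) F) 0 0 1).submatrix (eN k).symm (eN k).symm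
    (eN k x) (eN k y) = _
  simp

theorem emb_el (i j : Fin 3) (h : i ≠ j) (u : F) :
    emb k (el i j h u) = tv ((p3 k).injective.ne h) u := by
  refine Subtype.ext (Matrix.ext fun a b => ?_)
  obtain ⟨x, rfl⟩ := (eN k).surjective a
  obtain ⟨y, rfl⟩ := (eN k).surjective b
  rw [emb_apply, tv_coe, ← eN_inl, ← eN_inl]
  rcases x with x | x <;> rcases y with y | y <;>
    simp [el, Matrix.SpecialLinearGroup.transvection, Matrix.transvection, Matrix.single_apply,
      Matrix.one_apply]

/-- The three-cycle `0 → 1 → 2 → 0`. -/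
def c3 : alternatingGroup (Fin 3) := ⟨finRotate 3, by rw [mem_alternatingGroup]; decide⟩

/-- The three-cycle among all coordinates. -/
noncomputable def c0 : alternatingGroup (Fin (k + 4)) := viaA (p3 k) c3

/-- `(01)(23)`. -/
def d4 : alternatingGroup (Fin 4) :=
  ⟨swap 0 1 * swap 2 3, by rw [mem_alternatingGroup]; decide⟩

/-- `(02)(13)`. -/
def tau4 : alternatingGroup (Fin 4) :=
  ⟨swap 0 2 * swap 1 3, by rw [mem_alternatingGroup]; decide⟩

/-- `(03)(12)`. -/
def tau4' : alternatingGroup (Fin 4) :=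
  ⟨swap 0 3 * swap 1 2, by rw [mem_alternatingGroup]; decide⟩

theorem muA_c0 : muA (c0 k) = emb k (cm : Matrix.SpecialLinearGroup (Fin 3) F) := by
  refine Subtype.ext (Matrix.ext fun a b => ?_)
  obtain ⟨x, rfl⟩ := (eN k).surjective a
  obtain ⟨y, rfl⟩ := (eN k).surjective b
  rw [emb_apply]
  show ((((c0 k : Perm (Fin (k + 4))))⁻¹).toPEquiv.toMatrix : Matrix _ _ F) (eN k x) (eN k y) = _
  have hc : (c0 k : Perm (Fin (k + 4))) (eN k y)
      = eN k (y.map (finRotate 3) id) := by
    rcases y with y | y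
    · rw [eN_inl, Sum.map_inl, eN_inl]
      exact viaA_apply _ _ _
    · exact viaA_fix _ _ (eN_inr k y)
  simp only [PEquiv.toMatrix_apply, Equiv.toPEquiv_apply, Option.mem_def, Option.some.injEq,
    Perm.inv_def, Equiv.symm_apply_eq, hc, EmbeddingLike.apply_eq_iff_eq]
  rcases x with x | x <;> rcases y with y | y
  · fin_cases x <;> fin_cases y <;>
      simp [cm, finRotate_succ_apply, Fin.ext_iff]
  · simp
  · simp
  · simp [Matrix.one_apply]

theorem emb_dd (a b : Fˣ) :
    ∃ f : Fin (k + 4) → F, (emb k (dd a b) : Matrix _ _ F) = Matrix.diagonal f ∧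
      f (q4 k 0) = a ∧ f (q4 k 1) = b ∧ f (q4 k 2) = ((a * b)⁻¹ : Fˣ) ∧
      ∀ i, i ∉ Set.range (p3 k) → f i = 1 := by
  refine ⟨fun i => Sum.elim ![(a : F), b, ((a * b)⁻¹ : Fˣ)] (fun _ => 1) ((eN k).symm i),
    Matrix.ext fun r s => ?_, ?_, ?_, ?_, fun i hi => ?_⟩
  · obtain ⟨x, rfl⟩ := (eN k).surjective r
    obtain ⟨y, rfl⟩ := (eN k).surjective s
    rw [emb_apply, Matrix.diagonal_apply]
    rcases x with x | x <;> rcases y with y | y
    · fin_cases x <;> fin_cases y <;> simp [dd]
    · simp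
    · simp
    · simp [Matrix.one_apply]
  · simp only [show q4 k 0 = eN k (Sum.inl 0) from Fin.ext rfl, Equiv.symm_apply_apply]; rfl
  · simp only [show q4 k 1 = eN k (Sum.inl 1) from Fin.ext rfl, Equiv.symm_apply_apply]; rfl
  · simp only [show q4 k 2 = eN k (Sum.inl 2) from Fin.ext rfl, Equiv.symm_apply_apply]; rfl
  · obtain ⟨x | x, rfl⟩ := (eN k).surjective i
    · exact absurd ⟨x, (eN_inl k x).symm⟩ hi
    · simp

end Block

section Glue

variable {F : Type*} [Field F] {k : ℕ} {G : Type*} [Group G]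
  (ρ : Matrix.SpecialLinearGroup (Fin 3) F →* G) (π : alternatingGroup (Fin (k + 4)) →* G)

/-- The relations between the two parts. -/
structure GlueRels (ω : Fˣ) : Prop where
  cyc : π (c0 k) = ρ cm
  far : ∀ s : alternatingGroup (Fin (k + 4)), (s : Perm _) (q4 k 0) = q4 k 0 →
    (s : Perm _) (q4 k 1) = q4 k 1 →
      Commute (π s) (ρ (xm 1)) ∧ Commute (π s) (ρ (dd ω ω⁻¹))
  dX : π (viaA (q4 k) d4) * ρ (xm 1) * (π (viaA (q4 k) d4))⁻¹ = ρ (el 1 0 (by decide) 1)
  dH : π (viaA (q4 k) d4) * ρ (dd ω ω⁻¹) * (π (viaA (q4 k) d4))⁻¹ = (ρ (dd ω ω⁻¹))⁻¹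
  quad : ∀ τ, (τ = tau4 ∨ τ = tau4') →
    Commute (ρ (xm 1)) (π (viaA (q4 k) τ) * ρ (xm 1) * (π (viaA (q4 k) τ))⁻¹) ∧
    Commute (ρ (dd ω ω⁻¹)) (π (viaA (q4 k) τ) * ρ (xm 1) * (π (viaA (q4 k) τ))⁻¹) ∧
    Commute (ρ (dd ω ω⁻¹)) (π (viaA (q4 k) τ) * ρ (dd ω ω⁻¹) * (π (viaA (q4 k) τ))⁻¹)

theorem el10_scale (a : Fˣ) (u : F) :
    (dd a a⁻¹)⁻¹ * el 1 0 (by decide) u * dd a a⁻¹ = el 1 0 (by decide) ((a : F) ^ 2 * u) := by
  have h1 : ∀ v : F, el 1 0 (by decide) v = tm * xm (-v) * tm⁻¹ := fun v => by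
    rw [tm_xm, neg_neg]
  have h2 : (dd a a⁻¹)⁻¹ = tm * dd a a⁻¹ * tm⁻¹ := by rw [tm_dd, dd_inv, inv_inv]
  have h3 : dd a a⁻¹ = tm * (dd a a⁻¹)⁻¹ * tm⁻¹ := by rw [dd_inv, inv_inv, tm_dd]
  calc (dd a a⁻¹)⁻¹ * el 1 0 (by decide) u * dd a a⁻¹
      = (tm * dd a a⁻¹ * tm⁻¹) * (tm * xm (-u) * tm⁻¹) * (tm * (dd a a⁻¹)⁻¹ * tm⁻¹) := by
        rw [← h3, ← h1, ← h2]
    _ = tm * (dd a a⁻¹ * xm (-u) * (dd a a⁻¹)⁻¹) * tm⁻¹ := by simp [mul_assoc]
    _ = _ := by
        rw [dd_xm, h1]
        congr 3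
        simp [pow_two]

theorem xm_scale (a : Fˣ) (u : F) :
    dd a a⁻¹ * xm u * (dd a a⁻¹)⁻¹ = xm ((a : F) ^ 2 * u) := by
  rw [dd_xm]
  congr 1
  simp [pow_two]

theorem span_commute {ω : F} (hsp : SpanPowers F ω) (g : G) (x : F → G) (h0 : x 0 = 1)
    (hadd : ∀ a b, x (a + b) = x a * x b) (hpow : ∀ n : ℕ, Commute g (x (ω ^ n))) (u : F) :
    Commute g (x u) :=
  hsp (fun a => Commute g (x a)) (by rw [h0]; exact Commute.one_right g)
    (fun a b ha hb => by rw [hadd]; exact ha.mul_right hb) hpow u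

variable {ρ π} {ω : Fˣ} (R : GlueRels ρ π ω) (hsp : SpanPowers F ((ω : F) ^ 2))

include R in
theorem rho_xm_pow (n : ℕ) : ρ (xm (((ω : F) ^ 2) ^ n)) =
    ρ (dd ω ω⁻¹) ^ n * ρ (xm 1) * (ρ (dd ω ω⁻¹) ^ n)⁻¹ := by
  rw [← map_pow, dd_pow, inv_pow, ← map_inv, ← map_mul, ← map_mul, xm_scale, mul_one,
    Units.val_pow_eq_pow_val, ← pow_mul, ← pow_mul, mul_comm]

include R hsp in
theorem far_x (s : alternatingGroup (Fin (k + 4))) (h0 : (s : Perm _) (q4 k 0) = q4 k 0)
    (h1 : (s : Perm _) (q4 k 1) = q4 k 1) (u : F) : Commute (π s) (ρ (xm u)) := by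
  obtain ⟨hx, hh⟩ := R.far s h0 h1
  refine span_commute hsp (π s) (fun a => ρ (xm a)) (by simp [xm, el_zero])
    (fun a b => by show ρ _ = _; rw [← map_mul, xm, xm, xm, el_add]) (fun n => ?_) u
  show Commute _ (ρ (xm (((ω : F) ^ 2) ^ n)))
  rw [rho_xm_pow R]
  exact ((hh.pow_right n).mul_right hx).mul_right (hh.pow_right n).inv_right

include R hsp in
theorem d_x (u : F) :
    π (viaA (q4 k) d4) * ρ (xm u) * (π (viaA (q4 k) d4))⁻¹ = ρ (el 1 0 (by decide) u) := by
  refine hsp (fun a => π (viaA (q4 k) d4) * ρ (xm a) * (π (viaA (q4 k) d4))⁻¹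
    = ρ (el 1 0 (by decide) a)) ?_ ?_ ?_ u
  · simp [xm, el_zero]
  · intro a b ha hb
    rw [show xm (a + b) = xm a * xm b from el_add _ _ _ a b, el_add, map_mul, map_mul, ← ha, ← hb]
    simp [mul_assoc]
  · intro n
    rw [rho_xm_pow R]
    rw [← conj_mul, ← conj_mul, ← conj_inv, ← conj_pow, R.dH, R.dX, ← map_inv, ← map_pow, ← map_inv,
      ← map_mul, ← map_mul, inv_pow, inv_inv, dd_pow, inv_pow, el10_scale, mul_one,
      Units.val_pow_eq_pow_val, ← pow_mul, ← pow_mul, mul_comm]

open scoped Classical in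
variable (ρ π) in
/-- The root elements. -/
noncomputable def root (i j : Fin (k + 4)) (a : F) : G :=
  if h : ∃ s : alternatingGroup (Fin (k + 4)), (s : Perm _) (q4 k 0) = i ∧ (s : Perm _) (q4 k 1) = j
  then π h.choose * ρ (xm a) * (π h.choose)⁻¹ else 1

include R hsp in
theorem root_eq (s : alternatingGroup (Fin (k + 4))) (a : F) :
    root ρ π ((s : Perm _) (q4 k 0)) ((s : Perm _) (q4 k 1)) a = π s * ρ (xm a) * (π s)⁻¹ := by
  have h : ∃ t : alternatingGroup (Fin (k + 4)), (t : Perm _) (q4 k 0) = (s : Perm _) (q4 k 0) ∧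
      (t : Perm _) (q4 k 1) = (s : Perm _) (q4 k 1) := ⟨s, rfl, rfl⟩
  rw [root, dif_pos h]
  obtain ⟨e0, e1⟩ := h.choose_spec
  generalize h.choose = t at e0 e1 ⊢
  have hc := far_x R hsp (s⁻¹ * t)
    (by rw [Subgroup.coe_mul, Perm.mul_apply, e0]; exact (s : Perm (Fin (k + 4))).symm_apply_apply _)
    (by rw [Subgroup.coe_mul, Perm.mul_apply, e1]; exact (s : Perm (Fin (k + 4))).symm_apply_apply _) a
  have e : π t = π s * π (s⁻¹ * t) := by rw [← map_mul, mul_inv_cancel_left]
  rw [e, _root_.mul_inv_rev, mul_assoc (π s) _ (ρ (xm a)), hc.eq]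
  simp [mul_assoc]

theorem exists_alt_pair {i j : Fin (k + 4)} (h : i ≠ j) :
    ∃ s : alternatingGroup (Fin (k + 4)), (s : Perm _) (q4 k 0) = i ∧ (s : Perm _) (q4 k 1) = j := by
  have hq : ∀ a b : Fin 4, a ≠ b → q4 k a ≠ q4 k b := fun a b => (q4 k).injective.ne
  obtain ⟨s, hs | hs⟩ := exists_alt_extending
    (⟨![q4 k 0, q4 k 1], by simp [Function.Injective, Fin.forall_fin_two, hq]⟩ : Fin 2 ↪ _)
    ⟨![i, j], by simp [Function.Injective, Fin.forall_fin_two, h, h.symm]⟩
    (q4 k 2) (q4 k 3) (hq 2 3 (by decide))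
  · exact ⟨s, hs 0, hs 1⟩
  · have a0 : (s : Perm _) (swap (q4 k 2) (q4 k 3) (q4 k 0)) = i := hs 0
    have a1 : (s : Perm _) (swap (q4 k 2) (q4 k 3) (q4 k 1)) = j := hs 1
    rw [swap_apply_of_ne_of_ne (hq 0 2 (by decide)) (hq 0 3 (by decide))] at a0
    rw [swap_apply_of_ne_of_ne (hq 1 2 (by decide)) (hq 1 3 (by decide))] at a1
    exact ⟨s, a0, a1⟩

include R hsp in
theorem root_equivariant (t : alternatingGroup (Fin (k + 4))) {i j : Fin (k + 4)} (h : i ≠ j)
    (a : F) : π t * root ρ π i j a * (π t)⁻¹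
      = root ρ π ((t : Perm _) i) ((t : Perm _) j) a := by
  obtain ⟨s, rfl, rfl⟩ := exists_alt_pair h
  rw [root_eq R hsp, ← Perm.mul_apply, ← Perm.mul_apply, ← Subgroup.coe_mul, root_eq R hsp,
    map_mul]
  simp [mul_assoc]

include R hsp in
theorem rho_el (i j : Fin 3) (h : i ≠ j) (u : F) :
    ρ (el i j h u) = root ρ π (p3 k i) (p3 k j) u := by
  have h01 : ∀ v, ρ (el 0 1 (by decide) v) = root ρ π (p3 k 0) (p3 k 1) v := fun v => by
    have := root_eq R hsp 1 v
    rw [map_one π, one_mul, inv_one, mul_one] at this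
    exact this.symm
  have h10 : ∀ v, ρ (el 1 0 (by decide) v) = root ρ π (p3 k 1) (p3 k 0) v := fun v => by
    have := root_eq R hsp (viaA (q4 k) d4) v
    rw [d_x R hsp, viaA_apply, viaA_apply] at this
    exact this.symm
  have hstep : ∀ (a b : Fin 3) (hab : a ≠ b) (v : F),
      ρ (el a b hab v) = root ρ π (p3 k a) (p3 k b) v →
        ρ (el (a + 1) (b + 1) (by simpa using hab) v)
          = root ρ π (p3 k (a + 1)) (p3 k (b + 1)) v := by
    intro a b hab v e
    have := root_equivariant R hsp (c0 k) ((p3 k).injective.ne hab) v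
    rw [c0, viaA_apply, viaA_apply, ← e, ← c0, R.cyc, ← map_inv, ← map_mul, ← map_mul, cm_el]
      at this
    simpa [c3, finRotate_succ_apply] using this
  fin_cases i <;> fin_cases j <;> first
    | exact absurd rfl h
    | exact h01 u
    | exact h10 u
    | exact hstep 0 1 (by decide) u (h01 u)
    | exact hstep 1 0 (by decide) u (h10 u)
    | exact hstep 1 2 (by decide) u (hstep 0 1 (by decide) u (h01 u))
    | exact hstep 2 1 (by decide) u (hstep 1 0 (by decide) u (h10 u))

include R hsp in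
theorem triple_hom {i j l : Fin (k + 4)} (hij : i ≠ j) (hjl : j ≠ l) (hil : i ≠ l) :
    ∃ (Φ : Matrix.SpecialLinearGroup (Fin 3) F →* G) (P : Fin 3 → Fin (k + 4)) (a b c : Fin 3),
      P a = i ∧ P b = j ∧ P c = l ∧
      ∀ (x y : Fin 3) (h : x ≠ y) (u : F), root ρ π (P x) (P y) u = Φ (el x y h u) := by
  obtain ⟨s, hs⟩ := exists_alt_extending (p3 k)
    ⟨![i, j, l], by simp [Function.Injective, Fin.forall_fin_succ, hij, hjl, hil, hij.symm,
      hjl.symm, hil.symm]⟩ (p3 k 0) (p3 k 1) ((p3 k).injective.ne (by decide))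
  have key : ∀ (x y : Fin 3) (h : x ≠ y) (u : F),
      root ρ π ((s : Perm _) (p3 k x)) ((s : Perm _) (p3 k y)) u
        = (MulAut.conj (π s)).toMonoidHom.comp ρ (el x y h u) := fun x y h u => by
    rw [← root_equivariant R hsp s ((p3 k).injective.ne h) u, ← rho_el R hsp x y h u]
    rfl
  rcases hs with hs | hs
  · exact ⟨_, fun x => (s : Perm _) (p3 k x), 0, 1, 2, hs 0, hs 1, hs 2, key⟩
  · have a0 := hs 0
    have a1 := hs 1
    have a2 := hs 2
    rw [swap_apply_left] at a0
    rw [swap_apply_right] at a1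
    rw [swap_apply_of_ne_of_ne ((p3 k).injective.ne (by decide))
      ((p3 k).injective.ne (by decide))] at a2
    exact ⟨_, fun x => (s : Perm _) (p3 k x), 1, 0, 2, a0, a1, a2, key⟩

include R hsp in
theorem quad_commute {τ : alternatingGroup (Fin 4)} (hτ : τ = tau4 ∨ τ = tau4') (u v : F) :
    Commute (ρ (xm u)) (π (viaA (q4 k) τ) * ρ (xm v) * (π (viaA (q4 k) τ))⁻¹) := by
  obtain ⟨hxy, hhy, hhh⟩ := R.quad τ hτ
  set T := π (viaA (q4 k) τ) with hT
  have hTT : T * T = 1 := by
    rw [hT, ← map_mul, ← map_mul]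
    rcases hτ with rfl | rfl
    · rw [show tau4 * tau4 = (1 : alternatingGroup (Fin 4)) from Subtype.ext (by decide), map_one,
        map_one]
    · rw [show tau4' * tau4' = (1 : alternatingGroup (Fin 4)) from Subtype.ext (by decide), map_one,
        map_one]
  have hTi : T⁻¹ = T := inv_eq_of_mul_eq_one_right hTT
  have hy0 : T * ρ (xm (0 : F)) * T⁻¹ = 1 := by simp [xm, el_zero]
  have hyadd : ∀ a b : F, T * ρ (xm (a + b)) * T⁻¹
      = (T * ρ (xm a) * T⁻¹) * (T * ρ (xm b) * T⁻¹) := fun a b => by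
    rw [show xm (a + b) = xm a * xm b from el_add _ _ _ a b, map_mul, conj_mul]
  have hhv : ∀ a, Commute (ρ (dd ω ω⁻¹)) (T * ρ (xm a) * T⁻¹) :=
    span_commute hsp _ _ hy0 hyadd fun n => by
      show Commute _ (T * ρ (xm (((ω : F) ^ 2) ^ n)) * T⁻¹)
      rw [rho_xm_pow R, ← conj_mul, ← conj_mul, ← conj_inv, ← conj_pow]
      exact ((hhh.pow_right n).mul_right hhy).mul_right (hhh.pow_right n).inv_right
  have hu : ∀ a, Commute (T * ρ (xm 1) * T⁻¹) (ρ (xm a)) :=
    span_commute hsp _ (fun a => ρ (xm a)) (by simp [xm, el_zero])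
      (fun a b => by rw [show xm (a + b) = xm a * xm b from el_add _ _ _ a b, map_mul]) fun n => by
      show Commute _ (ρ (xm (((ω : F) ^ 2) ^ n)))
      rw [rho_xm_pow R]
      exact ((hhy.symm.pow_right n).mul_right hxy.symm).mul_right (hhy.symm.pow_right n).inv_right
  have hv1 : Commute (ρ (xm 1)) (T * ρ (xm v) * T⁻¹) := by
    have h := (hu v).map (MulAut.conj T).toMonoidHom
    have e : MulAut.conj T (T * ρ (xm 1) * T⁻¹) = ρ (xm 1) := by
      rw [MulAut.conj_apply, hTi]
      calc T * (T * ρ (xm 1) * T) * T = (T * T) * ρ (xm 1) * (T * T) := by simp [mul_assoc]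
        _ = _ := by rw [hTT, one_mul, mul_one]
    show Commute (ρ (xm 1)) (MulAut.conj T (ρ (xm v)))
    rw [← e]
    exact h
  refine (span_commute hsp _ (fun a => ρ (xm a)) (by simp [xm, el_zero])
    (fun a b => by rw [show xm (a + b) = xm a * xm b from el_add _ _ _ a b, map_mul])
    (fun n => ?_) u).symm
  show Commute _ (ρ (xm (((ω : F) ^ 2) ^ n)))
  rw [rho_xm_pow R]
  exact (((hhv v).symm.pow_right n).mul_right hv1.symm).mul_right ((hhv v).symm.pow_right n).inv_right

include R hsp in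
theorem disjoint_commute {i j a b : Fin (k + 4)} (hij : i ≠ j) (hab : a ≠ b) (hia : i ≠ a)
    (hib : i ≠ b) (hja : j ≠ a) (hjb : j ≠ b) (t u : F) :
    Commute (root ρ π i j t) (root ρ π a b u) := by
  obtain ⟨s, hs⟩ := exists_alt_extending (q4 k)
    ⟨![i, j, a, b], by simp [Function.Injective, Fin.forall_fin_succ, hij, hab, hia, hib, hja, hjb,
      hij.symm, hab.symm, hia.symm, hib.symm, hja.symm, hjb.symm]⟩
    (q4 k 2) (q4 k 3) ((q4 k).injective.ne (by decide))
  have h1 : root ρ π ((s : Perm _) (q4 k 0)) ((s : Perm _) (q4 k 1)) t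
      = MulAut.conj (π s) (ρ (xm t)) := root_eq R hsp s t
  have key : ∀ τ, (τ = tau4 ∨ τ = tau4') → Commute
      (root ρ π ((s : Perm _) (q4 k 0)) ((s : Perm _) (q4 k 1)) t)
      (root ρ π ((s : Perm _) (q4 k ((τ : Perm (Fin 4)) 0)))
        ((s : Perm _) (q4 k ((τ : Perm (Fin 4)) 1))) u) := by
    intro τ hτ
    have h2 := root_eq R hsp (s * viaA (q4 k) τ) u
    rw [Subgroup.coe_mul, Perm.mul_apply, Perm.mul_apply, viaA_apply, viaA_apply] at h2
    rw [h1, h2, map_mul]
    have h3 := (quad_commute R hsp hτ t u).map (MulAut.conj (π s)).toMonoidHom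
    convert h3 using 1
    all_goals
      show _ = π s * _ * (π s)⁻¹
      simp [mul_assoc]
  rcases hs with hs | hs
  · have := key tau4 (Or.inl rfl)
    rwa [show (tau4 : Perm (Fin 4)) 0 = 2 from rfl, show (tau4 : Perm (Fin 4)) 1 = 3 from rfl,
      hs 0, hs 1, hs 2, hs 3] at this
  · have hq : ∀ x y : Fin 4, x ≠ y → q4 k x ≠ q4 k y := fun x y => (q4 k).injective.ne
    have a0 := hs 0
    have a1 := hs 1
    have a2 := hs 2
    have a3 := hs 3
    rw [swap_apply_of_ne_of_ne (hq 0 2 (by decide)) (hq 0 3 (by decide))] at a0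
    rw [swap_apply_of_ne_of_ne (hq 1 2 (by decide)) (hq 1 3 (by decide))] at a1
    rw [swap_apply_left] at a2
    rw [swap_apply_right] at a3
    have := key tau4' (Or.inr rfl)
    rwa [show (tau4' : Perm (Fin 4)) 0 = 3 from rfl, show (tau4' : Perm (Fin 4)) 1 = 2 from rfl,
      a0, a1, a2, a3] at this

include R hsp in
theorem root_zero_add {i j : Fin (k + 4)} (h : i ≠ j) (a b : F) :
    root ρ π i j (a + b) = root ρ π i j a * root ρ π i j b := by
  obtain ⟨s, rfl, rfl⟩ := exists_alt_pair h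
  rw [root_eq R hsp, root_eq R hsp, root_eq R hsp,
    show xm (a + b) = xm a * xm b from el_add _ _ _ a b, map_mul, conj_mul]

theorem root_diag (i : Fin (k + 4)) (a : F) : root ρ π i i a = 1 := by
  rw [root, dif_neg]
  rintro ⟨s, h0, h1⟩
  exact absurd ((q4 k).injective ((s : Perm _).injective (h0.trans h1.symm))) (by decide)

include R hsp in
theorem stRels : Cfsg.Agent.H54.Presentation.StRels (root ρ π) where
  diag := root_diag
  add i j t u := by
    rcases eq_or_ne i j with rfl | h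
    · simp [root_diag]
    · exact (root_zero_add R hsp h t u).symm
  comm i j a b t u hib hja := by
    rcases eq_or_ne i j with rfl | hij
    · rw [root_diag]; exact Commute.one_left _
    rcases eq_or_ne a b with rfl | hab
    · rw [root_diag]; exact Commute.one_right _
    rcases eq_or_ne i a with rfl | hia
    · rcases eq_or_ne j b with rfl | hjb
      · show _ = _
        rw [← root_zero_add R hsp hij, ← root_zero_add R hsp hij, add_comm]
      · obtain ⟨Φ, P, x, y, z, rfl, rfl, rfl, hΦ⟩ := triple_hom R hsp hij hjb hib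
        have hxy : x ≠ y := fun h => hij (congrArg P h)
        have hxz : x ≠ z := fun h => hib (congrArg P h)
        rw [hΦ x y hxy, hΦ x z hxz]
        exact (tv_comm hxy hxz hxz hxy.symm t u).map Φ
    rcases eq_or_ne j b with rfl | hjb
    · obtain ⟨Φ, P, x, y, z, rfl, rfl, rfl, hΦ⟩ := triple_hom R hsp hia hja.symm hij
      have hxz : x ≠ z := fun h => hij (congrArg P h)
      have hyz : y ≠ z := fun h => hja (congrArg P h).symm
      rw [hΦ x z hxz, hΦ y z hyz]
      exact (tv_comm hxz hyz hxz hyz.symm t u).map Φ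
    exact disjoint_commute R hsp hij hab hia hib hja hjb t u
  mul i j l t u hij hjl hil := by
    obtain ⟨Φ, P, x, y, z, rfl, rfl, rfl, hΦ⟩ := triple_hom R hsp hij hjl hil
    have hxy : x ≠ y := fun h => hij (congrArg P h)
    have hyz : y ≠ z := fun h => hjl (congrArg P h)
    have hxz : x ≠ z := fun h => hil (congrArg P h)
    rw [hΦ x y hxy, hΦ y z hyz, hΦ x z hxz, ← map_mul, ← map_mul, ← map_mul]
    exact congrArg Φ (tv_rule hxy hyz hxz t u)

include R hsp in
theorem roots_top (hgen : ρ.range ⊔ π.range = ⊤) :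
    Subgroup.closure {g | ∃ i j t, g = root ρ π i j t} = ⊤ := by
  set S := Subgroup.closure {g | ∃ i j t, g = root ρ π i j t} with hS
  have hρ : ρ.range ≤ S := by
    rw [MonoidHom.range_eq_map, ← Linear.closure_transvections, MonoidHom.map_closure,
      Subgroup.closure_le]
    rintro _ ⟨_, ⟨i, j, hij, c, rfl⟩, rfl⟩
    exact Subgroup.subset_closure ⟨_, _, _, rho_el R hsp i j hij c⟩
  have hnorm : ∀ t : alternatingGroup (Fin (k + 4)), ∀ g ∈ S, π t * g * (π t)⁻¹ ∈ S := by
    intro t g hg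
    have hle : S.map (MulAut.conj (π t)).toMonoidHom ≤ S := by
      rw [hS, MonoidHom.map_closure, Subgroup.closure_le]
      rintro _ ⟨_, ⟨i, j, c, rfl⟩, rfl⟩
      rcases eq_or_ne i j with rfl | h
      · rw [root_diag]; exact (map_one (MulAut.conj (π t)).toMonoidHom).symm ▸ one_mem _
      · exact Subgroup.subset_closure ⟨_, _, _, root_equivariant R hsp t h c⟩
    exact hle ⟨g, hg, rfl⟩
  have hc0 : π (c0 k) ∈ S := by rw [R.cyc]; exact hρ ⟨_, rfl⟩
  rw [eq_top_iff, ← hgen, sup_le_iff]
  refine ⟨hρ, ?_⟩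
  rintro _ ⟨t, rfl⟩
  have hle : alternatingGroup (Fin (k + 4)) ≤ (S.comap π).map (Subgroup.subtype _) := by
    refine le_trans (le_of_eq closure_three_cycles_eq_alternating.symm) ?_
    rw [Subgroup.closure_le]
    intro σ hσ
    have hc : (c0 k : Perm (Fin (k + 4))).IsThreeCycle := by
      show ((c3 : Perm (Fin 3)).viaEmbedding (p3 k)).cycleType = {3}
      have h := Perm.cycleType_extendDomain (g := (c3 : Perm (Fin 3)))
        (Equiv.ofInjective (p3 k).1 (p3 k).2)
      rw [show (c3 : Perm (Fin 3)).cycleType = {3} from cycleType_finRotate (n := 1)] at h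
      simp only [Perm.viaEmbedding]
      convert h using 3
    obtain ⟨w, hw⟩ := isConj_iff.mp (Perm.isConj_iff_cycleType_eq.mpr (hc.trans hσ.symm))
    rcases Int.units_eq_one_or (sign w) with hs | hs
    · refine ⟨⟨w, mem_alternatingGroup.mpr hs⟩ * c0 k * ⟨w, mem_alternatingGroup.mpr hs⟩⁻¹, ?_, hw⟩
      show π _ ∈ S
      rw [map_mul, map_mul, map_inv]
      exact hnorm _ _ hc0
    · have hne : p3 k 0 ≠ p3 k 1 := (p3 k).injective.ne (by decide)
      let v : alternatingGroup (Fin (k + 4)) := ⟨w * swap (p3 k 0) (p3 k 1),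
        mem_alternatingGroup.mpr (by rw [map_mul, hs, sign_swap hne, Int.units_mul_self])⟩
      refine ⟨v * (c0 k)⁻¹ * v⁻¹, ?_, ?_⟩
      · show π _ ∈ S
        rw [map_mul, map_mul, map_inv π v, map_inv]
        exact hnorm _ _ (inv_mem hc0)
      · rw [map_mul, map_mul, map_inv, map_inv]
        show w * swap (p3 k 0) (p3 k 1) * (c0 k : Perm _)⁻¹ * (w * swap (p3 k 0) (p3 k 1))⁻¹ = σ
        rw [← hw]
        have e : swap (p3 k 0) (p3 k 1) * (c0 k : Perm _)⁻¹ * swap (p3 k 0) (p3 k 1)
            = (c0 k : Perm _) := by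
          show swap (p3 k 0) (p3 k 1) * ((c3 : Perm (Fin 3)).viaEmbedding (p3 k))⁻¹
            * swap (p3 k 0) (p3 k 1) = (c3 : Perm (Fin 3)).viaEmbedding (p3 k)
          have hsw : swap (p3 k 0) (p3 k 1) = (swap (0 : Fin 3) 1).viaEmbedding (p3 k) := by
            refine Equiv.ext fun x => ?_
            by_cases hx : x ∈ Set.range (p3 k)
            · obtain ⟨y, rfl⟩ := hx
              rw [viaEmbedding_apply, (p3 k).injective.swap_apply]
            · rw [viaEmbedding_apply_of_notMem _ _ _ hx,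
                swap_apply_of_ne_of_ne (fun h => hx ⟨0, h.symm⟩) (fun h => hx ⟨1, h.symm⟩)]
          rw [hsw]
          simp only [← viaEmbeddingHom_apply, ← map_inv, ← map_mul]
          exact congrArg _ (by decide)
        calc w * swap (p3 k 0) (p3 k 1) * (c0 k : Perm _)⁻¹ * (w * swap (p3 k 0) (p3 k 1))⁻¹
            = w * (swap (p3 k 0) (p3 k 1) * (c0 k : Perm _)⁻¹ * swap (p3 k 0) (p3 k 1)) * w⁻¹ := by
              simp [mul_assoc]
          _ = _ := by rw [e]
  obtain ⟨t', ht', e⟩ := hle t.2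
  rw [← Subtype.ext e]
  exact ht'

end Glue

section Main

variable {F : Type*} [Field F] [Fintype F]

/-- A bounded presentation of `SL_{k+4}`. -/
theorem hasPres_SL_four_add (k : ℕ) :
    ∃ m, HasPres (Matrix.SpecialLinearGroup (Fin (k + 4)) F) m 67 := by
  classical
  obtain ⟨p, hch⟩ := CharP.exists F
  haveI hpf : Fact p.Prime := ⟨CharP.char_is_prime F p⟩
  letI : Algebra (ZMod p) F := ZMod.algebra F p
  obtain ⟨ω, hω⟩ := IsCyclic.exists_generator (α := Fˣ)
  have hsp : SpanPowers F ((ω : F) ^ 2) :=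
    spanPowers_of_gen fun u => ShortPres.gen_of_generator (p := p) ω hω u
  obtain ⟨rels3, hc3, ⟨eq3⟩⟩ := exists_pres_three (F := F)
  obtain ⟨fT, RT, hRT, hTgen, hTsat, hTuniv⟩ := HasPres.of_presentation hc3 eq3
  obtain ⟨a, ha, fA, RA, hRA, hAgen, hAsat, hAuniv⟩ := hasPres_alt (k + 4)
  obtain ⟨a', ha', fB, RB, hRB, hBgen, -, -⟩ := hasPres_alt (k + 2)
  choose wT hwT using fun y => exists_word hTgen y
  choose wA hwA using fun y => exists_word hAgen y
  let iT : FreeGroup (Fin 4) →* FreeGroup (Fin (4 + a)) :=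
    FreeGroup.lift fun i => FreeGroup.of (Fin.castAdd a i)
  let iA : FreeGroup (Fin a) →* FreeGroup (Fin (4 + a)) :=
    FreeGroup.lift fun i => FreeGroup.of (Fin.natAdd 4 i)
  let fb : Fin (4 + a) → Matrix.SpecialLinearGroup (Fin (k + 4)) F :=
    Fin.append (fun i => emb k (fT i)) (fun i => muA (fA i))
  have lT : ∀ w, FreeGroup.lift fb (iT w) = emb k (FreeGroup.lift fT w) := by
    intro w
    refine DFunLike.congr_fun (f := (FreeGroup.lift fb).comp iT)
      (g := (emb k).comp (FreeGroup.lift fT)) (FreeGroup.ext_hom _ _ fun i => ?_) w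
    simp only [MonoidHom.comp_apply, iT, fb, FreeGroup.lift_apply_of, Fin.append_left]
  have lA : ∀ w, FreeGroup.lift fb (iA w) = muA (FreeGroup.lift fA w) := by
    intro w
    refine DFunLike.congr_fun (f := (FreeGroup.lift fb).comp iA)
      (g := (muA : alternatingGroup (Fin (k + 4)) →* _).comp (FreeGroup.lift fA))
      (FreeGroup.ext_hom _ _ fun i => ?_) w
    simp only [MonoidHom.comp_apply, iA, fb, FreeGroup.lift_apply_of, Fin.append_right]
  let WT := fun y => iT (wT y)
  let WA := fun y => iA (wA y)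
  let e2 : Fin (k + 2) ↪ Fin (k + 4) :=
    ⟨fun i => ⟨i.val + 2, by omega⟩, fun x y h => by simpa [Fin.ext_iff] using h⟩
  let X := WT (xm (1 : F))
  let H := WT (dd ω ω⁻¹)
  let D := WA (viaA (q4 k) d4)
  let cj := fun τ : alternatingGroup (Fin 4) => fun y => WA (viaA (q4 k) τ) * y * (WA (viaA (q4 k) τ))⁻¹
  let l : List (FreeGroup (Fin (4 + a)) × FreeGroup (Fin (4 + a))) :=
    RT.toList.map (fun r => (iT r, 1)) ++ RA.toList.map (fun r => (iA r, 1)) ++
    [(WA (c0 k), WT cm)] ++
    (List.finRange a').map (fun b => (WA (viaA e2 (fB b)) * X, X * WA (viaA e2 (fB b)))) ++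
    (List.finRange a').map (fun b => (WA (viaA e2 (fB b)) * H, H * WA (viaA e2 (fB b)))) ++
    [(D * X * D⁻¹, WT (el 1 0 (by decide) 1)), (D * H * D⁻¹, H⁻¹),
      (X * cj tau4 X, cj tau4 X * X), (H * cj tau4 X, cj tau4 X * H),
      (H * cj tau4 H, cj tau4 H * H),
      (X * cj tau4' X, cj tau4' X * X), (H * cj tau4' X, cj tau4' X * H),
      (H * cj tau4' H, cj tau4' H * H)]
  have hlen : l.length ≤ 67 := by
    simp only [l, List.length_append, List.length_map, List.length_finRange, List.length_cons,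
      List.length_nil, Finset.length_toList]
    omega
  have hq : ∀ x y : Fin 4, x ≠ y → q4 k x ≠ q4 k y := fun x y => (q4 k).injective.ne
  have hp01 : (p3 k 0 : Fin (k + 4)) = q4 k 0 ∧ p3 k 1 = q4 k 1 := ⟨Fin.ext rfl, Fin.ext rfl⟩
  have hgen : Subgroup.closure (Set.range fb) = ⊤ := by
    refine Linear.eq_top_of_transvection_mem fun i j hij c => ?_
    obtain ⟨s, rfl, rfl⟩ := exists_alt_pair hij
    rw [← FreeGroup.range_lift_eq_closure]
    refine ⟨iA (wA s) * iT (wT (xm c)) * (iA (wA s))⁻¹, ?_⟩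
    rw [map_mul, map_mul, map_inv, lT, lA, hwA, hwT, xm, emb_el, muA_tv]
    rfl
  have he2 : ∀ y, (e2 y).val = y.val + 2 := fun _ => rfl
  have hq4 : ∀ x : Fin 4, (q4 k x).val = x.val := fun _ => rfl
  refine ⟨4 + a, HasPres.of_list l hlen fb hgen ?_ ?_⟩
  · -- the relations hold in the linear group
    have hWT : ∀ y, FreeGroup.lift fb (WT y) = emb k y := fun y => by rw [lT, hwT]
    have hWA : ∀ y, FreeGroup.lift fb (WA y) = muA y := fun y => by rw [lA, hwA]
    obtain ⟨f, hf, f0, f1, f2, frest⟩ := emb_dd k ω ω⁻¹ (F := F)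
    have hf3 : f (q4 k 3) = 1 := frest _ fun ⟨x, hx⟩ => by
      have := congrArg Fin.val hx
      simp [p3, q4] at this
      omega
    have hfne : ∀ i, i ≠ q4 k 0 → i ≠ q4 k 1 → f i = 1 := by
      intro i h0 h1
      by_cases hi : i ∈ Set.range (p3 k)
      · obtain ⟨x, rfl⟩ := hi
        fin_cases x
        · exact absurd (Fin.ext rfl) h0
        · exact absurd (Fin.ext rfl) h1
        · rw [show p3 k ((fun i => i) ⟨2, by decide⟩) = q4 k 2 from Fin.ext rfl, f2, mul_inv_cancel]
          simp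
      · exact frest i hi
    have hx : emb k (xm (1 : F)) = tv (hq 0 1 (by decide)) 1 := emb_el k 0 1 (by decide) 1
    intro r hr
    simp only [l, List.mem_append, List.mem_map, Finset.mem_toList, List.mem_cons,
      List.not_mem_nil, or_false] at hr
    rcases hr with ((((⟨s, hs, rfl⟩ | ⟨s, hs, rfl⟩) | rfl) | ⟨b, -, rfl⟩) | ⟨b, -, rfl⟩) |
      rfl | rfl | rfl | rfl | rfl | rfl | rfl | rfl
    · rw [lT, hTsat s hs, map_one, map_one]
    · rw [lA, hAsat s hs, map_one, map_one]
    · rw [hWA, hWT, muA_c0]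
    all_goals simp only [X, H, D, cj, map_mul, map_inv, hWT, hWA, hx]
    · set g := viaA e2 (fB b) with hg
      have g0 : (g : Perm _) (q4 k 0) = q4 k 0 := viaA_fix _ _ fun ⟨y, hy⟩ => by
        have := congrArg Fin.val hy; rw [he2, hq4] at this; simp at this
      have g1 : (g : Perm _) (q4 k 1) = q4 k 1 := viaA_fix _ _ fun ⟨y, hy⟩ => by
        have := congrArg Fin.val hy; rw [he2, hq4] at this; simp at this
      have := muA_tv g (hq 0 1 (by decide)) (1 : F)
      simp only [g0, g1] at this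
      exact mul_inv_eq_iff_eq_mul.mp this
    · set g := viaA e2 (fB b) with hg
      have g0 : (g : Perm _) (q4 k 0) = q4 k 0 := viaA_fix _ _ fun ⟨y, hy⟩ => by
        have := congrArg Fin.val hy; rw [he2, hq4] at this; simp at this
      have g1 : (g : Perm _) (q4 k 1) = q4 k 1 := viaA_fix _ _ fun ⟨y, hy⟩ => by
        have := congrArg Fin.val hy; rw [he2, hq4] at this; simp at this
      refine mul_inv_eq_iff_eq_mul.mp (Subtype.ext ?_)
      rw [muA_diag g hf, hf]
      refine congrArg Matrix.diagonal (funext fun i => ?_)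
      by_cases h0 : i = q4 k 0
      · rw [h0, ← g0, Equiv.symm_apply_apply, g0]
      by_cases h1 : i = q4 k 1
      · rw [h1, ← g1, Equiv.symm_apply_apply, g1]
      rw [hfne i h0 h1, hfne]
      · exact fun h => h0 (by rw [← g0, ← h, Equiv.apply_symm_apply])
      · exact fun h => h1 (by rw [← g1, ← h, Equiv.apply_symm_apply])
    · have := muA_tv (viaA (q4 k) d4) (hq 0 1 (by decide)) (1 : F)
      rw [this, emb_el]
      congr 1 <;> first | exact viaA_apply _ _ _ | skip
    · rw [← map_inv (emb k), dd_inv]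
      obtain ⟨f', hf', f0', f1', f2', frest'⟩ := emb_dd k ω⁻¹ ω⁻¹⁻¹ (F := F)
      refine Subtype.ext ?_
      rw [muA_diag _ hf, hf']
      refine congrArg Matrix.diagonal (funext fun i => ?_)
      have hs : ∀ (x : Fin 4), ((viaA (q4 k) d4 : alternatingGroup _) : Perm _).symm
          (q4 k ((d4 : Perm (Fin 4)) x)) = q4 k x := fun x => by
        rw [Equiv.symm_apply_eq, viaA_apply]
      by_cases hi : i ∈ Set.range (q4 k)
      · obtain ⟨y, rfl⟩ := hi
        have hf3' : f' (q4 k 3) = 1 := frest' _ fun ⟨x, hx⟩ => by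
          have := congrArg Fin.val hx
          simp [p3, q4] at this
          omega
        obtain ⟨x, rfl⟩ := (d4 : Perm (Fin 4)).surjective y
        rw [hs]
        fin_cases x <;> simp [d4, f0, f1, f2, hf3, f0', f1', f2', hf3', swap_apply_of_ne_of_ne]
      · have h3 : ((viaA (q4 k) d4 : alternatingGroup _) : Perm _).symm i = i := by
          rw [Equiv.symm_apply_eq, viaA_fix _ _ hi]
        have hp : i ∉ Set.range (p3 k) := fun ⟨x, hx⟩ => hi ⟨x.castSucc, hx ▸ Fin.ext rfl⟩
        rw [h3, frest i hp, frest' i hp]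
    · have := muA_tv (viaA (q4 k) tau4) (hq 0 1 (by decide)) (1 : F)
      rw [this]
      simp only [viaA_apply]
      exact tv_comm _ _ (hq _ _ (by decide)) (hq _ _ (by decide)) 1 1
    · have := muA_tv (viaA (q4 k) tau4) (hq 0 1 (by decide)) (1 : F)
      rw [this]
      simp only [viaA_apply]
      refine diag_tv_commute hf _ ?_ 1
      show f (q4 k 2) = f (q4 k 3)
      rw [f2, hf3, mul_inv_cancel]; simp
    · exact diag_commute hf (muA_diag _ hf)
    · have := muA_tv (viaA (q4 k) tau4') (hq 0 1 (by decide)) (1 : F)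
      rw [this]
      simp only [viaA_apply]
      exact tv_comm _ _ (hq _ _ (by decide)) (hq _ _ (by decide)) 1 1
    · have := muA_tv (viaA (q4 k) tau4') (hq 0 1 (by decide)) (1 : F)
      rw [this]
      simp only [viaA_apply]
      refine diag_tv_commute hf _ ?_ 1
      show f (q4 k 3) = f (q4 k 2)
      rw [f2, hf3, mul_inv_cancel]; simp
    · exact diag_commute hf (muA_diag _ hf)
  · intro G _ Ψ hΨ hrel θ hθ
    have hr' : ∀ r ∈ l, Ψ r.1 = Ψ r.2 := hrel
    let gT : Fin 4 → G := fun i => Ψ (iT (FreeGroup.of i))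
    let gA : Fin a → G := fun i => Ψ (iA (FreeGroup.of i))
    have hgT : FreeGroup.lift gT = Ψ.comp iT := FreeGroup.ext_hom _ _ fun i => by simp [gT]
    have hgA : FreeGroup.lift gA = Ψ.comp iA := FreeGroup.ext_hom _ _ fun i => by simp [gA]
    obtain ⟨ρ, hρ⟩ := hTuniv G gT fun r hr => by
      have := hr' (iT r, 1) (by
        simp only [l, List.mem_append, List.mem_map, Finset.mem_toList]
        exact Or.inl (Or.inl (Or.inl (Or.inl (Or.inl ⟨r, hr, rfl⟩)))))
      rw [hgT]; simpa using this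
    obtain ⟨π, hπ⟩ := hAuniv G gA fun r hr => by
      have := hr' (iA r, 1) (by
        simp only [l, List.mem_append, List.mem_map, Finset.mem_toList]
        exact Or.inl (Or.inl (Or.inl (Or.inl (Or.inr ⟨r, hr, rfl⟩)))))
      rw [hgA]; simpa using this
    have eT : Ψ.comp iT = ρ.comp (FreeGroup.lift fT) :=
      FreeGroup.ext_hom _ _ fun i => by simp [hρ, gT]
    have eA : Ψ.comp iA = π.comp (FreeGroup.lift fA) :=
      FreeGroup.ext_hom _ _ fun i => by simp [hπ, gA]
    have hPT : ∀ y, Ψ (WT y) = ρ y := fun y => by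
      show Ψ.comp iT (wT y) = _
      rw [eT, MonoidHom.comp_apply, hwT]
    have hPA : ∀ y, Ψ (WA y) = π y := fun y => by
      show Ψ.comp iA (wA y) = _
      rw [eA, MonoidHom.comp_apply, hwA]
    have hθT : θ.comp ρ = emb k := hom_ext_closure hTgen fun i => by
      rw [MonoidHom.comp_apply, hρ]
      show θ.comp Ψ (iT (FreeGroup.of i)) = _
      rw [hθ, lT, FreeGroup.lift_apply_of]
    have hθA : θ.comp π = muA := hom_ext_closure hAgen fun i => by
      rw [MonoidHom.comp_apply, hπ]
      show θ.comp Ψ (iA (FreeGroup.of i)) = _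
      rw [hθ, lA, FreeGroup.lift_apply_of]
    have hfar : ∀ b, Commute (π (viaA e2 (fB b))) (ρ (xm 1))
        ∧ Commute (π (viaA e2 (fB b))) (ρ (dd ω ω⁻¹)) := fun b => by
      refine ⟨?_, ?_⟩
      · have := hr' (WA (viaA e2 (fB b)) * X, X * WA (viaA e2 (fB b))) (by
          simp only [l, List.mem_append, List.mem_map]
          exact Or.inl (Or.inl (Or.inr ⟨b, List.mem_finRange b, rfl⟩)))
        simp only [X, map_mul, hPA, hPT] at this
        exact this
      · have := hr' (WA (viaA e2 (fB b)) * H, H * WA (viaA e2 (fB b))) (by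
          simp only [l, List.mem_append, List.mem_map]
          exact Or.inl (Or.inr ⟨b, List.mem_finRange b, rfl⟩))
        simp only [H, map_mul, hPA, hPT] at this
        exact this
    have R : GlueRels ρ π ω := by
      refine ⟨?_, ?_, ?_, ?_, ?_⟩
      · have := hr' (WA (c0 k), WT cm) (by simp [l])
        simpa only [hPA, hPT] using this
      · intro s s0 s1
        have hmem : ∀ i, i ∈ Set.range e2 ↔ i ≠ q4 k 0 ∧ i ≠ q4 k 1 := by
          intro i
          refine ⟨?_, fun h => ⟨⟨i.val - 2, by omega⟩, Fin.ext ?_⟩⟩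
          · rintro ⟨y, rfl⟩
            constructor <;>
              (intro h; have := congrArg Fin.val h; rw [he2, hq4] at this; simp at this)
          · have h0 : i.val ≠ 0 := fun e => h.1 (Fin.ext (e.trans (hq4 0).symm))
            have h1 : i.val ≠ 1 := fun e => h.2 (Fin.ext (e.trans (hq4 1).symm))
            rw [he2]
            show i.val - 2 + 2 = i.val
            omega
        have hin : ∀ x, ∃ y, e2 y = (s : Perm _) (e2 x) := fun x => by
          refine (hmem _).mpr ⟨fun h => ?_, fun h => ?_⟩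
          · exact ((hmem _).mp ⟨x, rfl⟩).1 ((s : Perm _).injective (h.trans s0.symm))
          · exact ((hmem _).mp ⟨x, rfl⟩).2 ((s : Perm _).injective (h.trans s1.symm))
        choose g hg using hin
        have hgi : Function.Injective g := fun x y h =>
          e2.injective ((s : Perm _).injective (by rw [← hg, ← hg, h]))
        let σ : Perm (Fin (k + 2)) := Equiv.ofBijective g (Finite.injective_iff_bijective.mp hgi)
        have hσ : σ.viaEmbedding e2 = (s : Perm _) := Equiv.ext fun i => by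
          by_cases hi : i ∈ Set.range e2
          · obtain ⟨x, rfl⟩ := hi
            rw [viaEmbedding_apply]
            exact hg x
          · rw [viaEmbedding_apply_of_notMem _ _ _ hi]
            rw [hmem, not_and_or, not_not, not_not] at hi
            rcases hi with rfl | rfl
            · exact s0.symm
            · exact s1.symm
        have hσA : σ ∈ alternatingGroup (Fin (k + 2)) := by
          rw [mem_alternatingGroup, ← sign_via e2, hσ]
          exact mem_alternatingGroup.mp s.2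
        have hs : s = viaA e2 ⟨σ, hσA⟩ := Subtype.ext hσ.symm
        have hC : ∀ z : G, (∀ b, Commute (π (viaA e2 (fB b))) z) →
            ∀ y, Commute (π (viaA e2 y)) z := by
          intro z hz y
          have hle : Subgroup.closure (Set.range fB)
              ≤ (Subgroup.centralizer ({z} : Set G)).comap (π.comp (viaA e2)) := by
            rw [Subgroup.closure_le]
            rintro _ ⟨b, rfl⟩
            exact Subgroup.mem_centralizer_singleton_iff.mpr (hz b).eq
          rw [hBgen] at hle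
          exact Subgroup.mem_centralizer_singleton_iff.mp (hle (Subgroup.mem_top y))
        rw [hs]
        exact ⟨hC _ (fun b => (hfar b).1) _, hC _ (fun b => (hfar b).2) _⟩
      · have := hr' (D * X * D⁻¹, WT (el 1 0 (by decide) 1)) (by simp [l])
        simpa only [D, X, map_mul, map_inv, hPA, hPT] using this
      · have := hr' (D * H * D⁻¹, H⁻¹) (by simp [l])
        simpa only [D, H, map_mul, map_inv, hPA, hPT] using this
      · intro τ hτ
        have h1 : ∀ Y Z, (Y * cj τ Z, cj τ Z * Y) ∈ l →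
            Commute (Ψ Y) (π (viaA (q4 k) τ) * Ψ Z * (π (viaA (q4 k) τ))⁻¹) := fun Y Z hm => by
          have := hr' _ hm
          simp only [cj, map_mul, map_inv, hPA] at this
          exact this
        refine ⟨?_, ?_, ?_⟩
        · have := h1 X X (by rcases hτ with rfl | rfl <;> simp [l])
          simpa only [X, hPT] using this
        · have := h1 H X (by rcases hτ with rfl | rfl <;> simp [l])
          simpa only [X, H, hPT] using this
        · have := h1 H H (by rcases hτ with rfl | rfl <;> simp [l])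
          simpa only [H, hPT] using this
    have hgenG : ρ.range ⊔ π.range = ⊤ := by
      rw [eq_top_iff]
      intro y hy
      clear hy
      obtain ⟨w, rfl⟩ := hΨ y
      have hw : w ∈ Subgroup.closure (Set.range (FreeGroup.of : Fin (4 + a) → _)) := by
        rw [FreeGroup.closure_range_of]; trivial
      induction hw using Subgroup.closure_induction with
      | mem x hx =>
        obtain ⟨i, rfl⟩ := hx
        induction i using Fin.addCases with
        | left i =>
          refine Subgroup.mem_sup_left ⟨fT i, ?_⟩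
          rw [hρ]; simp [gT, iT]
        | right i =>
          refine Subgroup.mem_sup_right ⟨fA i, ?_⟩
          rw [hπ]; simp [gA, iA]
      | one => rw [map_one]; exact one_mem _
      | mul x y _ _ hx hy => rw [map_mul]; exact mul_mem hx hy
      | inv x _ hx => rw [map_inv]; exact inv_mem hx
    refine (stRels R hsp).injective (k + 4) (by omega) (roots_top R hsp hgenG) θ fun i j hij t => ?_
    obtain ⟨s, rfl, rfl⟩ := exists_alt_pair hij
    rw [root_eq R hsp, map_mul, map_mul, map_inv, ← MonoidHom.comp_apply, ← MonoidHom.comp_apply,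
      hθA, hθT, xm, emb_el, muA_tv]
    rfl

end Main

end Cfsg.Agent.H99.BoundedPres
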