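import Cfsg.Agent.H99.Heis
import Cfsg.Agent.Unitary.Wall
import Cfsg.Agent.Unitary.Order

/-! Unitary frames for non-abelian subgroups of order 27 of GU₃(q). -/

set_option autoImplicit false

namespace Cfsg.Agent.H99

open scoped MatrixGroups Matrix
open Cfsg.Agent.Unitary

variable {F : Type*} [Field F] [Fintype F] {q : ℕ}

/-- The diagonalising frame can be chosen unitary. -/
theorem exists_heisData_unitary (hF : Fintype.card F = q ^ 2) (hq3 : q % 3 = 2)
    (R : Subgroup (GL (Fin 3) F)) (hRU : R ≤ Cfsg.GU 3 F q) (d : HeisData R) :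
    ∃ d' : HeisData R, d'.P ∈ Cfsg.GU 3 F q := by
  classical
  set c : Fin 3 → (Fin 3 → F) := fun i => (d.P : Matrix (Fin 3) (Fin 3) F) *ᵥ Pi.single i 1 with hc
  have hω0 : d.ω ≠ 0 := fun h => by have := d.hω; simp [h] at this
  have hωsq : d.ω ^ 2 ≠ 1 := fun h => d.hω1 (by
    have h1 : d.ω ^ 3 = d.ω ^ 2 * d.ω := by ring
    rw [d.hω, h, one_mul] at h1; exact h1.symm)
  have he : ∀ i j : Fin 3, i ≠ j → (![1, d.ω, d.ω ^ 2] i : F) * (![1, d.ω, d.ω ^ 2] j : F) ^ q ≠ 1 := by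
    intro i j hij h
    have hev : ∀ k : Fin 3, (![1, d.ω, d.ω ^ 2] k : F) = d.ω ^ (k : ℕ) := by intro k; fin_cases k <;> simp
    rw [hev, hev, ← pow_mul, ← pow_add] at h
    have ho : orderOf d.ω = 3 := orderOf_eq_prime d.hω d.hω1
    have h1 := orderOf_dvd_of_pow_eq_one h
    rw [ho] at h1
    fin_cases i <;> fin_cases j <;> simp at hij h1 <;> omega
  have hA : ∀ i, (d.a : Matrix (Fin 3) (Fin 3) F) *ᵥ c i = (![1, d.ω, d.ω ^ 2] i : F) • c i := fun i => by
    simp only [hc]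
    rw [Matrix.mulVec_mulVec, d.hA, ← Matrix.mulVec_mulVec, ← Matrix.mulVec_smul]
    congr 1
    funext j
    rw [Matrix.mulVec_diagonal, Pi.smul_apply, smul_eq_mul]
    by_cases hji : j = i
    · subst hji; rfl
    · simp [hji]
  have hdiag : ∀ i j, i ≠ j → hermForm 3 F q (c i) (c j) = 0 := by
    intro i j hij
    have h := (mem_GU_iff.1 (hRU d.ha)) (c i) (c j)
    rw [hA, hA, herm_smul_left, herm_smul_right, ← mul_assoc] at h
    by_contra h0
    exact he i j hij ((mul_eq_right₀ h0).1 h)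
  have hB : ∀ i, (d.b : Matrix (Fin 3) (Fin 3) F) *ᵥ c i = c (i + 1) := fun i => by
    simp only [hc]
    rw [Matrix.mulVec_mulVec, d.hB, ← Matrix.mulVec_mulVec]
    congr 1
    funext j
    fin_cases i <;> fin_cases j <;> simp [shift3, Matrix.mulVec, dotProduct, Fin.sum_univ_three]
  have hnorm : ∀ i, hermForm 3 F q (c (i + 1)) (c (i + 1)) = hermForm 3 F q (c i) (c i) := fun i => by
    have h := (mem_GU_iff.1 (hRU d.hb)) (c i) (c i)
    rwa [hB] at h
  set N := hermForm 3 F q (c 0) (c 0) with hN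
  have hgram : ∀ i j, hermForm 3 F q (c i) (c j) = if i = j then N else 0 := by
    intro i j
    by_cases hij : i = j
    · subst hij
      rw [if_pos rfl]
      have h1 : hermForm 3 F q (c 1) (c 1) = N := hnorm 0
      have h2 : hermForm 3 F q (c 2) (c 2) = N := (hnorm 1).trans h1
      fin_cases i
      · rfl
      · exact h1
      · exact h2
    · rw [if_neg hij, hdiag i j hij]
  have hexp : ∀ u, (d.P : Matrix (Fin 3) (Fin 3) F) *ᵥ u = ∑ i, u i • c i := fun u => by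
    funext r
    simp [hc, Matrix.mulVec, dotProduct, mul_comm]
  have hform : ∀ u v, hermForm 3 F q ((d.P : Matrix (Fin 3) (Fin 3) F) *ᵥ u) ((d.P : Matrix (Fin 3) (Fin 3) F) *ᵥ v) = N * hermForm 3 F q u v := by
    intro u v
    rw [hexp, hexp, herm_sum_left]
    simp only [herm_smul_left, herm_sum_right hF, herm_smul_right, hgram, mul_ite, mul_zero, Finset.sum_ite_eq,
      Finset.mem_univ, if_true]
    rw [Cfsg.hermForm, Finset.mul_sum]
    exact Finset.sum_congr rfl fun i _ => by ring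
  have hN0 : N ≠ 0 := by
    intro h0
    have h1 : c 0 = 0 := eq_zero_of_forall_left hF fun u => by
      obtain ⟨w, rfl⟩ : ∃ w, (d.P : Matrix (Fin 3) (Fin 3) F) *ᵥ w = u :=
        ⟨((d.P⁻¹ : GL (Fin 3) F) : Matrix (Fin 3) (Fin 3) F) *ᵥ u, by rw [Matrix.mulVec_mulVec, Units.mul_inv, Matrix.one_mulVec]⟩
      show hermForm 3 F q _ ((d.P : Matrix (Fin 3) (Fin 3) F) *ᵥ Pi.single 0 1) = 0
      rw [hform, h0, zero_mul]
    have h2 : ((d.P⁻¹ : GL (Fin 3) F) : Matrix (Fin 3) (Fin 3) F) *ᵥ c 0 = Pi.single 0 1 := by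
      simp only [hc]
      rw [Matrix.mulVec_mulVec, Units.inv_mul, Matrix.one_mulVec]
    rw [h1, Matrix.mulVec_zero] at h2
    exact one_ne_zero (α := F) (by simpa using (congrFun h2 0).symm)
  obtain ⟨t, ht⟩ := exists_norm_eq hF (a := N⁻¹) (by rw [inv_pow, hN, herm_self_fixed hF])
  have ht0 : t ≠ 0 := by rintro rfl; simp at ht; exact hN0 ht.symm
  let s : GL (Fin 3) F := Units.map (Matrix.scalar (Fin 3) : F →+* Matrix (Fin 3) (Fin 3) F).toMonoidHom (Units.mk0 t ht0)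
  have hs : ((d.P * s : GL (Fin 3) F) : Matrix (Fin 3) (Fin 3) F) = t • (d.P : Matrix (Fin 3) (Fin 3) F) := by
    rw [Units.val_mul]
    show (d.P : Matrix (Fin 3) (Fin 3) F) * Matrix.scalar (Fin 3) t = _
    rw [← Matrix.scalar_comm t (fun r => mul_comm t r), Matrix.scalar_apply, ← Matrix.smul_one_eq_diagonal,
      Matrix.smul_mul, one_mul]
  refine ⟨{ d with
    P := d.P * s
    hA := by rw [hs, Matrix.mul_smul, d.hA, Matrix.smul_mul]
    hB := by rw [hs, Matrix.mul_smul, d.hB, Matrix.smul_mul] }, ?_⟩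
  rw [mem_GU_iff]
  intro u v
  show hermForm 3 F q (((d.P * s : GL (Fin 3) F) : Matrix (Fin 3) (Fin 3) F) *ᵥ u) (((d.P * s : GL (Fin 3) F) : Matrix (Fin 3) (Fin 3) F) *ᵥ v) = _
  rw [hs, Matrix.smul_mulVec, Matrix.smul_mulVec, herm_smul_left, herm_smul_right, hform, ← mul_assoc, ← mul_assoc, ht,
    inv_mul_cancel₀ hN0, one_mul]

/-- Elements similar to a monomial element in the unitary frame are conjugate to it by an element of SU₃. -/
theorem exists_SU_conj (hF : Fintype.card F = q ^ 2) (P : GL (Fin 3) F) (hP : P ∈ Cfsg.GU 3 F q)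
    (x y : GL (Fin 3) F) (hx : x ∈ Cfsg.GU 3 F q) (hy : y ∈ Cfsg.GU 3 F q) (Q : GL (Fin 3) F) (hQ : Q⁻¹ * x * Q = y)
    (hcomm : ∀ w : F, ((P⁻¹ * y * P : GL (Fin 3) F) : Matrix (Fin 3) (Fin 3) F) * Matrix.diagonal ![w, 1, 1] =
      Matrix.diagonal ![w, 1, 1] * ((P⁻¹ * y * P : GL (Fin 3) F) : Matrix (Fin 3) (Fin 3) F)) :
    ∃ g ∈ Cfsg.GU 3 F q ⊓ Cfsg.Geo.specialLinear (Fin 3) F, g⁻¹ * x * g = y := by
  classical
  have hconj : IsConj ((⟨x, hx⟩ : Cfsg.GU 3 F q) : GL (Fin 3) F) ((⟨y, hy⟩ : Cfsg.GU 3 F q) : GL (Fin 3) F) :=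
    isConj_iff.2 ⟨Q⁻¹, by rw [inv_inv]; exact hQ⟩
  obtain ⟨g, hg⟩ := isConj_iff.1 ((isConj_GU_iff hF _ _).2 hconj)
  have hg' : (g : GL (Fin 3) F) * x * (g : GL (Fin 3) F)⁻¹ = y := congrArg Subtype.val hg
  set δ : F := ((g : GL (Fin 3) F) : Matrix (Fin 3) (Fin 3) F).det with hδ
  have hδn : δ * δ ^ q = 1 := (mem_GU_iff.1 g.2).det_norm hF
  have hδ0 : δ ≠ 0 := fun h => by simp [h] at hδn
  let D : GL (Fin 3) F := Matrix.GeneralLinearGroup.mkOfDetNeZero (Matrix.diagonal ![δ, 1, 1]) (by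
    simp [Matrix.det_diagonal, Fin.prod_univ_three, hδ0])
  have hD : D ∈ Cfsg.GU 3 F q := mem_GU_iff.2 (preserves_diagonal (d := ![δ, 1, 1]) (fun i => by
    fin_cases i <;> simp [hδn]))
  let C : GL (Fin 3) F := P * D * P⁻¹
  have hC : C ∈ Cfsg.GU 3 F q := mul_mem (mul_mem hP hD) (inv_mem hP)
  have hCy : C * y = y * C := by
    have h1 : D * (P⁻¹ * y * P) = (P⁻¹ * y * P) * D := Units.ext (hcomm δ).symm
    calc C * y = P * (D * (P⁻¹ * y * P)) * P⁻¹ := by simp only [C]; group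
      _ = y * C := by rw [h1]; simp only [C]; group
  refine ⟨(g : GL (Fin 3) F)⁻¹ * C, ⟨Subgroup.mul_mem _ (Subgroup.inv_mem _ g.2) hC, ?_⟩, ?_⟩
  · show Matrix.GeneralLinearGroup.det ((g : GL (Fin 3) F)⁻¹ * C) = 1
    have h1 : Matrix.GeneralLinearGroup.det C = Matrix.GeneralLinearGroup.det D := by
      simp only [C, map_mul, map_inv]; rw [mul_comm, inv_mul_cancel_left]
    rw [map_mul, map_inv, h1, inv_mul_eq_one, ← Units.val_inj]
    simp [D, Matrix.det_diagonal, Fin.prod_univ_three, hδ]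
  · calc ((g : GL (Fin 3) F)⁻¹ * C)⁻¹ * x * ((g : GL (Fin 3) F)⁻¹ * C)
        = C⁻¹ * ((g : GL (Fin 3) F) * x * (g : GL (Fin 3) F)⁻¹) * C := by group
      _ = C⁻¹ * (y * C) := by rw [hg']; group
      _ = y := by rw [← hCy, inv_mul_cancel_left]

end Cfsg.Agent.H99
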