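import Mathlib
import Cfsg.Agent.H96.OmegaBridge
import Cfsg.Agent.Orthogonal.Frame

set_option autoImplicit false

/-!
Orthogonal frames over the field with three elements: in dimensions two and three the vectors of one
value form a frame, so a decomposition stabiliser lies in the stabiliser of the refined frame.
-/

namespace Cfsg.Agent.H99

open QuadraticMap Module Cfsg.Agent.Orthogonal Cfsg.Agent.H96

variable {F : Type*} [Field F] [Fintype F]

theorem cases_three (hq : Fintype.card F = 3) (x : F) : x = 0 ∨ x = 1 ∨ x = -1 := by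
  by_cases hx : x = 0
  · exact Or.inl hx
  have h := FiniteField.pow_card_sub_one_eq_one x hx
  rw [hq] at h
  exact Or.inr (sq_eq_one_iff.1 h)

theorem three_zero (hq : Fintype.card F = 3) : (3 : F) = 0 := by
  have h := FiniteField.cast_card_eq_zero F
  rw [hq] at h
  exact_mod_cast h

theorem two_eq (hq : Fintype.card F = 3) : (2 : F) = -1 := by linear_combination three_zero hq

theorem two_ne (hq : Fintype.card F = 3) : (2 : F) ≠ 0 := fun h =>
  one_ne_zero (α := F) (by linear_combination three_zero hq - h)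

variable {V : Type*} [AddCommGroup V] [Module F V] [FiniteDimensional F V] {Q : QuadraticForm F V}

/-- An anisotropic nondegenerate plane has an orthogonal basis of vectors of value one. -/
theorem plane_frame (hq : Fintype.card F = 3) {W : Submodule F V} (hW : Nondeg (restr Q W))
    (hdim : finrank F W = 2) (ha : ∀ u ∈ W, Q u = 0 → u = 0) :
    ∃ e : Fin 2 → V, (∀ l, e l ∈ W) ∧ (∀ l, Q (e l) = 1) ∧ ∀ l l', l ≠ l' → polar Q (e l) (e l') = 0 := by
  obtain ⟨a, ha1⟩ := hW.exists_value (by omega) 1
  have ha0 : a ≠ 0 := fun h => by simp [h] at ha1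
  have hp := hW.finrank_perp_singleton ha0
  obtain ⟨b, hb, hb0⟩ := Submodule.exists_mem_ne_zero_of_ne_bot (p := perp (restr Q W) (Submodule.span F {a}))
    fun h => by rw [h, finrank_bot] at hp; omega
  rw [mem_perp_span_singleton, polar_restr] at hb
  rw [restr_apply] at ha1
  have hb1 : Q (b : V) = 1 := by
    rcases cases_three hq (Q (b : V)) with h | h | h
    · exact absurd (Subtype.ext (ha _ b.2 h)) hb0
    · exact h
    · exfalso
      have h0 : Q ((a : V) + b) = 0 := by rw [map_add_polar, ha1, h, hb]; ring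
      have h1 := ha _ (W.add_mem a.2 b.2) h0
      have h2 : (a : V) = -(b : V) := eq_neg_of_add_eq_zero_left h1
      rw [h2, QuadraticMap.map_neg, h] at ha1
      exact two_ne hq (by linear_combination -ha1)
  refine ⟨![(a : V), (b : V)], ?_, ?_, ?_⟩
  · intro l; fin_cases l <;> simp
  · intro l; fin_cases l <;> simp [ha1, hb1]
  · intro l l' hl
    fin_cases l <;> fin_cases l'
    all_goals first
      | exact absurd rfl hl
      | exact hb
      | (rw [polar_comm]; exact hb)

/-- A nondegenerate three-space has an orthogonal basis with all values equal. -/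
theorem solid_frame (hq : Fintype.card F = 3) {W : Submodule F V} (hW : Nondeg (restr Q W))
    (hdim : finrank F W = 3) :
    ∃ (c : F) (e : Fin 3 → V), c ≠ 0 ∧ (∀ l, e l ∈ W) ∧ (∀ l, Q (e l) = c) ∧
      ∀ l l', l ≠ l' → polar Q (e l) (e l') = 0 := by
  obtain ⟨a, ha⟩ := hW.exists_value (by omega) 1
  have ha0 : a ≠ 0 := fun h => by simp [h] at ha
  set R := restr Q W with hR
  have hna : Nondeg (restr R (Submodule.span F {a})) := fun x hx => by
    obtain ⟨r, hr⟩ := Submodule.mem_span_singleton.1 x.2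
    have h := hx ⟨a, Submodule.mem_span_singleton_self a⟩
    rw [polar_restr, ← hr, polar_smul_left', polar_self', ha, mul_one] at h
    exact Subtype.ext (by rw [← hr, (mul_eq_zero.1 h).resolve_right (two_ne hq), zero_smul]; rfl)
  have hp1 := hW.nondeg_perp hna
  have hf1 := hW.finrank_perp_singleton ha0
  set P := perp R (Submodule.span F {a}) with hP
  obtain ⟨b, hb⟩ := hp1.exists_value (by omega) 1
  have hb0 : b ≠ 0 := fun h => by simp [h] at hb
  have hf2 := hp1.finrank_perp_singleton hb0
  obtain ⟨d, hd, hd0⟩ := Submodule.exists_mem_ne_zero_of_ne_bot (p := perp (restr R P) (Submodule.span F {b}))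
    fun h => by rw [h, finrank_bot] at hf2; omega
  rw [mem_perp_span_singleton] at hd
  have hab : polar Q (a : V) ((b : W) : V) = 0 := by
    have := b.2 a (Submodule.mem_span_singleton_self a)
    rwa [hR, polar_restr] at this
  have had : polar Q (a : V) ((d : W) : V) = 0 := by
    have := d.2 a (Submodule.mem_span_singleton_self a)
    rwa [hR, polar_restr] at this
  rw [polar_restr, hR, polar_restr] at hd
  rw [hR, restr_apply] at ha
  rw [restr_apply, hR, restr_apply] at hb
  have hperm : ∀ x y z : V, polar Q x y = 0 → polar Q x z = 0 → polar Q y z = 0 →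
      ∀ l l' : Fin 3, l ≠ l' → polar Q (![x, y, z] l) (![x, y, z] l') = 0 := by
    intro x y z h1 h2 h3 l l' hl
    fin_cases l <;> fin_cases l'
    all_goals first
      | exact absurd rfl hl
      | exact h1
      | exact h2
      | exact h3
      | (rw [polar_comm]; exact h1)
      | (rw [polar_comm]; exact h2)
      | (rw [polar_comm]; exact h3)
  have hmem : ∀ x y z : V, x ∈ W → y ∈ W → z ∈ W → ∀ l : Fin 3, ![x, y, z] l ∈ W := by
    intro x y z hx hy hz l
    fin_cases l <;> assumption
  rcases cases_three hq (Q ((d : W) : V)) with h | h | h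
  · exfalso
    -- the last vector would be in the radical
    refine hd0 ?_
    have hd2 : ∀ y : P, polar (restr R P) d y = 0 := by
      intro y
      have hz : y - (polar (restr R P) b y * (polar (restr R P) b b)⁻¹) • b ∈
          perp (restr R P) (Submodule.span F {b}) := by
        rw [mem_perp_span_singleton, polar_sub_right, polar_smul_right', mul_assoc, inv_mul_cancel₀ ?_, mul_one,
          sub_self]
        rw [polar_self', restr_apply, hR, restr_apply, hb, mul_one]
        exact two_ne hq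
      have h1 : Module.finrank F (perp (restr R P) (Submodule.span F {b})) = 1 := by omega
      obtain ⟨r, hr⟩ := (finrank_eq_one_iff_of_nonzero' (⟨d, by
          rw [mem_perp_span_singleton, polar_restr, hR, polar_restr]; exact hd⟩ :
            perp (restr R P) (Submodule.span F {b})) (fun e => hd0 (congrArg Subtype.val e))).1 h1 ⟨_, hz⟩
      have hr' : r • d = y - (polar (restr R P) b y * (polar (restr R P) b b)⁻¹) • b :=
        congrArg Subtype.val hr
      have hy : y = r • d + (polar (restr R P) b y * (polar (restr R P) b b)⁻¹) • b := by rw [hr']; abel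
      rw [hy]
      simp only [polar_add_right, polar_smul_right', polar_self', restr_apply, hR, h, polar_restr]
      rw [polar_comm (⇑Q) ((d : W) : V) ((b : W) : V), hd]
      ring
    exact hp1 d hd2
  · exact ⟨1, ![(a : V), ((b : W) : V), ((d : W) : V)], one_ne_zero, hmem _ _ _ a.2 (b : W).2 (d : W).2,
      fun l => by fin_cases l <;> simp [ha, hb, h], hperm _ _ _ hab had hd⟩
  · refine ⟨-1, ![(a : V) + ((b : W) : V), (a : V) - ((b : W) : V), ((d : W) : V)], by simp,
      hmem _ _ _ (W.add_mem a.2 (b : W).2) (W.sub_mem a.2 (b : W).2) (d : W).2, ?_, hperm _ _ _ ?_ ?_ ?_⟩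
    · intro l
      fin_cases l
      · show Q ((a : V) + ((b : W) : V)) = -1
        rw [map_add_polar, ha, hb, hab]; linear_combination three_zero hq
      · show Q ((a : V) - ((b : W) : V)) = -1
        rw [qmap_sub, ha, hb, hab]; linear_combination three_zero hq
      · exact h
    · rw [polar_add_left, polar_sub_right, polar_sub_right, polar_self', polar_self', ha, hb, hab, polar_comm Q ((b : W) : V) a, hab]; ring
    · rw [polar_add_left, had, hd, add_zero]
    · rw [polar_sub_left, had, hd, sub_zero]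

/-- Vectors of the frame value are, up to sign, frame vectors. -/
theorem eq_frame (hq : Fintype.card F = 3) {k : ℕ} (hk : k ≤ 3) {c : F} (hc : c ≠ 0) {W : Submodule F V}
    (hdim : finrank F W = k) {e : Fin k → V} (hm : ∀ l, e l ∈ W) (hQe : ∀ l, Q (e l) = c)
    (ho : ∀ l l', l ≠ l' → polar Q (e l) (e l') = 0) {v : V} (hv : v ∈ W) (hQv : Q v = c) :
    ∃ l, v = e l ∨ v = -e l := by
  classical
  have hpol : ∀ l l', polar Q (e l) (e l') = if l = l' then 2 * c else 0 := fun l l' => by
    split_ifs with h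
    · rw [h, polar_self', hQe]
    · exact ho l l' h
  have hli : LinearIndependent F e := Fintype.linearIndependent_iff.2 fun g hg l => by
    have h := congrArg (fun x => polar Q (e l) x) hg
    simp only [polar_zero_right] at h
    rw [← polarBilin_apply' (Q := Q), map_sum, Finset.sum_eq_single l] at h
    · rw [map_smul, polarBilin_apply', hpol, if_pos rfl, smul_eq_mul] at h
      exact (mul_eq_zero.1 h).resolve_right (mul_ne_zero (two_ne hq) hc)
    · intro b _ hb
      rw [map_smul, polarBilin_apply', hpol, if_neg (Ne.symm hb), smul_zero]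
    · simp
  have hspan : Submodule.span F (Set.range e) = W := by
    refine Submodule.eq_of_le_of_finrank_eq (Submodule.span_le.2 ?_) ?_
    · rintro _ ⟨l, rfl⟩; exact hm l
    · rw [finrank_span_eq_card hli, Fintype.card_fin, hdim]
  rw [← hspan, Submodule.mem_span_range_iff_exists_fun] at hv
  obtain ⟨x, rfl⟩ := hv
  have hsum : Q (∑ l, x l • e l) = c * ∑ l, x l ^ 2 := by
    have h := polar_self' (Q := Q) (∑ l, x l • e l)
    rw [← polarBilin_apply', map_sum] at h
    simp only [map_sum, map_smul, LinearMap.sum_apply, LinearMap.smul_apply, polarBilin_apply', hpol,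
      smul_eq_mul, mul_ite, mul_zero, Finset.sum_ite_eq', Finset.mem_univ, if_true] at h
    refine mul_left_cancel₀ (two_ne hq) ?_
    rw [← h, Finset.mul_sum, Finset.mul_sum]
    exact Finset.sum_congr rfl fun l _ => by ring
  rw [hsum] at hQv
  have h1 : ∑ l, x l ^ 2 = 1 := mul_left_cancel₀ hc (hQv.trans (mul_one c).symm)
  have h2 : ∑ l, x l ^ 2 = ((Finset.univ.filter fun l => x l ≠ 0).card : F) := by
    rw [Finset.natCast_card_filter]
    refine Finset.sum_congr rfl fun l _ => ?_
    rcases cases_three hq (x l) with h | h | h <;> simp [h]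
  set N := (Finset.univ.filter fun l => x l ≠ 0).card with hN
  have hle : N ≤ k := (Finset.card_filter_le _ _).trans (by simp)
  have hN1 : N = 1 := by
    rw [h2] at h1
    have h3 := three_zero hq
    obtain h | h | h | h : N = 0 ∨ N = 1 ∨ N = 2 ∨ N = 3 := by omega
    · rw [h] at h1; simp at h1
    · exact h
    · rw [h] at h1; push_cast at h1; exact absurd (by linear_combination h1 : (1 : F) = 0) one_ne_zero
    · rw [h] at h1; push_cast at h1; exact absurd (by linear_combination h3 - h1 : (1 : F) = 0) one_ne_zero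
  obtain ⟨l, hl⟩ := Finset.card_eq_one.1 hN1
  have hl' : ∀ b, b ≠ l → x b = 0 := fun b hb => by
    by_contra h
    exact hb (Finset.mem_singleton.1 (hl ▸ Finset.mem_filter.2 ⟨Finset.mem_univ b, h⟩))
  have hxl : x l ≠ 0 :=
    (Finset.mem_filter.1 (show l ∈ Finset.univ.filter (fun l => x l ≠ 0) by rw [hl]; exact Finset.mem_singleton_self l)).2
  refine ⟨l, ?_⟩
  rw [Finset.sum_eq_single l (fun b _ hb => by rw [hl' b hb, zero_smul]) (by simp)]
  rcases cases_three hq (x l) with h | h | h
  · exact absurd h hxl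
  · exact Or.inl (by rw [h, one_smul])
  · exact Or.inr (by rw [h, neg_one_smul])

variable {ι : Type} [Fintype ι] [DecidableEq ι] {R : QuadraticForm F (ι → F)}

/-- A decomposition refined by a frame of lines gives a stabiliser which is not maximal. -/
theorem frames_not_maximal (hq : Fintype.card F = 3) {t k : ℕ} (ht : 5 ≤ t) (hk2 : 2 ≤ k) (hk : k ≤ 3)
    (D : Fin t → Submodule F (ι → F)) (hind : iSupIndep D) (hdim : ∀ i, finrank F (D i) = k)
    (horth : ∀ i j, i ≠ j → ∀ u ∈ D i, ∀ v ∈ D j, polar R u v = 0)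
    {c : F} (hc : c ≠ 0) (e : Fin t → Fin k → ι → F) (hm : ∀ i l, e i l ∈ D i) (hQe : ∀ i l, R (e i l) = c)
    (ho : ∀ i l l', l ≠ l' → polar R (e i l) (e i l') = 0) :
    ∃ K : Subgroup (GL ι F), Cfsg.Geo.decompositionStabilizer D ⊓ Cfsg.Geo.omegaGL (⇑R) < K ∧
      K < Cfsg.Geo.omegaGL (⇑R) := by
  classical
  have h3 := three_zero hq
  have hcc : c * c = 1 := by rcases cases_three hq c with h | h | h <;> simp_all
  let E : Fin t × Fin k → ι → F := fun p => e p.1 p.2
  have hpol : ∀ p p', polar R (E p) (E p') = if p = p' then 2 * c else 0 := by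
    intro p p'
    split_ifs with h
    · rw [h, polar_self']; exact congrArg (2 * ·) (hQe _ _)
    · by_cases h1 : p.1 = p'.1
      · show polar R (e p.1 p.2) (e p'.1 p'.2) = 0
        rw [← h1]
        exact ho _ _ _ fun h2 => h (Prod.ext h1 h2)
      · exact horth _ _ h1 _ (hm _ _) _ (hm _ _)
  have hne0 : ∀ p, E p ≠ 0 := fun p h => by
    have := hQe p.1 p.2
    rw [show e p.1 p.2 = 0 from h, QuadraticMap.map_zero] at this
    exact hc this.symm
  have hdisj : ∀ i j, ∀ v, v ∈ D i → v ∈ D j → v ≠ 0 → i = j := by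
    intro i j v hi hj hv
    by_contra hij
    exact hv (Submodule.disjoint_def.1 (hind.pairwiseDisjoint hij) v hi hj)
  let A : Set (ι → F) := {v | ∃ p, v = E p ∨ v = -E p}
  have hA : ∀ v, v ∈ A ↔ ∃ i, v ∈ D i ∧ R v = c := by
    intro v
    constructor
    · rintro ⟨p, rfl | rfl⟩
      · exact ⟨p.1, hm _ _, hQe _ _⟩
      · exact ⟨p.1, (D p.1).neg_mem (hm _ _), by rw [QuadraticMap.map_neg]; exact hQe _ _⟩
    · rintro ⟨i, hi, hv⟩
      obtain ⟨l, hl⟩ := eq_frame hq hk hc (hdim i) (hm i) (hQe i) (ho i) hi hv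
      exact ⟨(i, l), hl⟩
  let X : Subgroup (O R) :=
    { carrier := {g | ∀ v, (g : (ι → F) ≃ₗ[F] (ι → F)) v ∈ A ↔ v ∈ A}
      one_mem' := fun v => Iff.rfl
      mul_mem' := fun {g h} hg hh v => by rw [Subgroup.coe_mul, mul_app, hg, hh]
      inv_mem' := fun {g} hg v => by
        conv_rhs => rw [← (g : (ι → F) ≃ₗ[F] (ι → F)).apply_symm_apply v]
        exact (hg _).symm }
  have hswap : ∀ p p', p ≠ p' → ∀ r,
      (rO R (E p - E p') : (ι → F) ≃ₗ[F] (ι → F)) (E r) = E (Equiv.swap p p' r) := by
    intro p p' hpp r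
    have hQd : R (E p - E p') = 2 * c := by
      rw [qmap_sub, hpol, if_neg hpp, sub_zero]
      show R (e p.1 p.2) + R (e p'.1 p'.2) = _
      rw [hQe, hQe]; ring
    rw [rO_app, hQd, polar_sub_left, hpol, hpol]
    by_cases h1 : r = p
    · subst h1
      rw [if_pos rfl, if_neg (Ne.symm hpp), sub_zero, inv_mul_cancel₀ (mul_ne_zero (two_ne hq) hc), one_smul,
        Equiv.swap_apply_left]
      abel
    by_cases h2 : r = p'
    · subst h2
      rw [if_neg hpp, if_pos rfl, zero_sub, mul_neg, inv_mul_cancel₀ (mul_ne_zero (two_ne hq) hc), neg_one_smul,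
        Equiv.swap_apply_right]
      abel
    rw [if_neg (Ne.symm h1), if_neg (Ne.symm h2), sub_zero, mul_zero, zero_smul, sub_zero,
      Equiv.swap_apply_of_ne_of_ne h1 h2]
  have hswapA : ∀ p p', p ≠ p' → rO R (E p - E p') ∈ X := by
    intro p p' hpp
    have hfwd : ∀ v ∈ A, (rO R (E p - E p') : (ι → F) ≃ₗ[F] (ι → F)) v ∈ A := by
      rintro v ⟨r, rfl | rfl⟩
      · exact ⟨_, Or.inl (hswap p p' hpp r)⟩
      · exact ⟨Equiv.swap p p' r, Or.inr (by rw [map_neg, hswap p p' hpp r])⟩
    intro v
    refine ⟨fun h => ?_, hfwd v⟩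
    have h1 := hfwd _ h
    rwa [← mul_app, ← Subgroup.coe_mul, rO_mul_self] at h1
  let i0 : Fin t := ⟨0, by omega⟩
  let i1 : Fin t := ⟨1, by omega⟩
  let i2 : Fin t := ⟨2, by omega⟩
  let i3 : Fin t := ⟨3, by omega⟩
  let i4 : Fin t := ⟨4, by omega⟩
  let l0 : Fin k := ⟨0, by omega⟩
  let l1 : Fin k := ⟨1, by omega⟩
  let q0 : Fin t × Fin k := (i0, l0)
  let q1 : Fin t × Fin k := (i1, l0)
  let q2 : Fin t × Fin k := (i2, l0)
  let q3 : Fin t × Fin k := (i3, l0)
  let q4 : Fin t × Fin k := (i4, l0)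
  have n01 : q0 ≠ q1 := by simp [q0, q1, i0, i1]
  have n02 : q0 ≠ q2 := by simp [q0, q2, i0, i2]
  have n03 : q0 ≠ q3 := by simp [q0, q3, i0, i3]
  have n04 : q0 ≠ q4 := by simp [q0, q4, i0, i4]
  have n12 : q1 ≠ q2 := by simp [q1, q2, i1, i2]
  have n13 : q1 ≠ q3 := by simp [q1, q3, i1, i3]
  have n14 : q1 ≠ q4 := by simp [q1, q4, i1, i4]
  have n23 : q2 ≠ q3 := by simp [q2, q3, i2, i3]
  have n24 : q2 ≠ q4 := by simp [q2, q4, i2, i4]
  have n34 : q3 ≠ q4 := by simp [q3, q4, i3, i4]
  refine exists_between R _ X ?_ ?_ ?_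
  · intro x _ hx v
    obtain ⟨σ, hσ⟩ := hx
    have hmem : ∀ i w, (x : (ι → F) ≃ₗ[F] (ι → F)) w ∈ D (σ i) ↔ w ∈ D i := by
      intro i w
      rw [← hσ i, om_toLin']
      rw [Submodule.mem_map_equiv, LinearEquiv.symm_apply_apply]
    rw [hA, hA]
    constructor
    · rintro ⟨j, hj, hv⟩
      refine ⟨σ.symm j, (hmem _ v).1 (by rwa [Equiv.apply_symm_apply]), ?_⟩
      rwa [O.map_app] at hv
    · rintro ⟨i, hi, hv⟩
      exact ⟨σ i, (hmem i v).2 hi, by rw [O.map_app]; exact hv⟩
  · have hb : (rO R (E q1 - E q2) : (ι → F) ≃ₗ[F] (ι → F)) (E q0 - E q1) = E q0 - E q2 := by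
      rw [map_sub, hswap _ _ n12, hswap _ _ n12, Equiv.swap_apply_of_ne_of_ne n01 n02, Equiv.swap_apply_left]
    refine ⟨rO R (E q0 - E q1) * rO R (E q0 - E q2), hb ▸ rO_comm_mem R _ _,
      X.mul_mem (hswapA _ _ n01) (hswapA _ _ n02), ?_⟩
    rintro ⟨σ, hσ⟩
    have hσ2 : ∀ w ∈ D i2, ((rO R (E q0 - E q1) * rO R (E q0 - E q2) : O R) : (ι → F) ≃ₗ[F] (ι → F)) w ∈
        D (σ i2) := fun w hw => by
      rw [← hσ i2, om_toLin']
      exact ⟨w, hw, rfl⟩
    have h1 := hσ2 (E q2) (hm i2 l0)
    rw [Subgroup.coe_mul, mul_app, hswap _ _ n02, Equiv.swap_apply_right, hswap _ _ n01,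
      Equiv.swap_apply_left] at h1
    have e1 := hdisj _ _ _ h1 (hm i1 l0) (hne0 q1)
    let r : Fin t × Fin k := (i2, l1)
    have r0 : r ≠ q0 := by simp [r, q0, i2, i0]
    have r1 : r ≠ q1 := by simp [r, q1, i2, i1]
    have r2 : r ≠ q2 := by simp [r, q2, l0, l1]
    have h2 := hσ2 (E r) (hm i2 l1)
    rw [Subgroup.coe_mul, mul_app, hswap _ _ n02, Equiv.swap_apply_of_ne_of_ne r0 r2, hswap _ _ n01,
      Equiv.swap_apply_of_ne_of_ne r0 r1] at h2
    have e2 := hdisj _ _ _ h2 (hm i2 l1) (hne0 r)
    rw [e1] at e2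
    simp [i1, i2] at e2
  · set d := E q0 + E q1 + E q2 + E q3 with hd
    set a := E q0 - E q4 with ha
    set b := (rO R d : (ι → F) ≃ₗ[F] (ι → F)) a with hb
    refine ⟨rO R a * rO R b, hb ▸ rO_comm_mem R a d, fun hX => ?_⟩
    have hQd : R d = c := by
      rw [hd, map_add_polar, map_add_polar, map_add_polar, polar_add_left, polar_add_left, polar_add_left,
        hpol, hpol, hpol, hpol, hpol, hpol, if_neg n01, if_neg n02, if_neg n12, if_neg n03, if_neg n13, if_neg n23]
      show R (e _ _) + R (e _ _) + 0 + R (e _ _) + (0 + 0) + R (e _ _) + (0 + 0 + 0) = c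
      rw [hQe, hQe, hQe, hQe]
      linear_combination c * h3
    have hpd : polar R d a = 2 * c := by
      simp only [hd, ha, polar_add_left, polar_sub_right, hpol, if_neg (Ne.symm n01), if_neg (Ne.symm n02),
        if_neg (Ne.symm n03), if_neg n04, if_neg n14, if_neg n24, if_neg n34, if_pos]
      ring
    have hQa : R a = 2 * c := by
      rw [ha, qmap_sub, hpol, if_neg n04, sub_zero]
      show R (e _ _) + R (e _ _) = _
      rw [hQe, hQe]; ring
    have hbv : b = a - (2 : F) • d := by
      rw [hb, rO_app, hQd, hpd, ← mul_assoc, mul_comm c⁻¹, mul_assoc, inv_mul_cancel₀ hc, mul_one]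
    have hQb : R b = 2 * c := by rw [hb, O.map_app, hQa]
    set w := (rO R b : (ι → F) ≃ₗ[F] (ι → F)) (E q1) with hw
    have hwA : w ∈ A := by
      have h1 : ((rO R a * rO R b : O R) : (ι → F) ≃ₗ[F] (ι → F)) (E q1) ∈ A := (hX _).2 ⟨q1, Or.inl rfl⟩
      rw [Subgroup.coe_mul, mul_app, ← hw] at h1
      exact (hswapA _ _ n04 w).1 h1
    have hbp : ∀ q, polar R b (E q) = polar R a (E q) - 2 * polar R d (E q) := fun q => by
      rw [hbv, polar_sub_left, polar_smul_left']
    have hinv : (2 * c)⁻¹ = -c := inv_eq_of_mul_eq_one_right (by linear_combination -hcc * 2 - h3)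
    have hwq : ∀ q, q = q2 ∨ q = q3 → polar R w (E q) = c := by
      intro q hq'
      rw [hw, rO_app, hQb, polar_sub_left, polar_smul_left', hbp, hbp, hinv]
      rcases hq' with rfl | rfl <;>
        simp only [hd, ha, polar_add_left, polar_sub_left, hpol, if_neg n01, if_neg n02, if_neg n03, if_neg n12,
          if_neg n13, if_neg n23, if_neg (Ne.symm n04), if_neg (Ne.symm n14), if_neg (Ne.symm n24),
          if_neg (Ne.symm n34), if_neg (Ne.symm n12), if_neg (Ne.symm n13), if_neg (Ne.symm n23), if_pos] <;>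
        linear_combination (16 * c) * hcc + 5 * c * h3
    obtain ⟨p, hp⟩ := hwA
    have key : ∀ q, q = q2 ∨ q = q3 → q = p := fun q hq' => by
      by_contra hne
      refine hc ((hwq q hq').symm.trans ?_)
      rcases hp with h | h <;> rw [h] <;> simp [polar_neg_left, hpol, Ne.symm hne]
    exact n23 ((key q2 (Or.inl rfl)).trans (key q3 (Or.inr rfl)).symm)

end Cfsg.Agent.H99

namespace Cfsg.Agent.H99

open QuadraticMap Module Cfsg.Agent.Orthogonal

/-- Decompositions into pairwise isometric anisotropic planes or three-spaces over three elements. -/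
theorem decomposition_not_maximal {F : Type*} [Field F] [Fintype F] (hq : Fintype.card F = 3) {ι : Type}
    [Fintype ι] [DecidableEq ι] (hn : 13 ≤ Fintype.card ι) {R : QuadraticForm F (ι → F)} {t k : ℕ}
    (D : Fin t → Submodule F (ι → F)) (hD : Cfsg.Geo.IsOrthogonalMDecomposition (⇑R) k D)
    (hk : k = 2 ∨ k = 3) (ha : k = 2 → ∀ i, ¬ Cfsg.Geo.IsPlusTypeOn (⇑R) (D i)) :
    ∃ K : Subgroup (GL ι F), Cfsg.Geo.decompositionStabilizer D ⊓ Cfsg.Geo.omegaGL (⇑R) < K ∧
      K < Cfsg.Geo.omegaGL (⇑R) := by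
  classical
  have hdim := hD.decomp.decomp.finrank_eq
  have hnd : ∀ i, Nondeg (restr R (D i)) := fun i x hx => by
    by_contra hne
    obtain ⟨-, y, hy, hy'⟩ := hD.decomp.nondegenerate i x x.2 (fun h => hne (Subtype.ext h))
    exact hy' ((polar_restr (Q := R) (D i) x ⟨y, hy⟩).symm.trans (hx ⟨y, hy⟩))
  have horth : ∀ i j, i ≠ j → ∀ u ∈ D i, ∀ v ∈ D j, polar R u v = 0 :=
    fun i j hij u hu v hv => hD.decomp.orthogonal i j hij u hu v hv
  have ht : 5 ≤ t := by
    have h1 := Module.finrank_eq_card_basis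
      (((DirectSum.isInternal_submodule_iff_iSupIndep_and_iSup_eq_top D).2
        ⟨hD.decomp.decomp.indep, hD.decomp.decomp.iSup_eq_top⟩).collectedBasis
        (fun i => Module.finBasisOfFinrankEq F (D i) (hdim i)))
    rw [Module.finrank_fintype_fun_eq_card] at h1
    simp at h1
    rcases hk with rfl | rfl <;> omega
  rcases hk with rfl | rfl
  · have hex : ∀ i, ∃ e : Fin 2 → ι → F, (∀ l, e l ∈ D i) ∧ (∀ l, R (e l) = 1) ∧
        ∀ l l', l ≠ l' → polar R (e l) (e l') = 0 := fun i =>
      plane_frame hq (hnd i) (hdim i) fun u hu hQu => by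
        by_contra hu0
        refine ha rfl i ⟨Submodule.span F {u}, ?_, ?_, ?_⟩
        · rwa [Submodule.span_singleton_le_iff_mem]
        · intro w hw
          obtain ⟨r, rfl⟩ := Submodule.mem_span_singleton.1 hw
          rw [qmap_smul, hQu, mul_zero]
        · rw [finrank_span_singleton hu0, hdim]
    choose e hm hQe ho using hex
    exact frames_not_maximal hq ht le_rfl (by omega) D hD.decomp.decomp.indep hdim horth one_ne_zero e hm hQe ho
  · obtain ⟨c, e, hc, hm, hQe, ho⟩ := solid_frame hq (hnd ⟨0, by omega⟩) (hdim _)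
    choose φ hφ using fun i => hD.isometric ⟨0, by omega⟩ i
    refine frames_not_maximal hq ht (by omega) le_rfl D hD.decomp.decomp.indep hdim horth hc
      (fun i l => ((φ i ⟨e l, hm l⟩ : D i) : ι → F)) (fun i l => (φ i _).2) (fun i l => (hφ i _).trans (hQe l)) ?_
    intro i l l' hl
    rw [QuadraticMap.polar, ← Submodule.coe_add, ← map_add, hφ i, hφ i, hφ i]
    exact ho l l' hl

end Cfsg.Agent.H99
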