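import Cfsg.Agent.H99.AltCarmichael
import Cfsg.Agent.H99.HasPres

/-!
`Alt(p+2)` has a presentation with three generators and eight relations: `AGL(1,p)`, twisted by
parity, permutes the Carmichael generators.
-/

namespace Cfsg.Agent.H99.BoundedPres

open Equiv Equiv.Perm

theorem conj_zpow_sq {G : Type*} [Group G] {x y : G} {e : ℤˣ}
    (h : (x ^ (e : ℤ) * y ^ (e : ℤ)) ^ 2 = 1) : (x * y) ^ 2 = 1 := by
  rcases Int.units_eq_one_or e with rfl | rfl
  · simpa using h
  · simp only [Units.val_neg, Units.val_one, zpow_neg, zpow_one, pow_two] at h ⊢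
    have h1 : y * x * (y * x) = 1 := by
      have := congrArg (fun g => g⁻¹) h
      simpa [mul_assoc] using this
    calc x * y * (x * y) = x * (y * x * (y * x)) * x⁻¹ := by simp [mul_assoc]
      _ = 1 := by rw [h1]; simp

theorem zpow_unit_sq {G : Type*} [Group G] {x y : G} {e : ℤˣ}
    (h : (x * y) ^ 2 = 1) : (x ^ (e : ℤ) * y ^ (e : ℤ)) ^ 2 = 1 := by
  have := conj_zpow_sq (x := x ^ (e : ℤ)) (y := y ^ (e : ℤ)) (e := e)
  refine this ?_
  rw [← zpow_mul, ← zpow_mul, ← Units.val_mul, Int.units_mul_self]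
  simpa using h

variable (p : ℕ) [Fact p.Prime]

/-- The generators of the window. -/
def winGen (r : (ZMod p)ˣ) : Fin 3 → alternatingGroup (Fin 2 ⊕ ZMod p) :=
  ![twist (Equiv.addRight 1), twist (Units.mulLeft r : Perm (ZMod p)), zA 0]

theorem addRight_pow (n : ℕ) (i : ZMod p) :
    ((Equiv.addRight (1 : ZMod p)) ^ n) i = i + n := by
  induction n generalizing i with
  | zero => simp
  | succ n ih => rw [pow_succ, Perm.mul_apply, ih]; simp; ring

theorem sign_addRight (hp : p ≠ 2) : sign (Equiv.addRight (1 : ZMod p)) = 1 := by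
  have h : (Equiv.addRight (1 : ZMod p)) ^ p = 1 := Equiv.ext fun i => by
    rw [addRight_pow, ZMod.natCast_self, add_zero, Perm.one_apply]
  have h2 := congrArg sign h
  rw [map_pow, map_one] at h2
  rcases Int.units_eq_one_or (sign (Equiv.addRight (1 : ZMod p))) with e | e
  · exact e
  · rw [e, ((Fact.out : p.Prime).odd_of_ne_two hp).neg_one_pow] at h2
    exact absurd h2 (by decide)

theorem twist_add_z (hp : p ≠ 2) (n : ℕ) (i : ZMod p) :
    twist (Equiv.addRight 1) ^ n * zA i * (twist (Equiv.addRight 1) ^ n)⁻¹ = zA (i + n) := by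
  rw [← map_pow, twist_z, addRight_pow, map_pow, sign_addRight p hp, one_pow, Units.val_one,
    zpow_one]

theorem hasPres_window (hp : p ≠ 2) :
    HasPres (alternatingGroup (Fin 2 ⊕ ZMod p)) 3 8 := by
  classical
  have hpp : p.Prime := Fact.out
  obtain ⟨r, hr⟩ := IsCyclic.exists_generator (α := (ZMod p)ˣ)
  set fg := winGen p r with hfg
  set A := twist (I := ZMod p) (Equiv.addRight 1) with hA
  set B := twist (I := ZMod p) (Units.mulLeft r : Perm (ZMod p)) with hB
  set ε : ℤˣ := sign (Units.mulLeft r : Perm (ZMod p)) with hε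
  set a := FreeGroup.of (0 : Fin 3) with ha
  set b := FreeGroup.of (1 : Fin 3) with hb
  set z := FreeGroup.of (2 : Fin 3) with hz
  have la : FreeGroup.lift fg a = A := by simp [ha, hfg, winGen, hA]
  have lb : FreeGroup.lift fg b = B := by simp [hb, hfg, winGen, hB]
  have lz : FreeGroup.lift fg z = zA 0 := by simp [hz, hfg, winGen]
  let zf : ZMod p → FreeGroup (Fin 3) := fun i => a ^ i.val * z * (a ^ i.val)⁻¹
  have lzf : ∀ i, FreeGroup.lift fg (zf i) = zA i := fun i => by
    simp only [zf, map_mul, map_pow, map_inv, la, lz]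
    rw [hA, twist_add_z p hp, zero_add, ZMod.natCast_zmod_val]
  have hwords : Subgroup.closure (Set.range fun i => FreeGroup.lift fg (zf i)) = ⊤ := by
    simp_rw [lzf]; exact zA_gen
  obtain ⟨wa, hwa⟩ := exists_word hwords A
  obtain ⟨wb, hwb⟩ := exists_word hwords B
  have hlift : ∀ w, FreeGroup.lift fg (FreeGroup.lift zf w)
      = FreeGroup.lift (fun i => FreeGroup.lift fg (zf i)) w := fun w => by
    refine DFunLike.congr_fun (f := (FreeGroup.lift fg).comp (FreeGroup.lift zf))
      (g := FreeGroup.lift _) (FreeGroup.ext_hom _ _ fun i => by simp) w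
  let l : List (FreeGroup (Fin 3) × FreeGroup (Fin 3)) :=
    [(a ^ p, 1), (b ^ (p - 1), 1), (b * a * b⁻¹, a ^ (r : ZMod p).val), (z ^ 3, 1),
      (b * z * b⁻¹, z ^ (ε : ℤ)), ((z * (a * z * a⁻¹)) ^ 2, 1),
      (a, FreeGroup.lift zf wa), (b, FreeGroup.lift zf wb)]
  have hgen : Subgroup.closure (Set.range fg) = ⊤ := by
    rw [eq_top_iff, ← zA_gen, Subgroup.closure_le]
    rintro _ ⟨i, rfl⟩
    rw [SetLike.mem_coe, ← lzf, ← FreeGroup.range_lift_eq_closure]
    exact ⟨_, rfl⟩
  refine HasPres.of_list l (by simp [l]) fg hgen ?_ ?_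
  · simp only [l, List.forall_mem_cons, List.not_mem_nil, IsEmpty.forall_iff, implies_true,
      and_true, map_mul, map_pow, map_inv, map_one, map_zpow, la, lb, lz]
    have hbz : ∀ i : ZMod p, (Units.mulLeft r : Perm (ZMod p)) i = (r : ZMod p) * i := fun i => rfl
    refine ⟨?_, ?_, ?_, zA_cube 0, ?_, ?_, ?_, ?_⟩
    · rw [hA, ← map_pow, show (Equiv.addRight (1 : ZMod p)) ^ p = 1 from Equiv.ext fun i => by
        rw [addRight_pow, ZMod.natCast_self, add_zero, Perm.one_apply], map_one]
    · rw [hB, ← map_pow, show (Units.mulLeft r : Perm (ZMod p)) ^ (p - 1) = 1 from ?_, map_one]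
      have e : ∀ n : ℕ, ∀ i, ((Units.mulLeft r : Perm (ZMod p)) ^ n) i = ((r ^ n : (ZMod p)ˣ) : ZMod p) * i := by
        intro n
        induction n with
        | zero => intro i; simp
        | succ n ih => intro i; rw [pow_succ, Perm.mul_apply, ih, hbz, pow_succ, Units.val_mul, mul_assoc]
      refine Equiv.ext fun i => ?_
      rw [e, ZMod.units_pow_card_sub_one_eq_one, Units.val_one, one_mul, Perm.one_apply]
    · rw [hA, hB, ← map_inv, ← map_mul, ← map_mul, ← map_pow]
      congr 1
      refine Equiv.ext fun i => ?_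
      rw [addRight_pow, ZMod.natCast_zmod_val, Perm.mul_apply, Perm.mul_apply]
      obtain ⟨j, rfl⟩ := (Units.mulLeft r : Perm (ZMod p)).surjective i
      rw [Perm.inv_def, Equiv.symm_apply_apply, hbz, hbz, Equiv.coe_addRight, mul_add, mul_one]
    · rw [hB, twist_z, hbz, mul_zero]
    · have h1 := twist_add_z p hp 1 (0 : ZMod p)
      rw [pow_one, zero_add, Nat.cast_one] at h1
      rw [hA, h1]
      exact zA_pair 0 1 zero_ne_one
    · rw [hlift]; exact hwa.symm
    · rw [hlift]; exact hwb.symm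
  · intro G _ π hπ hrel θ hθ
    simp only [l, List.forall_mem_cons, List.not_mem_nil, IsEmpty.forall_iff, implies_true,
      and_true, map_mul, map_pow, map_inv, map_one, map_zpow] at hrel
    obtain ⟨rap, -, rba, rz, rbz, rq, rwa', rwb'⟩ := hrel
    let zg : ZMod p → G := fun i => π (zf i)
    have hzg : ∀ n : ℕ, zg n = π a ^ n * π z * (π a ^ n)⁻¹ := fun n => by
      simp only [zg, zf, map_mul, map_pow, map_inv, ZMod.val_natCast]
      rw [← pow_eq_pow_mod n rap]
    have htr : ∀ i : ZMod p, π a * zg i * (π a)⁻¹ = zg (i + 1) := fun i => by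
      rw [← ZMod.natCast_zmod_val i, ← Nat.cast_succ, hzg, hzg, pow_succ']
      simp [mul_assoc]
    have hsc : ∀ i : ZMod p, π b * zg i * (π b)⁻¹ = zg ((r : ZMod p) * i) ^ (ε : ℤ) := fun i => by
      obtain ⟨n, rfl⟩ : ∃ n : ℕ, i = n := ⟨i.val, (ZMod.natCast_zmod_val i).symm⟩
      rw [hzg, ← ZMod.natCast_zmod_val (r : ZMod p), ← Nat.cast_mul, hzg, conj_zpow, pow_mul,
        ← rbz]
      have e : π b * π a ^ n * (π b)⁻¹ = (π a ^ (r : ZMod p).val) ^ n := by rw [← rba, conj_pow]
      calc π b * (π a ^ n * π z * (π a ^ n)⁻¹) * (π b)⁻¹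
          = (π b * π a ^ n * (π b)⁻¹) * (π b * π z * (π b)⁻¹) * (π b * π a ^ n * (π b)⁻¹)⁻¹ := by
            simp [mul_assoc]
        _ = _ := by rw [e]
    have hzero : zg 0 = π z := by
      have := hzg 0; simpa using this
    have hQ1 : ∀ i, (zg i * zg (i + 1)) ^ 2 = 1 := by
      have base : (zg 0 * zg (0 + 1)) ^ 2 = 1 := by rw [← htr, hzero]; exact rq
      intro i
      obtain ⟨n, rfl⟩ : ∃ n : ℕ, i = n := ⟨i.val, (ZMod.natCast_zmod_val i).symm⟩
      induction n with
      | zero => simpa using base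
      | succ n ih =>
        rw [Nat.cast_succ, ← htr (n : ZMod p), ← htr ((n : ZMod p) + 1), conj_mul, conj_pow, ih,
          mul_one, mul_inv_cancel]
    have hQr : ∀ m : ℕ, ∀ i, (zg i * zg (i + ((r ^ m : (ZMod p)ˣ) : ZMod p))) ^ 2 = 1 := by
      intro m
      induction m with
      | zero => intro i; simpa using hQ1 i
      | succ m ih =>
        intro i
        obtain ⟨j, rfl⟩ : ∃ j, i = (r : ZMod p) * j :=
          ⟨((r⁻¹ : (ZMod p)ˣ) : ZMod p) * i, (Units.mul_inv_cancel_left r i).symm⟩
        rw [show r ^ (m + 1) = r * r ^ m from pow_succ' r m, Units.val_mul, ← mul_add]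
        apply conj_zpow_sq (e := ε)
        rw [← hsc, ← hsc, conj_mul, conj_pow, ih, mul_one, mul_inv_cancel]
    have hpair : ∀ i j, i ≠ j → (zg i * zg j) ^ 2 = 1 := by
      intro i j hij
      obtain ⟨m, hm⟩ := mem_powers_iff_mem_zpowers.mpr (hr (Units.mk0 (j - i) (sub_ne_zero.mpr hij.symm)))
      have h := hQr m i
      rwa [show ((r ^ m : (ZMod p)ˣ) : ZMod p) = j - i from congrArg Units.val hm,
        add_sub_cancel] at h
    have hcube : ∀ i, zg i ^ 3 = 1 := fun i => by
      obtain ⟨n, rfl⟩ : ∃ n : ℕ, i = n := ⟨i.val, (ZMod.natCast_zmod_val i).symm⟩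
      rw [hzg, conj_pow, rz, mul_one, mul_inv_cancel]
    have hgG : Subgroup.closure (Set.range zg) = ⊤ := by
      have hsub : ∀ w, π (FreeGroup.lift zf w) ∈ Subgroup.closure (Set.range zg) := fun w => by
        rw [← MonoidHom.comp_apply, ← FreeGroup.range_lift_eq_closure]
        refine ⟨w, ?_⟩
        refine DFunLike.congr_fun (FreeGroup.ext_hom _ _ fun i => ?_) w
        simp [zg]
      rw [eq_top_iff]
      intro y hy
      clear hy
      obtain ⟨w, rfl⟩ := hπ y
      have hw : w ∈ Subgroup.closure (Set.range (FreeGroup.of : Fin 3 → FreeGroup (Fin 3))) := by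
        rw [FreeGroup.closure_range_of]; trivial
      induction hw using Subgroup.closure_induction with
      | mem x hx =>
        obtain ⟨i, rfl⟩ := hx
        fin_cases i
        · show π a ∈ _
          rw [rwa']; exact hsub wa
        · show π b ∈ _
          rw [rwb']; exact hsub wb
        · show π z ∈ _
          rw [← hzero]; exact Subgroup.subset_closure ⟨0, rfl⟩
      | one => rw [map_one]; exact one_mem _
      | mul x y _ _ hx hy => rw [map_mul]; exact mul_mem hx hy
      | inv x _ hx => rw [map_inv]; exact inv_mem hx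
    obtain ⟨hfin, hle⟩ := card_le_carmichael' zg hcube hpair hgG
    refine injective_of_card_le hgen hθ ?_
    have := two_mul_card (I := ZMod p)
    omega

end Cfsg.Agent.H99.BoundedPres
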