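import Mathlib

/-! Automorphisms of prime order of small groups. -/

set_option autoImplicit false

namespace Cfsg.Agent.H99

/-- An automorphism of prime order `r ≥ 3` of a group with fewer than `2 r` elements fixes every element which is not
an involution. -/
theorem aut_fixes_of_card_lt {G : Type*} [Group G] [Finite G] (r : ℕ) (hr : r.Prime) (h3 : 3 ≤ r)
    (hG : Nat.card G < 2 * r) (φ : MulAut G) (hφ : φ ^ r = 1) (a : G) (ha : a * a ≠ 1) : φ a = a := by
  classical
  by_contra hne
  have hf : ∀ k : ℕ, (φ : G → G)^[k] a = (φ ^ k) a := by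
    intro k
    induction k with
    | zero => simp
    | succ k ih => rw [Function.iterate_succ_apply', ih, pow_succ', MulAut.mul_apply]
  have h1 : Function.IsPeriodicPt (φ : G → G) r a := by
    show (φ : G → G)^[r] a = a
    rw [hf, hφ, MulAut.one_apply]
  have hper : Function.minimalPeriod (φ : G → G) a = r := by
    rcases (Nat.dvd_prime hr).1 h1.minimalPeriod_dvd with h2 | h2
    · exact absurd (Function.minimalPeriod_eq_one_iff_isFixedPt.1 h2) hne
    · exact h2
  have hinj : Function.Injective
      (fun x : Fin r × Bool => if x.2 then (φ : G → G)^[(x.1 : ℕ)] a else ((φ : G → G)^[(x.1 : ℕ)] a)⁻¹) := by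
    have heq : ∀ c d : Fin r, (φ : G → G)^[(c : ℕ)] a = (φ : G → G)^[(d : ℕ)] a → c = d := fun c d h =>
      Fin.ext (Function.iterate_injOn_Iio_minimalPeriod (by simp [hper]) (by simp [hper]) h)
    have hd : ∀ c d : Fin r, (φ : G → G)^[(c : ℕ)] a = ((φ : G → G)^[(d : ℕ)] a)⁻¹ → False := by
      intro c d h
      have h2 : (φ ^ ((r - (d : ℕ)) + (c : ℕ))) a = a⁻¹ := by
        rw [pow_add, MulAut.mul_apply, ← hf, h, map_inv, hf, ← MulAut.mul_apply, ← pow_add,
          Nat.sub_add_cancel d.2.le, hφ, MulAut.one_apply]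
      have h4 : Function.IsPeriodicPt (φ : G → G) ((r - (d : ℕ) + c) + (r - (d : ℕ) + c)) a := by
        show (φ : G → G)^[_] a = a
        rw [hf, pow_add, MulAut.mul_apply, h2, map_inv, h2, inv_inv]
      have h5 := h4.minimalPeriod_dvd
      rw [hper, ← two_mul] at h5
      obtain ⟨k, hk⟩ := ((Nat.coprime_primes hr Nat.prime_two).2 (by omega)).dvd_of_dvd_mul_left h5
      rw [hk, pow_mul, hφ, one_pow, MulAut.one_apply] at h2
      exact ha (mul_eq_one_iff_eq_inv.2 h2)
    rintro ⟨c, b⟩ ⟨d, b'⟩ h
    cases b <;> cases b' <;> simp at h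
    · rw [heq c d h]
    · exact (hd d c h.symm).elim
    · exact (hd c d h).elim
    · rw [heq c d h]
  have := Nat.card_le_card_of_injective _ hinj
  rw [Nat.card_prod, Nat.card_fin, Nat.card_eq_fintype_card, Fintype.card_bool] at this
  omega

end Cfsg.Agent.H99
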