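import Cfsg.Agent.H99.Diag
import Cfsg.Agent.H99.AutSmall

/-! Non-abelian subgroups of order 27 and exponent 3 of GL₃ over a field, and their normalisers. -/

set_option autoImplicit false

namespace Cfsg.Agent.H99

open scoped MatrixGroups

variable {F : Type*} [Field F]

/-- The cyclic shift matrix `e i ↦ e (i+1)`. -/
def shift3 : Matrix (Fin 3) (Fin 3) F := !![0, 0, 1; 1, 0, 0; 0, 1, 0]

/-- The matrix `- (e i ↦ e (-i))`. -/
def negFlip3 : Matrix (Fin 3) (Fin 3) F := !![-1, 0, 0; 0, 0, -1; 0, -1, 0]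

/-- Standard generators of a Heisenberg subgroup. -/
structure HeisData (R : Subgroup (GL (Fin 3) F)) where
  a : GL (Fin 3) F
  b : GL (Fin 3) F
  P : GL (Fin 3) F
  ω : F
  ha : a ∈ R
  hb : b ∈ R
  hgen : Subgroup.closure {a, b} = R
  hω : ω ^ 3 = 1
  hω1 : ω ≠ 1
  hscal : ∃ c ∈ R, (c : Matrix (Fin 3) (Fin 3) F) = ω • 1
  hA : (a : Matrix (Fin 3) (Fin 3) F) * (P : Matrix (Fin 3) (Fin 3) F) = (P : Matrix (Fin 3) (Fin 3) F) * Matrix.diagonal ![1, ω, ω ^ 2]
  hB : (b : Matrix (Fin 3) (Fin 3) F) * (P : Matrix (Fin 3) (Fin 3) F) = (P : Matrix (Fin 3) (Fin 3) F) * (shift3 : Matrix (Fin 3) (Fin 3) F)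

theorem det_eq_pow_of_commutator {E : Type*} [AddCommGroup E] [Module F E] [FiniteDimensional F E]
    (f g : E →ₗ[F] E) (hf : LinearMap.det f ≠ 0) (hg : LinearMap.det g ≠ 0) (c : F)
    (h : f * g = c • (g * f)) : c ^ Module.finrank F E = 1 := by
  have h1 := congrArg LinearMap.det h
  rw [map_mul, LinearMap.det_smul, map_mul, mul_comm (LinearMap.det g)] at h1
  exact (mul_eq_right₀ (mul_ne_zero hf hg)).1 h1.symm

theorem exists_heisData (R : Subgroup (GL (Fin 3) F)) (hR : Nat.card R = 27) (hRe : Monoid.exponent R = 3)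
    (hRna : ¬ IsMulCommutative R) (ω₀ : F) (hω₀ : ω₀ ^ 3 = 1) (hω₀1 : ω₀ ≠ 1) : Nonempty (HeisData R) := by
  classical
  haveI : Finite R := Nat.finite_of_card_ne_zero (by omega)
  haveI : Fact (Nat.Prime 3) := ⟨Nat.prime_three⟩
  have h3 : ∀ x ∈ R, x ^ 3 = 1 := fun x hx => by
    have h := Monoid.pow_exponent_eq_one (⟨x, hx⟩ : R)
    rw [hRe] at h
    exact congrArg Subtype.val h
  obtain ⟨a', b, hab⟩ : ∃ a b : R, a * b ≠ b * a := by
    by_contra h
    push Not at h
    exact hRna ⟨⟨h⟩⟩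
  -- the quotient by the centre is commutative, so the commutator is central
  have hcen : ∀ x y : R, x * y * x⁻¹ * y⁻¹ ∈ Subgroup.center R := by
    intro x y
    have hp : IsPGroup 3 R := IsPGroup.of_card (n := 3) hR
    haveI : Nontrivial R := Finite.one_lt_card_iff_nontrivial.1 (by omega)
    haveI := hp.center_nontrivial
    have hc1 : 1 < Nat.card (Subgroup.center R) := Finite.one_lt_card
    have hmul := Subgroup.card_eq_card_quotient_mul_card_subgroup (Subgroup.center R)
    have hdvd : Nat.card (Subgroup.center R) ∣ 3 ^ 3 := by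
      rw [show (3 : ℕ) ^ 3 = Nat.card R by rw [hR]; norm_num]; exact Subgroup.card_subgroup_dvd_card _
    obtain ⟨i, hi, hci⟩ := (Nat.dvd_prime_pow Nat.prime_three).1 hdvd
    rw [hR, hci] at hmul
    have hq : IsMulCommutative (R ⧸ Subgroup.center R) := by
      interval_cases i
      · exfalso; simp at hci; rw [hci] at hc1; simp at hc1
      · exact IsPGroup.isMulCommutative_of_card_eq_prime_sq (p := 3) (by norm_num at hmul ⊢; omega)
      · haveI : IsCyclic (R ⧸ Subgroup.center R) := isCyclic_of_prime_card (p := 3) (by norm_num at hmul ⊢; omega)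
        infer_instance
      · exfalso; apply hab
        have htop : Subgroup.center R = ⊤ := Subgroup.eq_top_of_card_eq _ (by rw [hci, hR]; norm_num)
        have : a' ∈ Subgroup.center R := by rw [htop]; exact Subgroup.mem_top _
        exact (Subgroup.mem_center_iff.1 this b).symm
    rw [← QuotientGroup.eq_one_iff]
    show (QuotientGroup.mk x * QuotientGroup.mk y * (QuotientGroup.mk x)⁻¹ * (QuotientGroup.mk y)⁻¹ : R ⧸ Subgroup.center R) = 1
    rw [mul_comm' (QuotientGroup.mk x : R ⧸ Subgroup.center R) (QuotientGroup.mk y)]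
    group
  obtain ⟨c, hc⟩ : ∃ c : R, c = a' * b * a'⁻¹ * b⁻¹ := ⟨_, rfl⟩
  have hcc : ∀ g : R, g * c = c * g := by rw [hc]; exact Subgroup.mem_center_iff.1 (hcen a' b)
  have hc1 : c ≠ 1 := fun h => hab (by rw [hc, mul_inv_eq_one, mul_inv_eq_iff_eq_mul] at h; exact h)
  set C : Matrix (Fin 3) (Fin 3) F := ((c : GL (Fin 3) F) : Matrix (Fin 3) (Fin 3) F) with hC
  set A : Matrix (Fin 3) (Fin 3) F := ((a' : GL (Fin 3) F) : Matrix (Fin 3) (Fin 3) F) with hA0
  set B : Matrix (Fin 3) (Fin 3) F := ((b : GL (Fin 3) F) : Matrix (Fin 3) (Fin 3) F) with hB0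
  have hCA : A * C = C * A := by
    have := congrArg (fun z : R => ((z : GL (Fin 3) F) : Matrix (Fin 3) (Fin 3) F)) (hcc a')
    simpa [hA0, hC] using this
  have hCB : B * C = C * B := by
    have := congrArg (fun z : R => ((z : GL (Fin 3) F) : Matrix (Fin 3) (Fin 3) F)) (hcc b)
    simpa [hB0, hC] using this
  have hABC : A * B = C * (B * A) := by
    have h : a' * b = c * (b * a') := by rw [hc]; group
    have := congrArg (fun z : R => ((z : GL (Fin 3) F) : Matrix (Fin 3) (Fin 3) F)) h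
    simpa [hA0, hB0, hC] using this
  have cube : ∀ x : R, ((x : GL (Fin 3) F) : Matrix (Fin 3) (Fin 3) F) ^ 3 = 1 := fun x => by
    rw [← Units.val_pow_eq_pow_val, h3 x x.2, Units.val_one]
  have hC3 : C * C * C = 1 := by
    have := cube c
    rwa [pow_succ, pow_two] at this
  have hC1 : C ≠ 1 := fun h => hc1 (Subtype.ext (Units.ext h))
  have hinvA : ∀ v, A.mulVec v = 0 → v = 0 := fun v hv =>
    Matrix.mulVec_injective_iff_isUnit.2 (a' : GL (Fin 3) F).isUnit (hv.trans (Matrix.mulVec_zero _).symm)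
  have hinvB : ∀ v, B.mulVec v = 0 → v = 0 := fun v hv =>
    Matrix.mulVec_injective_iff_isUnit.2 (b : GL (Fin 3) F).isUnit (hv.trans (Matrix.mulVec_zero _).symm)
  have hω₀2 : ω₀ ^ 2 + ω₀ + 1 = 0 :=
    (mul_eq_zero.1 (show (ω₀ - 1) * (ω₀ ^ 2 + ω₀ + 1) = 0 by linear_combination hω₀)).resolve_left (sub_ne_zero.2 hω₀1)
  have hω₀sq : ω₀ ^ 2 ≠ 1 := fun h => hω₀1 (by
    have : ω₀ ^ 3 = ω₀ ^ 2 * ω₀ := by ring
    rw [hω₀, h, one_mul] at this; exact this.symm)
  -- every matrix of order dividing three has an eigenvector, and a non-trivial eigenvalue if it is not the identity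
  have heig : ∀ (M : Matrix (Fin 3) (Fin 3) F), M * M * M = 1 → M ≠ 1 →
      ∃ μ : F, μ ^ 3 = 1 ∧ μ ≠ 1 ∧ ∃ v, v ≠ 0 ∧ M.mulVec v = μ • v := by
    intro M hM3 hM1
    by_contra hno
    push Not at hno
    have hinj : ∀ μ : F, μ ^ 3 = 1 → μ ≠ 1 → IsUnit (M - μ • (1 : Matrix (Fin 3) (Fin 3) F)) := by
      intro μ h1 h2
      rw [← Matrix.mulVec_injective_iff_isUnit]
      intro v w hvw
      by_contra hne
      apply hno μ h1 h2 (v - w) (sub_ne_zero.2 hne)
      have h0 : (M - μ • (1 : Matrix (Fin 3) (Fin 3) F)).mulVec (v - w) = 0 := by rw [Matrix.mulVec_sub, hvw, sub_self]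
      rwa [Matrix.sub_mulVec, Matrix.smul_mulVec, Matrix.one_mulVec, sub_eq_zero] at h0
    apply hM1
    have hu := (hinj ω₀ hω₀ hω₀1).mul (hinj (ω₀ ^ 2) (by rw [← pow_mul, mul_comm 2, pow_mul, hω₀, one_pow]) hω₀sq)
    have hprod : (M - ω₀ • (1 : Matrix (Fin 3) (Fin 3) F)) * (M - (ω₀ ^ 2) • (1 : Matrix (Fin 3) (Fin 3) F)) * (M - 1) = 0 := by
      have h4 : (M - ω₀ • (1 : Matrix (Fin 3) (Fin 3) F)) * (M - (ω₀ ^ 2) • (1 : Matrix (Fin 3) (Fin 3) F)) = M * M + M + 1 := by
        simp only [sub_mul, mul_sub, Matrix.smul_mul, Matrix.mul_smul, one_mul, mul_one, smul_smul]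
        match_scalars <;> first | ring1 | linear_combination -hω₀2 | linear_combination hω₀
      rw [h4, mul_sub, mul_one, add_mul, add_mul, hM3, one_mul]
      abel
    exact sub_eq_zero.1 (hu.mul_right_eq_zero.1 hprod)
  obtain ⟨ω, hω, hω1, w, hw, hCw⟩ := heig C hC3 hC1
  have hsq : ω ^ 2 ≠ 1 := fun h => hω1 (by
    have : ω ^ 3 = ω ^ 2 * ω := by ring
    rw [hω, h, one_mul] at this; exact this.symm)
  have hCω : C = ω • 1 := by
    let K : Submodule F (Fin 3 → F) := LinearMap.ker (Matrix.toLin' C - ω • LinearMap.id)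
    have hK : ∀ v, v ∈ K ↔ C.mulVec v = ω • v := fun v => by simp [K, sub_eq_zero]
    have hKA : ∀ v ∈ K, (Matrix.toLin' A) v ∈ K := fun v hv => by
      rw [Matrix.toLin'_apply, hK, Matrix.mulVec_mulVec, ← hCA, ← Matrix.mulVec_mulVec, (hK v).1 hv, Matrix.mulVec_smul]
    have hKB : ∀ v ∈ K, (Matrix.toLin' B) v ∈ K := fun v hv => by
      rw [Matrix.toLin'_apply, hK, Matrix.mulVec_mulVec, ← hCB, ← Matrix.mulVec_mulVec, (hK v).1 hv, Matrix.mulVec_smul]
    let f : K →ₗ[F] K := (Matrix.toLin' A).restrict hKA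
    let g : K →ₗ[F] K := (Matrix.toLin' B).restrict hKB
    have hd : ω ^ Module.finrank F K = 1 := by
      refine det_eq_pow_of_commutator f g ?_ ?_ ω ?_
      · intro h
        obtain ⟨v, hv, hv0⟩ := (Submodule.ne_bot_iff _).1 (LinearMap.bot_lt_ker_of_det_eq_zero h).ne'
        exact hv0 (Subtype.ext (hinvA v (congrArg Subtype.val hv)))
      · intro h
        obtain ⟨v, hv, hv0⟩ := (Submodule.ne_bot_iff _).1 (LinearMap.bot_lt_ker_of_det_eq_zero h).ne'
        exact hv0 (Subtype.ext (hinvB v (congrArg Subtype.val hv)))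
      · apply LinearMap.ext
        intro v
        apply Subtype.ext
        show A.mulVec (B.mulVec v) = ω • B.mulVec (A.mulVec (v : Fin 3 → F))
        rw [Matrix.mulVec_mulVec, hABC, ← Matrix.mulVec_mulVec, ← Matrix.mulVec_mulVec]
        exact (hK _).1 (hKB _ (hKA _ v.2))
    have hle : Module.finrank F K ≤ 3 := (Submodule.finrank_le K).trans (by simp)
    have hpos : 0 < Module.finrank F K := Submodule.one_le_finrank_iff.2 (fun h => hw (by
      have := (hK w).2 hCw
      rwa [h, Submodule.mem_bot] at this))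
    have h3' : Module.finrank F K = 3 := by
      interval_cases hm : Module.finrank F K
      · rw [pow_one] at hd; exact absurd hd hω1
      · exact absurd hd hsq
      · rfl
    have htop : K = ⊤ := Submodule.eq_top_of_finrank_eq (by rw [h3']; simp)
    apply Matrix.ext_of_mulVec_single
    intro i
    rw [(hK _).1 (htop ▸ Submodule.mem_top), Matrix.smul_mulVec, Matrix.one_mulVec]
  have hAB : A * B = ω • (B * A) := by rw [hABC, hCω, Matrix.smul_mul, one_mul]
  have hA1 : A ≠ 1 := fun h => hab (Subtype.ext (Units.ext (by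
    rw [Subgroup.coe_mul, Subgroup.coe_mul, Units.val_mul, Units.val_mul, ← hA0, h, one_mul, mul_one])))
  have hA3 : A * A * A = 1 := by
    have := cube a'
    rwa [pow_succ, pow_two] at this
  obtain ⟨μ, hμ, -, v, hv, hAv⟩ := heig A hA3 hA1
  have hμ0 : μ ≠ 0 := fun h => by simp [h] at hμ
  let vs : Fin 3 → (Fin 3 → F) := ![v, B.mulVec v, B.mulVec (B.mulVec v)]
  have hAB' : ∀ u, A.mulVec (B.mulVec u) = ω • B.mulVec (A.mulVec u) := fun u => by
    rw [Matrix.mulVec_mulVec, hAB, Matrix.smul_mulVec, Matrix.mulVec_mulVec]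
  have hvsA : ∀ i, A.mulVec (vs i) = (![μ, μ * ω, μ * ω ^ 2] i) • vs i := by
    intro i; fin_cases i
    · simpa [vs] using hAv
    · simp [vs, hAB', hAv, Matrix.mulVec_smul, smul_smul, mul_comm]
    · show A.mulVec (B.mulVec (B.mulVec v)) = (μ * ω ^ 2) • B.mulVec (B.mulVec v)
      simp only [hAB', hAv, Matrix.mulVec_smul, smul_smul]
      congr 1; ring
  have hvs0 : ∀ i, vs i ≠ 0 := by
    intro i; fin_cases i
    · simpa [vs] using hv
    · simpa [vs] using fun h => hv (hinvB v h)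
    · simpa [vs] using fun h => hv (hinvB v (hinvB _ h))
  have hdist : Function.Injective ![μ, μ * ω, μ * ω ^ 2] := by
    intro i j h
    fin_cases i <;> fin_cases j <;> simp [hμ0, hω1, hsq, pow_two] at h ⊢
    all_goals first
      | exact hω1 h
      | exact hω1 h.symm
      | exact hsq (by linear_combination h)
      | exact hω1 (mul_right_cancel₀ (fun h0 : ω = 0 => by simp [h0] at hω) (by linear_combination h))
      | exact hω1 (mul_right_cancel₀ (fun h0 : ω = 0 => by simp [h0] at hω) (by linear_combination -h))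
  have hli : LinearIndependent F vs := by
    refine Module.End.eigenvectors_linearIndependent' (Matrix.toLin' A) ![μ, μ * ω, μ * ω ^ 2] hdist vs fun i => ?_
    exact ⟨Module.End.mem_eigenspace_iff.2 (by rw [Matrix.toLin'_apply]; exact hvsA i), hvs0 i⟩
  let Pm : Matrix (Fin 3) (Fin 3) F := Matrix.of fun r j => vs j r
  have hPm : IsUnit Pm := Matrix.linearIndependent_cols_iff_isUnit.1 hli
  obtain ⟨k, hk⟩ : ∃ k : ℕ, ω ^ k * μ = 1 := by
    have : (μ - 1) * ((μ - ω) * (μ - ω ^ 2)) = 0 := by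
      have h2 : ω ^ 2 + ω + 1 = 0 :=
        (mul_eq_zero.1 (show (ω - 1) * (ω ^ 2 + ω + 1) = 0 by linear_combination hω)).resolve_left (sub_ne_zero.2 hω1)
      linear_combination hμ + (μ - μ ^ 2) * h2 + (μ - 1) * hω
    rcases mul_eq_zero.1 this with h | h
    · exact ⟨0, by rw [sub_eq_zero.1 h]; ring⟩
    rcases mul_eq_zero.1 h with h | h
    · exact ⟨2, by rw [sub_eq_zero.1 h]; linear_combination hω⟩
    · exact ⟨1, by rw [sub_eq_zero.1 h]; linear_combination hω⟩
  let a : R := c ^ k * a'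
  have hav : ((a : GL (Fin 3) F) : Matrix (Fin 3) (Fin 3) F) = ω ^ k • A := by
    show (((c ^ k * a' : R) : GL (Fin 3) F) : Matrix (Fin 3) (Fin 3) F) = _
    rw [Subgroup.coe_mul, Subgroup.coe_pow, Units.val_mul, Units.val_pow_eq_pow_val, ← hC, hCω, smul_pow, one_pow,
      Matrix.smul_mul, one_mul]
  have hnc : a * b ≠ b * a := by
    intro h
    apply hab
    apply mul_left_cancel (a := c ^ k)
    calc c ^ k * (a' * b) = a * b := (mul_assoc _ _ _).symm
      _ = b * a := h
      _ = c ^ k * (b * a') := by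
        show b * (c ^ k * a') = _
        rw [← mul_assoc, ← mul_assoc, show b * c ^ k = c ^ k * b from Commute.pow_right (hcc b) k]
  refine ⟨⟨a, b, hPm.unit, ω, a.2, b.2, ?_, hω, hω1, ⟨c, c.2, hCω⟩, ?_, ?_⟩⟩
  · set H := Subgroup.closure {(a : GL (Fin 3) F), (b : GL (Fin 3) F)} with hH
    have hle : H ≤ R := (Subgroup.closure_le _).2 (by rintro x (rfl | rfl); exacts [a.2, b.2])
    apply Subgroup.eq_of_le_of_card_ge hle
    have hdvd : Nat.card H ∣ 3 ^ 3 := by
      rw [show (3 : ℕ) ^ 3 = Nat.card R by rw [hR]; norm_num]; exact Subgroup.card_dvd_of_le hle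
    obtain ⟨i, hi, hci⟩ := (Nat.dvd_prime_pow Nat.prime_three).1 hdvd
    rw [hR]
    by_contra hlt
    have hi3 : i < 3 := by
      rcases Nat.lt_or_ge i 3 with h | h
      · exact h
      · exfalso; apply hlt; rw [hci, show i = 3 by omega]; norm_num
    have hcomm : IsMulCommutative H := by
      interval_cases i
      · haveI : Subsingleton H := (Nat.card_eq_one_iff_unique.1 hci).1
        exact ⟨⟨fun x y => Subsingleton.elim _ _⟩⟩
      · haveI : IsCyclic H := isCyclic_of_prime_card (p := 3) (by rw [hci]; norm_num)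
        infer_instance
      · exact IsPGroup.isMulCommutative_of_card_eq_prime_sq (p := 3) hci
    apply hnc
    apply Subtype.ext
    have := mul_comm' (⟨a, Subgroup.subset_closure (Set.mem_insert _ _)⟩ : H)
      ⟨b, Subgroup.subset_closure (Set.mem_insert_of_mem _ rfl)⟩
    exact congrArg (fun z : H => (z : GL (Fin 3) F)) this
  · rw [hav]
    show ω ^ k • A * Pm = Pm * _
    ext r j
    rw [Matrix.smul_mul, Matrix.smul_apply, Matrix.mul_diagonal]
    show ω ^ k • A.mulVec (vs j) r = vs j r * _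
    rw [hvsA]
    fin_cases j <;> simp
    · linear_combination vs 0 r * hk
    · linear_combination vs 1 r * ω * hk
    · linear_combination vs 2 r * ω ^ 2 * hk
  · show B * Pm = Pm * (shift3 : Matrix (Fin 3) (Fin 3) F)
    have hB3 : B.mulVec (B.mulVec (B.mulVec v)) = v := by
      have := cube b
      rw [pow_succ, pow_two] at this
      rw [Matrix.mulVec_mulVec, Matrix.mulVec_mulVec, this, Matrix.one_mulVec]
    ext r j
    show B.mulVec (vs j) r = _
    fin_cases j
    · simp [shift3, Pm, vs, Matrix.mul_apply, Fin.sum_univ_three]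
    · simp [shift3, Pm, vs, Matrix.mul_apply, Fin.sum_univ_three]
    · rw [show vs ((fun i => i) ⟨2, by norm_num⟩) = B.mulVec (B.mulVec v) from rfl, hB3]
      simp [shift3, Pm, vs, Matrix.mul_apply, Fin.sum_univ_three]

variable {R : Subgroup (GL (Fin 3) F)} (d : HeisData R)
include d

/-- Criterion for normalising `R`. -/
theorem HeisData.mem_normalizer [Finite R] (y : GL (Fin 3) F) (h1 : y * d.a * y⁻¹ ∈ R) (h2 : y * d.b * y⁻¹ ∈ R) :
    y ∈ Cfsg.Geo.subgroupNormalizer R := by
  have hle : R.map (MulAut.conj y).toMonoidHom ≤ R := by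
    conv_lhs => rw [← d.hgen]
    rw [MonoidHom.map_closure, Subgroup.closure_le]
    rintro _ ⟨x, hx, rfl⟩
    rcases hx with rfl | rfl
    · simpa using h1
    · simpa using h2
  have heq : R.map (MulAut.conj y).toMonoidHom = R :=
    Subgroup.eq_of_le_of_card_ge hle (le_of_eq (Subgroup.card_map_of_injective (MulEquiv.injective _)).symm)
  rw [Cfsg.Geo.subgroupNormalizer, Subgroup.mem_normalizer_iff]
  intro h
  constructor
  · intro hh; exact hle ⟨h, hh, by simp⟩
  · intro hh
    rw [← heq] at hh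
    obtain ⟨h', hh', he⟩ := hh
    simp only [MulEquiv.toMonoidHom_eq_coe, MonoidHom.coe_coe, MulAut.conj_apply] at he
    rwa [← mul_left_cancel (mul_right_cancel he)]

/-- The diagonal matrices with cube roots of unity as entries normalise `R`. -/
theorem HeisData.diagonal_mem_normalizer [Finite R] (y : GL (Fin 3) F) (e : Fin 3 → F) (he : ∀ i, e i ^ 3 = 1)
    (hy : (y : Matrix (Fin 3) (Fin 3) F) * (d.P : Matrix (Fin 3) (Fin 3) F) = (d.P : Matrix (Fin 3) (Fin 3) F) * Matrix.diagonal e) :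
    y ∈ Cfsg.Geo.subgroupNormalizer R := by
  have key : ∀ (x : GL (Fin 3) F) (u : Fin 3 → F), (x : Matrix (Fin 3) (Fin 3) F) * (d.P : Matrix (Fin 3) (Fin 3) F) = (d.P : Matrix (Fin 3) (Fin 3) F) * Matrix.diagonal u →
      (∀ i, ∃ k : ℕ, u i = d.ω ^ k) → x ∈ Cfsg.Geo.subgroupNormalizer R := by
    intro x u hx hu
    obtain ⟨k0, h0⟩ := hu 0
    obtain ⟨k1, h1⟩ := hu 1
    obtain ⟨k2, h2⟩ := hu 2
    obtain ⟨c, hc, hcv⟩ := d.hscal
    apply d.mem_normalizer
    · have : x * d.a = d.a * x := by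
        apply Units.ext
        apply d.P.isUnit.mul_left_injective
        simp only [Units.val_mul]
        rw [mul_assoc, d.hA, ← mul_assoc, hx, mul_assoc (d.a : Matrix (Fin 3) (Fin 3) F), hx, ← mul_assoc, d.hA,
          mul_assoc, mul_assoc, Matrix.diagonal_mul_diagonal, Matrix.diagonal_mul_diagonal]
        simp [mul_comm]
      rw [this, mul_inv_cancel_right]
      exact d.ha
    · obtain ⟨e1, e2, e3⟩ : ∃ m l : ℕ, (u 1 = u 0 * d.ω ^ m) ∧ (u 2 = u 1 * (d.ω ^ m * d.ω ^ l)) := by
        refine ⟨k1 + 2 * k0, k2 + 2 * k1 + 2 * (k1 + 2 * k0), ?_, ?_⟩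
        · rw [h0, h1, ← pow_add, show k0 + (k1 + 2 * k0) = k1 + 3 * k0 by ring, pow_add, pow_mul, d.hω, one_pow, mul_one]
        · rw [h1, h2, ← pow_add, ← pow_add,
            show k1 + (k1 + 2 * k0 + (k2 + 2 * k1 + 2 * (k1 + 2 * k0))) = k2 + 3 * (2 * k1 + 2 * k0) by ring,
            pow_add, pow_mul, d.hω, one_pow, mul_one]
      have : x * d.b = (d.b * (c ^ e1 * d.a ^ e2)) * x := by
        apply Units.ext
        apply d.P.isUnit.mul_left_injective
        simp only [Units.val_mul, Units.val_pow_eq_pow_val, hcv, smul_pow, one_pow, Matrix.smul_mul, one_mul, Matrix.mul_smul]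
        have hA' : ∀ m : ℕ, (d.a : Matrix (Fin 3) (Fin 3) F) ^ m * (d.P : Matrix (Fin 3) (Fin 3) F) = (d.P : Matrix (Fin 3) (Fin 3) F) * Matrix.diagonal (fun i => ![1, d.ω, d.ω ^ 2] i ^ m) := by
          intro m
          induction m with
          | zero => simp
          | succ m ih =>
            rw [pow_succ, mul_assoc, d.hA, ← mul_assoc, ih, mul_assoc, Matrix.diagonal_mul_diagonal]
            simp [pow_succ]
        rw [mul_assoc, d.hB, ← mul_assoc, hx]
        simp only [mul_assoc]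
        rw [hx, ← mul_assoc ((d.a : Matrix (Fin 3) (Fin 3) F) ^ e2), hA', ← mul_assoc (d.b : Matrix (Fin 3) (Fin 3) F),
          ← mul_assoc (d.b : Matrix (Fin 3) (Fin 3) F), d.hB, mul_assoc, mul_assoc, Matrix.diagonal_mul_diagonal, ← Matrix.mul_smul]
        congr 1
        obtain ⟨hu1, hu2⟩ := e3
        have hw : (d.ω ^ e2) ^ 3 = 1 := by rw [← pow_mul, mul_comm, pow_mul, d.hω, one_pow]
        have hw1 : (d.ω ^ e1) ^ 3 = 1 := by rw [← pow_mul, mul_comm, pow_mul, d.hω, one_pow]
        have hu0 : u 0 = d.ω ^ e1 * ((d.ω ^ 2) ^ e2 * u 2) := by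
          rw [hu2, hu1, show (d.ω ^ 2) ^ e2 = (d.ω ^ e2) ^ 2 by rw [← pow_mul, ← pow_mul, mul_comm]]
          linear_combination (-(u 0) * (d.ω ^ e1) ^ 3) * hw - u 0 * hw1
        ext i j
        fin_cases i <;> fin_cases j <;>
          simp [shift3, Matrix.diagonal_mul, Matrix.mul_diagonal, Matrix.vecMul_diagonal]
        · exact hu0
        · rw [hu1]; ring
        · rw [hu2]; ring
      rw [this, mul_inv_cancel_right]
      exact mul_mem d.hb (mul_mem (pow_mem hc _) (pow_mem d.ha _))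
  refine key y e hy fun i => ?_
  have : (e i - 1) * ((e i - d.ω) * (e i - d.ω ^ 2)) = 0 := by
    have h2 : d.ω ^ 2 + d.ω + 1 = 0 :=
      (mul_eq_zero.1 (show (d.ω - 1) * (d.ω ^ 2 + d.ω + 1) = 0 by linear_combination d.hω)).resolve_left (sub_ne_zero.2 d.hω1)
    linear_combination he i + (e i - e i ^ 2) * h2 + (e i - 1) * d.hω
  rcases mul_eq_zero.1 this with h | h
  · exact ⟨0, by rw [sub_eq_zero.1 h, pow_zero]⟩
  rcases mul_eq_zero.1 h with h | h
  · exact ⟨1, by rw [sub_eq_zero.1 h, pow_one]⟩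
  · exact ⟨2, sub_eq_zero.1 h⟩

/-- The conjugate of `negFlip3` normalises `R`. -/
theorem HeisData.negFlip_mem_normalizer [Finite R] (y : GL (Fin 3) F)
    (hy : (y : Matrix (Fin 3) (Fin 3) F) * (d.P : Matrix (Fin 3) (Fin 3) F) = (d.P : Matrix (Fin 3) (Fin 3) F) * (negFlip3 : Matrix (Fin 3) (Fin 3) F)) : y ∈ Cfsg.Geo.subgroupNormalizer R := by
  apply d.mem_normalizer
  · have : y * d.a = d.a ^ 2 * y := by
      apply Units.ext
      apply d.P.isUnit.mul_left_injective
      simp only [Units.val_mul, Units.val_pow_eq_pow_val]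
      rw [mul_assoc, d.hA, ← mul_assoc, hy, mul_assoc ((d.a : Matrix (Fin 3) (Fin 3) F) ^ 2), hy, ← mul_assoc, pow_two (d.a : Matrix (Fin 3) (Fin 3) F), mul_assoc _ _ (d.P : Matrix (Fin 3) (Fin 3) F), d.hA,
        ← mul_assoc, d.hA, mul_assoc, mul_assoc, mul_assoc, ← mul_assoc (Matrix.diagonal _) (Matrix.diagonal _), Matrix.diagonal_mul_diagonal]
      congr 1
      ext i j
      fin_cases i <;> fin_cases j <;> simp [negFlip3, Matrix.mul_apply, Matrix.diagonal, Fin.sum_univ_three]
      all_goals first | ring1 | linear_combination d.ω * d.hω | linear_combination -d.ω * d.hω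
    rw [this, mul_inv_cancel_right]
    exact pow_mem d.ha _
  · have : y * d.b = d.b ^ 2 * y := by
      apply Units.ext
      apply d.P.isUnit.mul_left_injective
      simp only [Units.val_mul, Units.val_pow_eq_pow_val]
      rw [mul_assoc, d.hB, ← mul_assoc, hy, mul_assoc ((d.b : Matrix (Fin 3) (Fin 3) F) ^ 2), hy, ← mul_assoc, pow_two (d.b : Matrix (Fin 3) (Fin 3) F), mul_assoc _ _ (d.P : Matrix (Fin 3) (Fin 3) F), d.hB,
        ← mul_assoc, d.hB, mul_assoc, mul_assoc, mul_assoc]
      congr 1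
      ext i j
      fin_cases i <;> fin_cases j <;> simp [negFlip3, shift3, Matrix.mul_apply, Fin.sum_univ_three]
    rw [this, mul_inv_cancel_right]
    exact pow_mem d.hb _

/-- The generators do not commute. -/
theorem heis_noncomm : (⟨d.a, d.ha⟩ : R) * ⟨d.b, d.hb⟩ ≠ ⟨d.b, d.hb⟩ * ⟨d.a, d.ha⟩ := by
  intro h
  have h1 : d.a * d.b = d.b * d.a := congrArg Subtype.val h
  have h2 : (d.a : Matrix (Fin 3) (Fin 3) F) * (d.b : Matrix (Fin 3) (Fin 3) F) * (d.P : Matrix (Fin 3) (Fin 3) F) = (d.b : Matrix (Fin 3) (Fin 3) F) * (d.a : Matrix (Fin 3) (Fin 3) F) * (d.P : Matrix (Fin 3) (Fin 3) F) := by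
    rw [← Units.val_mul, h1, Units.val_mul]
  rw [mul_assoc, d.hB, ← mul_assoc, d.hA, mul_assoc _ _ (d.P : Matrix (Fin 3) (Fin 3) F), d.hA, ← mul_assoc, d.hB, mul_assoc, mul_assoc] at h2
  have h3 := congrFun (congrFun (d.P.isUnit.mul_right_injective h2) 1) 0
  simp [shift3, Matrix.mul_apply, Matrix.diagonal, Fin.sum_univ_three] at h3
  exact d.hω1 h3

/-- A matrix commuting with both generators is scalar. -/
theorem heis_commutant (y : GL (Fin 3) F) (h1 : y * d.a = d.a * y) (h2 : y * d.b = d.b * y) :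
    ∃ t : F, (y : Matrix (Fin 3) (Fin 3) F) = t • 1 := by
  set M : Matrix (Fin 3) (Fin 3) F := ((d.P⁻¹ * y * d.P : GL (Fin 3) F) : Matrix (Fin 3) (Fin 3) F) with hM
  have hPM : (y : Matrix (Fin 3) (Fin 3) F) * (d.P : Matrix (Fin 3) (Fin 3) F) = (d.P : Matrix (Fin 3) (Fin 3) F) * M := by
    rw [hM, ← Units.val_mul, ← Units.val_mul]; congr 1; group
  have hcom : ∀ (g : GL (Fin 3) F) (D : Matrix (Fin 3) (Fin 3) F), y * g = g * y →
      (g : Matrix (Fin 3) (Fin 3) F) * (d.P : Matrix (Fin 3) (Fin 3) F) = (d.P : Matrix (Fin 3) (Fin 3) F) * D → M * D = D * M := by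
    intro g D hg hD
    apply d.P.isUnit.mul_right_injective
    simp only
    rw [← mul_assoc, ← hPM, mul_assoc, ← hD, ← mul_assoc, ← Units.val_mul, hg, Units.val_mul, mul_assoc, hPM, ← mul_assoc, hD, mul_assoc]
  have hA := hcom _ _ h1 d.hA
  have hB := hcom _ _ h2 d.hB
  have hω0 : d.ω ≠ 0 := fun h => by have := d.hω; simp [h] at this
  have hsq : d.ω ^ 2 ≠ 1 := fun h => d.hω1 (by
    have : d.ω ^ 3 = d.ω ^ 2 * d.ω := by ring
    rw [d.hω, h, one_mul] at this; exact this.symm)
  have hdist : Function.Injective ![1, d.ω, d.ω ^ 2] := by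
    intro i j h
    fin_cases i <;> fin_cases j <;> simp [d.hω1, hsq, eq_comm] at h ⊢
    all_goals first
      | exact hsq h.symm
      | exact hsq h
      | exact d.hω1 (mul_left_cancel₀ hω0 (by linear_combination h))
      | exact d.hω1 (mul_left_cancel₀ hω0 (by linear_combination -h))
  have hoff : ∀ i j, i ≠ j → M i j = 0 := by
    intro i j hij
    have := congrFun (congrFun hA i) j
    rw [Matrix.mul_diagonal, Matrix.diagonal_mul, mul_comm] at this
    by_contra h
    exact hij (hdist (mul_right_cancel₀ h this)).symm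
  have e1 := congrFun (congrFun hB 1) 0
  have e2 := congrFun (congrFun hB 2) 1
  simp [shift3, Matrix.mul_apply, Fin.sum_univ_three] at e1 e2
  have hMs : M = M 0 0 • 1 := by
    ext i j
    by_cases hij : i = j
    · subst hij; fin_cases i <;> simp [e1, e2]
    · simp [hoff i j hij, hij]
  refine ⟨M 0 0, ?_⟩
  apply d.P.isUnit.mul_left_injective
  simp only
  rw [hPM, Matrix.smul_mul, one_mul]
  conv_lhs => rw [hMs, Matrix.mul_smul, mul_one]

/-- Central elements of `R` are scalar. -/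
theorem heis_center_scalar (z : R) (hz : ∀ g, g * z = z * g) :
    ∃ s : F, ((z : GL (Fin 3) F) : Matrix (Fin 3) (Fin 3) F) = s • 1 :=
  heis_commutant d _ (congrArg Subtype.val (hz ⟨d.a, d.ha⟩)).symm (congrArg Subtype.val (hz ⟨d.b, d.hb⟩)).symm

/-- An element of prime order `r ≥ 5` of the normaliser of `R` is scalar. -/
theorem HeisData.scalar_of_prime_order (hR : Nat.card R = 27) (hRe : Monoid.exponent R = 3) (r : ℕ) (hr : r.Prime) (h5 : 5 ≤ r) (y : GL (Fin 3) F)
    (hy : y ∈ Cfsg.Geo.subgroupNormalizer R) (hyr : y ^ r = 1) :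
    ∃ t : F, (y : Matrix (Fin 3) (Fin 3) F) = t • 1 := by
  classical
  haveI : Finite R := Nat.finite_of_card_ne_zero (by omega)
  obtain ⟨c, hcR, hcv⟩ := d.hscal
  set Z := Subgroup.center R with hZ
  let φ : MulAut R := R.normalizerMonoidHom ⟨y, hy⟩
  have hmap : Z.map φ.toMonoidHom = Z := Subgroup.characteristic_iff_map_eq.1 inferInstance φ
  let ψ : MulAut (R ⧸ Z) := QuotientGroup.congr Z Z φ hmap
  have hψ : ∀ x : R, ψ (QuotientGroup.mk x) = QuotientGroup.mk (φ x) := fun x => rfl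
  have hφr : φ ^ r = 1 := by
    rw [← map_pow]
    convert map_one R.normalizerMonoidHom
    exact Subtype.ext (by simp [hyr])
  have hψr : ψ ^ r = 1 := by
    have : ∀ k : ℕ, ∀ x : R, (ψ ^ k) (QuotientGroup.mk x) = QuotientGroup.mk ((φ ^ k) x) := by
      intro k
      induction k with
      | zero => intro x; simp
      | succ k ih => intro x; rw [pow_succ, MulAut.mul_apply, hψ, ih, pow_succ, MulAut.mul_apply]
    ext x
    induction x using QuotientGroup.induction_on with | _ x => ?_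
    rw [this, hφr]; rfl
  have hcardZ : 3 ≤ Nat.card Z := by
    have hmem : ∀ k : ℕ, (⟨c, hcR⟩ : R) ^ k ∈ Z := fun k => by
      refine pow_mem (Subgroup.mem_center_iff.2 fun g => Subtype.ext (Units.ext ?_)) k
      rw [Subgroup.coe_mul, Subgroup.coe_mul, Units.val_mul, Units.val_mul, hcv, Matrix.mul_smul, Matrix.smul_mul, mul_one, one_mul]
    let g : Fin 3 → Z := fun k => ⟨(⟨c, hcR⟩ : R) ^ (k : ℕ), hmem k⟩
    have hg : Function.Injective g := by
      intro i j h
      have h' := congrArg (fun z : Z => ((((z : R) : GL (Fin 3) F)) : Matrix (Fin 3) (Fin 3) F) 0 0) h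
      simp only [g, Subgroup.coe_pow, Units.val_pow_eq_pow_val, hcv, smul_pow, one_pow, Matrix.smul_apply, Matrix.one_apply_eq, smul_eq_mul, mul_one] at h'
      have hsq : d.ω ^ 2 ≠ 1 := fun h => d.hω1 (by
        have : d.ω ^ 3 = d.ω ^ 2 * d.ω := by ring
        rw [d.hω, h, one_mul] at this; exact this.symm)
      fin_cases i <;> fin_cases j <;> simp [d.hω1, hsq, eq_comm] at h' ⊢
      all_goals first
        | exact hsq h'.symm
        | exact hsq h'
        | exact d.hω1 (mul_left_cancel₀ (fun h0 : d.ω = 0 => by have := d.hω; simp [h0] at this) (by linear_combination h'))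
        | exact d.hω1 (mul_left_cancel₀ (fun h0 : d.ω = 0 => by have := d.hω; simp [h0] at this) (by linear_combination -h'))
    have := Nat.card_le_card_of_injective g hg
    simpa using this
  have hmul := Subgroup.card_eq_card_quotient_mul_card_subgroup Z
  rw [hR] at hmul
  have hQ : Nat.card (R ⧸ Z) < 2 * r := by nlinarith
  have hω3 : ∀ s : F, s ^ r = 1 → s ^ 3 = 1 → s = 1 := by
    intro s h1 h2
    have hd1 := orderOf_dvd_of_pow_eq_one h1
    have hd2 := orderOf_dvd_of_pow_eq_one h2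
    have hcop : Nat.gcd r 3 = 1 := (Nat.coprime_primes hr Nat.prime_three).2 (by omega)
    exact orderOf_eq_one_iff.1 (Nat.dvd_one.1 (hcop ▸ Nat.dvd_gcd hd1 hd2))
  -- `y` centralises a generator modulo the centre, so centralises it
  have hgenfix : ∀ x : R, (∃ x' : R, x' * x ≠ x * x') → φ x = x := by
    intro x ⟨x', hne⟩
    have hx2 : (QuotientGroup.mk x : R ⧸ Z) * QuotientGroup.mk x ≠ 1 := by
      intro h
      apply hne
      rw [← QuotientGroup.mk_mul, QuotientGroup.eq_one_iff] at h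
      have h3 : x ^ 3 = 1 := by have h := Monoid.pow_exponent_eq_one x; rw [hRe] at h; exact h
      have hmem : x ∈ Z := by
        have : x = (x * x) * (x * x) := by rw [← pow_two, ← pow_two, ← pow_mul, show 2 * 2 = 3 + 1 from rfl, pow_succ, h3, one_mul]
        rw [this]; exact mul_mem h h
      exact Subgroup.mem_center_iff.1 hmem x'
    have hfix := aut_fixes_of_card_lt r hr (by omega) hQ ψ hψr _ hx2
    rw [hψ, QuotientGroup.eq] at hfix
    set z := (φ x)⁻¹ * x with hz
    have hx' : φ x = x * z⁻¹ := by rw [hz]; group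
    have hzc := Subgroup.mem_center_iff.1 hfix
    obtain ⟨s, hs⟩ := heis_center_scalar d z hzc
    have hφz : φ z = z := by
      apply Subtype.ext
      apply Units.ext
      show ((y * (z : GL (Fin 3) F) * y⁻¹ : GL (Fin 3) F) : Matrix (Fin 3) (Fin 3) F) = _
      rw [Units.val_mul, Units.val_mul, hs, Matrix.mul_smul, mul_one, Matrix.smul_mul, ← Units.val_mul, mul_inv_cancel, Units.val_one]
    have hk : ∀ k : ℕ, (φ ^ k) x = x * (z⁻¹) ^ k := by
      intro k
      induction k with
      | zero => simp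
      | succ k ih => rw [pow_succ', MulAut.mul_apply, ih, map_mul, map_pow, map_inv, hφz, hx', mul_assoc, ← pow_succ']
    have hzr := hk r
    rw [hφr, MulAut.one_apply, left_eq_mul, inv_pow, inv_eq_one] at hzr
    have h3 : z ^ 3 = 1 := by have h := Monoid.pow_exponent_eq_one z; rw [hRe] at h; exact h
    have hsr : s ^ r = 1 := by
      have := congrArg (fun w : R => ((w : GL (Fin 3) F) : Matrix (Fin 3) (Fin 3) F) 0 0) hzr
      simpa [hs, smul_pow] using this
    have hs3 : s ^ 3 = 1 := by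
      have := congrArg (fun w : R => ((w : GL (Fin 3) F) : Matrix (Fin 3) (Fin 3) F) 0 0) h3
      simpa [hs, smul_pow] using this
    have : z = 1 := Subtype.ext (Units.ext (by rw [hs, hω3 s hsr hs3, one_smul]; simp))
    rw [hx', this, inv_one, mul_one]
  have hne : (⟨d.a, d.ha⟩ : R) * ⟨d.b, d.hb⟩ ≠ ⟨d.b, d.hb⟩ * ⟨d.a, d.ha⟩ := heis_noncomm d
  have hga := hgenfix ⟨d.a, d.ha⟩ ⟨_, hne.symm⟩
  have hgb := hgenfix ⟨d.b, d.hb⟩ ⟨_, hne⟩
  exact heis_commutant d y (mul_inv_eq_iff_eq_mul.1 (congrArg Subtype.val hga))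
    (mul_inv_eq_iff_eq_mul.1 (congrArg Subtype.val hgb))

end Cfsg.Agent.H99
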