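import Mathlib
import Cfsg.Agent.H54.SteinbergPresentation

/-!
Steinberg relations for SL(3,q) from one root group, a torus element `g`, a Weyl element `t` and a
three-cycle `c`.
-/

namespace Cfsg.Agent.H99.SLThree

open Cfsg.Agent.H54.Presentation

variable {G : Type*} [Group G] {F : Type*} [Field F]

/-- `s` scales the root group `Z` by `a`. -/
def Acts (s : G) (a : F) (Z : F → G) : Prop := ∀ u, MulAut.conj s (Z u) = Z (a * u)

theorem Acts.mul {s r : G} {a b : F} {Z : F → G} (hs : Acts s a Z) (hr : Acts r b Z) :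
    Acts (s * r) (a * b) Z := fun u => by
  rw [map_mul, MulAut.mul_apply, hr, hs, mul_assoc]

theorem Acts.one (Z : F → G) : Acts (1 : G) (1 : F) Z := fun u => by simp

theorem Acts.pow {s : G} {a : F} {Z : F → G} (hs : Acts s a Z) (n : ℕ) :
    Acts (s ^ n) (a ^ n) Z := by
  induction n with
  | zero => simpa using Acts.one Z
  | succ n ih => rw [pow_succ, pow_succ]; exact ih.mul hs

theorem Acts.inv {s : G} {a : F} {Z : F → G} (hs : Acts s a Z) (ha : a ≠ 0) :
    Acts s⁻¹ a⁻¹ Z := fun u => by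
  rw [map_inv, MulAut.inv_def, MulEquiv.symm_apply_eq, hs, mul_inv_cancel_left₀ ha]

theorem Acts.conj {s : G} {a : F} {Z : F → G} (hs : Acts s a Z) (r : G) :
    Acts (r * s * r⁻¹) a (fun u => MulAut.conj r (Z u)) := fun u => by
  show MulAut.conj (r * s * r⁻¹) (MulAut.conj r (Z u)) = MulAut.conj r (Z (a * u))
  rw [← hs u]
  simp [mul_assoc]

theorem Acts.conjNeg {s : G} {a : F} {Z : F → G} (hs : Acts s a Z) (r : G) :
    Acts (r * s * r⁻¹) a (fun u => MulAut.conj r (Z (-u))) := fun u => by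
  simp only [neg_mul_eq_mul_neg, ← hs (-u)]
  simp [mul_assoc]

/-- Bilinear spreading: `P` is closed under sums in each argument. -/
structure BiAdd (P : F → F → Prop) : Prop where
  left : ∀ a a' b, P a b → P a' b → P (a + a') b
  right : ∀ a b b', P a b → P a b' → P a (b + b')
  zeroL : ∀ b, P 0 b
  zeroR : ∀ a, P a 0

variable (F) in
/-- Cubes of `ω` span `F` additively. -/
def SpanPowers (z : F) : Prop :=
  ∀ P : F → Prop, P 0 → (∀ a b, P a → P b → P (a + b)) → (∀ n : ℕ, P (z ^ n)) → ∀ u, P u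

theorem BiAdd.all {P : F → F → Prop} (hP : BiAdd P) {z : F} (hz : SpanPowers F z)
    (h : ∀ m n : ℕ, P (z ^ m) (z ^ n)) (a b : F) : P a b := by
  have h1 : ∀ m : ℕ, ∀ b, P (z ^ m) b := fun m =>
    hz _ (hP.zeroR _) (hP.right _) (h m)
  exact hz (fun a => P a b) (hP.zeroL b) (fun a a' => hP.left a a' b) (fun m => h1 m b) a

theorem BiAdd.all_of_moves {P : F → F → Prop} (hP : BiAdd P) {z : F} (hz : SpanPowers F z)
    (h11 : P 1 1) (hl : ∀ a b, P a b → P (z * a) b) (hr : ∀ a b, P a b → P a (z * b))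
    (a b : F) : P a b := by
  refine hP.all hz (fun m n => ?_) a b
  induction m with
  | zero =>
    induction n with
    | zero => simpa using h11
    | succ n ih => rw [pow_succ']; exact hr _ _ ih
  | succ m ih => rw [pow_succ']; exact hl _ _ ih

/-- The case of four elements: cube roots are trivial, one more base point is needed. -/
theorem BiAdd.all_four {P : F → F → Prop} (hP : BiAdd P) {w α β : F} (hz : SpanPowers F w)
    (h2 : (2 : F) = 0) (hw : w ^ 3 = 1) (hα : α = w ^ 2) (hβ : β ≠ 0)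
    (h11 : P 1 1) (h1w : P 1 w) (hm : ∀ a b, P a b → P (α * a) (β * b)) (a b : F) : P a b := by
  have hone : ∀ b, P 1 b := by
    refine hz _ (hP.zeroR _) (hP.right _) fun n => ?_
    rw [pow_eq_pow_mod n hw]
    have hc := Nat.mod_lt n (show 3 > 0 by norm_num)
    interval_cases n % 3
    · simpa using h11
    · simpa using h1w
    · have hfac : (w - 1) * (1 + w + w ^ 2) = 0 := by linear_combination hw
      rcases mul_eq_zero.mp hfac with h | h
      · rw [sub_eq_zero.mp h, one_pow]; exact h11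
      · rw [show w ^ 2 = 1 + w by linear_combination h - (1 + w) * h2]
        exact hP.right _ _ _ h11 h1w
  have next_ : ∀ x, (∀ b, P x b) → ∀ b, P (α * x) b := fun x hx b => by
    simpa [mul_inv_cancel_left₀ hβ] using hm x (β⁻¹ * b) (hx _)
  refine hz (fun a => P a b) (hP.zeroL b) (fun a a' => hP.left a a' b) (fun n => ?_) a
  have hαb : ∀ b, P α b := by simpa using next_ 1 hone
  rw [pow_eq_pow_mod n hw]
  have hc := Nat.mod_lt n (show 3 > 0 by norm_num)
  interval_cases n % 3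
  · simpa using hone b
  · rw [pow_one, show w = α * α by rw [hα]; linear_combination -w * hw]
    exact next_ α hαb b
  · rw [← hα]; exact hαb b

section Roots

variable (X : F → G) (t c : G)

/-- The root group of (1,0). -/
def rY (u : F) : G := MulAut.conj t (X (-u))

/-- The six root groups. -/
def root : Fin 3 → Fin 3 → F → G :=
  ![![fun _ => 1, X, fun u => MulAut.conj (c * c) (rY X t u)],
    ![rY X t, fun _ => 1, fun u => MulAut.conj c (X u)],
    ![fun u => MulAut.conj (c * c) (X u), fun u => MulAut.conj c (rY X t u), fun _ => 1]]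

theorem root00 (u : F) : root X t c 0 0 u = 1 := rfl
theorem root11 (u : F) : root X t c 1 1 u = 1 := rfl
theorem root22 (u : F) : root X t c 2 2 u = 1 := rfl
theorem root01 : root X t c 0 1 = X := rfl
theorem root10 : root X t c 1 0 = rY X t := rfl
theorem root12 : root X t c 1 2 = fun u => MulAut.conj c (X u) := rfl
theorem root21 : root X t c 2 1 = fun u => MulAut.conj c (rY X t u) := rfl
theorem root20 : root X t c 2 0 = fun u => MulAut.conj (c * c) (X u) := rfl
theorem root02 : root X t c 0 2 = fun u => MulAut.conj (c * c) (rY X t u) := rfl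

end Roots

/-- The data read off from a presentation. `h` is `c⁻¹ g c`. -/
structure Data (X : F → G) (ω : Fˣ) (g t c : G) (k : ℕ) : Prop where
  add : ∀ u v, X (u + v) = X u * X v
  gX : Acts g ((ω : F)⁻¹) X
  hX : Acts (c⁻¹ * g * c) ((ω : F) ^ 2) X
  gh : Commute g (c⁻¹ * g * c)
  prod : g * (c⁻¹ * g * c) * (c * g * c⁻¹) = 1
  th : t * (c⁻¹ * g * c) * t⁻¹ = (c⁻¹ * g * c)⁻¹
  c3 : c * c * c = 1
  ctc : c * t⁻¹ * c = t
  hk : (c⁻¹ * g * c) ^ k = t * t
  ωk : (ω : F) ^ k = -1
  t3 : t * t * t ∈ Subgroup.closure {y : G | ∃ i j u, y = root X t c i j u}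
  gen : Subgroup.closure ({X 1, g, t, c} : Set G) = ⊤

namespace Data

variable {X : F → G} {ω : Fˣ} {g t c : G} {k : ℕ} (D : Data X ω g t c k)
include D

local notation "hh" => c⁻¹ * g * c
local notation "h3" => c * g * c⁻¹
local notation "R" => root X t c

theorem X_zero : X 0 = 1 := by
  have h := D.add 0 0
  rw [add_zero] at h
  exact left_eq_mul.mp h

theorem root_add (i j : Fin 3) (u v : F) : R i j u * R i j v = R i j (u + v) := by
  fin_cases i <;> fin_cases j
  all_goals simp [root, rY, D.add, map_mul]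
  all_goals rw [← D.add, ← D.add, add_comm]

theorem cc_inv : (c * c)⁻¹ = c := inv_eq_of_mul_eq_one_right D.c3

theorem c_inv : c⁻¹ = c * c := inv_eq_of_mul_eq_one_right (by rw [← mul_assoc, D.c3])

theorem t_cc : t * (c * c) = c * t⁻¹ := by
  conv_lhs => rw [← D.ctc]
  rw [show c * t⁻¹ * c * (c * c) = c * t⁻¹ * (c * c * c) by simp only [mul_assoc], D.c3, mul_one]

theorem t_c : t * c = c * t⁻¹ * (c * c) := by
  conv_lhs => rw [← D.ctc]
  simp only [mul_assoc]

theorem conj_h : c * hh * c⁻¹ = g := by simp [mul_assoc]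

theorem conj_h3 : c * h3 * c⁻¹ = hh := by
  have hc := D.c_inv
  rw [hc]
  have e : c * c * c = 1 := D.c3
  calc c * (c * g * (c * c)) * (c * c) = (c * c) * g * (c * c * c) * c := by simp only [mul_assoc]
    _ = _ := by rw [e, mul_one]

theorem conj_t_h3 : t * h3 * t⁻¹ = g⁻¹ := by
  have e : h3 = (c * c) * hh * (c * c)⁻¹ := by
    simp [mul_assoc]
  have e2 : t * h3 * t⁻¹ = c * (t⁻¹ * hh * t) * c⁻¹ := by
    rw [e, show t * (c * c * hh * (c * c)⁻¹) * t⁻¹ = t * (c * c) * hh * (t * (c * c))⁻¹ by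
      simp [mul_assoc], D.t_cc]
    simp [mul_assoc]
  have e3 : t⁻¹ * hh * t = (hh)⁻¹ := by
    have h1 := congrArg (fun z => z⁻¹) D.th
    simp only [mul_inv_rev, inv_inv] at h1
    calc t⁻¹ * hh * t = t⁻¹ * (t * ((hh)⁻¹ * t⁻¹)) * t := by
          rw [show t * ((hh)⁻¹ * t⁻¹) = hh by simpa [mul_assoc] using h1]
      _ = _ := by simp [mul_assoc]
  rw [e2, e3]
  simp [mul_assoc]

theorem h3_eq : h3 = (hh)⁻¹ * g⁻¹ := by
  rw [← mul_inv_rev]
  exact eq_inv_of_mul_eq_one_right D.prod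

theorem conj_t_g : t * g * t⁻¹ = g * hh := by
  have e1 : g = (h3)⁻¹ * (hh)⁻¹ := by
    rw [D.h3_eq]; simp [mul_assoc, D.gh.eq]
  have e2 : t * ((h3)⁻¹ * (hh)⁻¹) * t⁻¹ = (t * h3 * t⁻¹)⁻¹ * (t * hh * t⁻¹)⁻¹ := by
    simp [mul_assoc]
  rw [← e1, D.conj_t_h3, D.th, inv_inv, inv_inv] at e2
  exact e2

theorem ω_ne : (ω : F) ≠ 0 := ω.ne_zero

theorem h3X : Acts h3 ((ω : F)⁻¹) X := by
  rw [D.h3_eq]
  have h := (D.hX.inv (pow_ne_zero _ D.ω_ne)).mul (D.gX.inv (inv_ne_zero D.ω_ne))
  convert h using 1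
  field_simp

theorem hY : Acts hh (((ω : F) ^ 2)⁻¹) (rY X t) := by
  have h := (D.hX.inv (pow_ne_zero _ D.ω_ne)).conjNeg t
  rwa [show t * (hh)⁻¹ * t⁻¹ = hh by rw [← conj_inv, D.th, inv_inv]] at h

theorem gY : Acts g (ω : F) (rY X t) := by
  have h := (D.h3X.inv (inv_ne_zero D.ω_ne)).conjNeg t
  rwa [show t * (h3)⁻¹ * t⁻¹ = g by rw [← conj_inv, D.conj_t_h3, inv_inv], inv_inv] at h

theorem h3Y : Acts h3 (ω : F) (rY X t) := by
  rw [D.h3_eq]
  have h := (D.hY.inv (inv_ne_zero (pow_ne_zero _ D.ω_ne))).mul (D.gY.inv D.ω_ne)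
  convert h using 1
  field_simp

theorem gX1 : Acts g ((ω : F) ^ 2) (R 1 2) := by
  have h := D.hX.conj c
  rwa [D.conj_h] at h

theorem hX1 : Acts hh ((ω : F)⁻¹) (R 1 2) := by
  have h := D.h3X.conj c
  rwa [D.conj_h3] at h

theorem gY1 : Acts g (((ω : F) ^ 2)⁻¹) (R 2 1) := by
  have h := D.hY.conj c
  rwa [D.conj_h] at h

theorem hY1 : Acts hh (ω : F) (R 2 1) := by
  have h := D.h3Y.conj c
  rwa [D.conj_h3] at h

theorem cc_h3 : c * c * h3 * (c * c)⁻¹ = g := by
  calc c * c * h3 * (c * c)⁻¹ = c * (c * h3 * c⁻¹) * c⁻¹ := by simp [mul_assoc]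
    _ = _ := by rw [D.conj_h3, D.conj_h]

theorem cc_g : c * c * g * (c * c)⁻¹ = hh := by
  calc c * c * g * (c * c)⁻¹ = c * h3 * c⁻¹ := by simp [mul_assoc]
    _ = _ := D.conj_h3

theorem gY2 : Acts g (ω : F) (R 0 2) := by
  have h := D.h3Y.conj (c * c)
  rwa [D.cc_h3] at h

theorem hY2 : Acts hh (ω : F) (R 0 2) := by
  have h := D.gY.conj (c * c)
  rwa [D.cc_g] at h

theorem hX2 : Acts hh ((ω : F)⁻¹) (R 2 0) := by
  have h := D.gX.conj (c * c)
  rwa [D.cc_g] at h

theorem tt_conj {a : F} {Z : F → G} (h : Acts hh a Z) (u : F) :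
    MulAut.conj (t * t) (Z u) = Z (a ^ k * u) := by
  rw [← D.hk]; exact (h.pow k) u

/-! Action of `c`. -/

theorem c_root (i j : Fin 3) (u : F) :
    MulAut.conj c (R i j u) = R (i + 1) (j + 1) u := by
  have e : MulAut.conj (c * c * c) = 1 := by rw [D.c3, map_one]
  fin_cases i <;> fin_cases j
  all_goals simp only [root, Matrix.cons_val_zero, Matrix.cons_val_one, Matrix.cons_val,
    Fin.zero_eta, Fin.mk_one, Fin.reduceFinMk, Fin.reduceAdd, map_one, map_mul, MulAut.mul_apply]
  all_goals simp only [← MulAut.mul_apply, ← map_mul, ← mul_assoc, e]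
  all_goals rfl

/-! Action of `t`. -/

theorem t_X (u : F) : MulAut.conj t (R 0 1 u) = R 1 0 (-u) := by
  simp [root01, root10, rY]

theorem t_Y (u : F) : MulAut.conj t (R 1 0 u) = R 0 1 (-u) := by
  rw [root01, root10, rY, ← MulAut.mul_apply, ← map_mul, D.tt_conj D.hX]
  congr 1
  rw [← pow_mul, mul_comm 2 k, pow_mul, D.ωk, neg_one_sq, one_mul]

theorem tinv_X (u : F) : MulAut.conj t⁻¹ (R 0 1 u) = R 1 0 (-u) := by
  rw [map_inv, MulAut.inv_def, MulEquiv.symm_apply_eq, D.t_Y, neg_neg]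

theorem t_X2 (u : F) : MulAut.conj t (R 2 0 u) = R 2 1 (-u) := by
  have e : MulAut.conj t (R 2 0 u) = MulAut.conj c (MulAut.conj t⁻¹ (X u)) := by
    rw [root20, ← MulAut.mul_apply, ← map_mul, D.t_cc, map_mul, MulAut.mul_apply]
  rw [e, show X u = R 0 1 u from rfl, D.tinv_X]
  rfl

theorem t_Y1 (u : F) : MulAut.conj t (R 2 1 u) = R 2 0 u := by
  have e : R 2 1 u = MulAut.conj t (R 2 0 (-u)) := by rw [D.t_X2, neg_neg]
  rw [e, ← MulAut.mul_apply, ← map_mul, D.tt_conj D.hX2, inv_pow, D.ωk]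
  simp

theorem t_X1 (u : F) : MulAut.conj t (R 1 2 u) = R 0 2 u := by
  have e : MulAut.conj t (R 1 2 u) = MulAut.conj c (MulAut.conj t⁻¹ (R 2 0 u)) := by
    rw [root12, root20, ← MulAut.mul_apply, ← map_mul, D.t_c, map_mul, map_mul,
      MulAut.mul_apply, MulAut.mul_apply, ← MulAut.mul_apply, ← map_mul]
  have e2 : MulAut.conj t⁻¹ (R 2 0 u) = R 2 1 u := by
    rw [map_inv, MulAut.inv_def, MulEquiv.symm_apply_eq, D.t_Y1]
  rw [e, e2, D.c_root]
  rfl

theorem t_Y2 (u : F) : MulAut.conj t (R 0 2 u) = R 1 2 (-u) := by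
  rw [← D.t_X1, ← MulAut.mul_apply, ← map_mul, D.tt_conj D.hX1, inv_pow, D.ωk]
  simp

/-! The three relation families. -/

theorem root_zero (i j : Fin 3) : R i j 0 = 1 := by
  have h := D.root_add i j 0 0
  rw [add_zero] at h
  exact mul_eq_left.mp h

/-- The row family. -/
def PA (X : F → G) (t c : G) (a b : F) : Prop :=
  Commute (root X t c 0 1 a) (root X t c 0 2 b)

/-- The column family. -/
def PB (X : F → G) (t c : G) (a b : F) : Prop :=
  Commute (root X t c 0 1 a) (root X t c 2 1 b)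

/-- The commutator family. -/
def PC (X : F → G) (t c : G) (a b : F) : Prop :=
  root X t c 0 1 a * root X t c 1 2 b
    = root X t c 0 2 (a * b) * root X t c 1 2 b * root X t c 0 1 a

theorem biAdd_comm (i j i' j' : Fin 3) :
    BiAdd (fun a b => Commute (R i j a) (R i' j' b)) := by
  constructor
  · intro a a' b h h'
    rw [← D.root_add]
    exact h.mul_left h'
  · intro a b b' h h'
    rw [← D.root_add]
    exact h.mul_right h'
  · intro b; rw [D.root_zero]; exact Commute.one_left _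
  · intro a; rw [D.root_zero]; exact Commute.one_right _

theorem biAdd_C (hA : ∀ a b, PA X t c a b) (hB : ∀ a b, PB X t c a b) :
    BiAdd (PC X t c) := by
  have hB' : ∀ a b, Commute (R 1 2 a) (R 0 2 b) := by
    intro a b
    have h := (hB a b).map (MulAut.conj c)
    rwa [D.c_root, D.c_root] at h
  constructor
  · intro a a' b h h'
    unfold PC at *
    rw [add_mul, ← D.root_add, ← D.root_add 0 2, mul_assoc, h', ← mul_assoc, ← mul_assoc,
      (hA a _).eq, mul_assoc (R 0 2 (a' * b)), h, ← mul_assoc, ← mul_assoc,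
      D.root_add 0 2, add_comm (a' * b)]
    simp only [mul_assoc, D.root_add]
  · intro a b b' h h'
    unfold PC at *
    rw [mul_add, ← D.root_add 1 2, ← D.root_add 0 2, ← mul_assoc, h, mul_assoc, h',
      ← mul_assoc, ← mul_assoc, mul_assoc (R 0 2 (a * b)), (hB' b _).eq]
    simp only [mul_assoc]
  · intro b; unfold PC; rw [zero_mul, D.root_zero, D.root_zero]; simp
  · intro a; unfold PC; rw [mul_zero, D.root_zero, D.root_zero]; simp

theorem move_comm {s : G} {α β : F} {i j i' j' : Fin 3} (h1 : Acts s α (R i j))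
    (h2 : Acts s β (R i' j')) {a b : F} (h : Commute (R i j a) (R i' j' b)) :
    Commute (R i j (α * a)) (R i' j' (β * b)) := by
  rw [← h1, ← h2]
  exact h.map (MulAut.conj s)

theorem move_C {s : G} {α β : F} (h1 : Acts s α (R 0 1)) (h2 : Acts s β (R 1 2))
    (h3' : Acts s (α * β) (R 0 2)) {a b : F} (h : PC X t c a b) :
    PC X t c (α * a) (β * b) := by
  unfold PC at *
  rw [← h1, ← h2, show α * a * (β * b) = α * β * (a * b) by ring, ← h3', ← map_mul, ← map_mul,
    ← map_mul, h]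

/-- Base points give everything (generic case). -/
theorem families (hz : SpanPowers F ((ω : F) ^ 3)) (hA : PA X t c 1 1) (hB : PB X t c 1 1)
    (hC : PC X t c 1 1) :
    (∀ a b, PA X t c a b) ∧ (∀ a b, PB X t c a b) ∧ (∀ a b, PC X t c a b) := by
  have hω := D.ω_ne
  have A : ∀ a b, PA X t c a b := by
    refine fun a b => (D.biAdd_comm 0 1 0 2).all_of_moves hz hA (fun a b h => ?_) (fun a b h => ?_) a b
    · have := D.move_comm ((D.hX.mul (D.gX.inv (inv_ne_zero hω))))
        ((D.hY2.mul (D.gY2.inv hω))) h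
      convert this using 2 <;> field_simp
    · have := D.move_comm (D.hX.mul (D.gX.mul D.gX)) (D.hY2.mul (D.gY2.mul D.gY2)) h
      convert this using 2 <;> field_simp
  have B : ∀ a b, PB X t c a b := by
    refine fun a b => (D.biAdd_comm 0 1 2 1).all_of_moves hz hB (fun a b h => ?_) (fun a b h => ?_) a b
    · have := D.move_comm (D.hX.mul (D.hX.mul D.gX)) (D.hY1.mul (D.hY1.mul D.gY1)) h
      convert this using 2 <;> field_simp
    · have := D.move_comm ((D.hX.mul (D.gX.mul D.gX)).inv (by simp [hω]))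
        ((D.hY1.mul (D.gY1.mul D.gY1)).inv (by simp [hω])) h
      convert this using 2 <;> field_simp
  refine ⟨A, B, fun a b => (D.biAdd_C A B).all_of_moves hz hC (fun a b h => ?_) (fun a b h => ?_) a b⟩
  · have := D.move_C (D.hX.mul (D.hX.mul D.gX)) (D.hX1.mul (D.hX1.mul D.gX1))
      (by convert D.hY2.mul (D.hY2.mul D.gY2) using 1; field_simp) h
    convert this using 1 <;> field_simp
  · have := D.move_C (D.hX.mul (D.gX.mul D.gX)) (D.hX1.mul (D.gX1.mul D.gX1))
      (by convert D.hY2.mul (D.gY2.mul D.gY2) using 1; field_simp) h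
    convert this using 1 <;> field_simp

/-- Base points give everything (four elements). -/
theorem families_four (hz : SpanPowers F (ω : F)) (h2 : (2 : F) = 0) (hw : (ω : F) ^ 3 = 1) (hA : PA X t c 1 1)
    (hB : PB X t c 1 1) (hC : PC X t c 1 1) (hA' : PA X t c 1 (ω : F))
    (hB' : PB X t c 1 (ω : F)) (hC' : PC X t c 1 (ω : F)) :
    (∀ a b, PA X t c a b) ∧ (∀ a b, PB X t c a b) ∧ (∀ a b, PC X t c a b) := by
  have hinv : (ω : F)⁻¹ = (ω : F) ^ 2 := inv_eq_of_mul_eq_one_right (by rw [← pow_succ', hw])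
  have A : ∀ a b, PA X t c a b := fun a b =>
    (D.biAdd_comm 0 1 0 2).all_four hz h2 hw rfl D.ω_ne hA hA'
      (fun a b h => D.move_comm D.hX D.hY2 h) a b
  have B : ∀ a b, PB X t c a b := fun a b =>
    (D.biAdd_comm 0 1 2 1).all_four hz h2 hw rfl D.ω_ne hB hB'
      (fun a b h => D.move_comm D.hX D.hY1 h) a b
  refine ⟨A, B, fun a b => (D.biAdd_C A B).all_four hz h2 hw rfl (pow_ne_zero 2 D.ω_ne) hC hC'
    (fun a b h => ?_) a b⟩
  refine D.move_C D.hX (by rw [← hinv]; exact D.hX1) ?_ h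
  convert D.hY2 using 1
  rw [← hinv]; field_simp [D.ω_ne]; exact hw.symm

theorem stRels (H : (∀ a b, PA X t c a b) ∧ (∀ a b, PB X t c a b) ∧ (∀ a b, PC X t c a b)) :
    StRels R := by
  obtain ⟨A, B, C⟩ := H
  have rot : ∀ {i j i' j' : Fin 3} {a b : F}, Commute (R i j a) (R i' j' b) →
      Commute (R (i + 1) (j + 1) a) (R (i' + 1) (j' + 1) b) := by
    intro i j i' j' a b h
    rw [← D.c_root, ← D.c_root]
    exact h.map (MulAut.conj c)
  have A1 : ∀ a b, Commute (R 1 2 a) (R 1 0 b) := fun a b => rot (A a b)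
  have A2 : ∀ a b, Commute (R 2 0 a) (R 2 1 b) := fun a b => rot (A1 a b)
  have B1 : ∀ a b, Commute (R 1 2 a) (R 0 2 b) := fun a b => rot (B a b)
  have B2 : ∀ a b, Commute (R 2 0 a) (R 1 0 b) := fun a b => rot (B1 a b)
  have rotM : ∀ {i j l : Fin 3} {a b : F},
      R i j a * R j l b = R i l (a * b) * R j l b * R i j a →
      R (i + 1) (j + 1) a * R (j + 1) (l + 1) b
        = R (i + 1) (l + 1) (a * b) * R (j + 1) (l + 1) b * R (i + 1) (j + 1) a := by
    intro i j l a b h
    rw [← D.c_root, ← D.c_root, ← D.c_root, ← map_mul, ← map_mul, ← map_mul, h]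
  have C0 : ∀ a b, R 0 1 a * R 1 2 b = R 0 2 (a * b) * R 1 2 b * R 0 1 a := C
  have C1 : ∀ a b, R 1 2 a * R 2 0 b = R 1 0 (a * b) * R 2 0 b * R 1 2 a :=
    fun a b => rotM (C0 a b)
  have C2 : ∀ a b, R 2 0 a * R 0 1 b = R 2 1 (a * b) * R 0 1 b * R 2 0 a :=
    fun a b => rotM (C1 a b)
  have E0 : ∀ a b, R 1 0 a * R 0 2 b = R 1 2 (a * b) * R 0 2 b * R 1 0 a := by
    intro a b
    have h := congrArg (MulAut.conj t) (C (-a) b)
    simp only [map_mul, D.t_X, D.t_X1, D.t_Y2, neg_neg, neg_mul] at h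
    exact h
  have E1 : ∀ a b, R 2 1 a * R 1 0 b = R 2 0 (a * b) * R 1 0 b * R 2 1 a :=
    fun a b => rotM (E0 a b)
  have E2 : ∀ a b, R 0 2 a * R 2 1 b = R 0 1 (a * b) * R 2 1 b * R 0 2 a :=
    fun a b => rotM (E1 a b)
  refine ⟨?_, D.root_add, ?_, ?_⟩
  · intro i u
    fin_cases i <;> rfl
  · intro i j k' l a b hil hjk
    have same : ∀ i j : Fin 3, ∀ a b, Commute (R i j a) (R i j b) := fun i j a b => by
      show R i j a * R i j b = R i j b * R i j a
      rw [D.root_add, D.root_add, add_comm]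
    fin_cases i <;> fin_cases j <;> fin_cases k' <;> fin_cases l <;>
      first
      | exact absurd rfl hil
      | exact absurd rfl hjk
      | exact Commute.one_left _
      | exact Commute.one_right _
      | exact same _ _ a b
      | exact A a b
      | exact (A b a).symm
      | exact A1 a b
      | exact (A1 b a).symm
      | exact A2 a b
      | exact (A2 b a).symm
      | exact B a b
      | exact (B b a).symm
      | exact B1 a b
      | exact (B1 b a).symm
      | exact B2 a b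
      | exact (B2 b a).symm
  · intro i j l a b hij hjl hil
    fin_cases i <;> fin_cases j <;> fin_cases l <;>
      first
      | exact absurd rfl hij
      | exact absurd rfl hjl
      | exact absurd rfl hil
      | exact C0 a b
      | exact C1 a b
      | exact C2 a b
      | exact E0 a b
      | exact E1 a b
      | exact E2 a b

theorem closure_roots : Subgroup.closure {y : G | ∃ i j u, y = R i j u} = ⊤ := by
  set H := Subgroup.closure {y : G | ∃ i j u, y = R i j u} with hH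
  have hmem : ∀ i j u, R i j u ∈ H := fun i j u => Subgroup.subset_closure ⟨i, j, u, rfl⟩
  have closed : ∀ s : G, (∀ i j u, MulAut.conj s (R i j u) ∈ H) →
      H ≤ H.comap (MulAut.conj s).toMonoidHom := by
    intro s hs
    refine (Subgroup.closure_le _).mpr ?_
    rintro _ ⟨i, j, u, rfl⟩
    exact hs i j u
  have hX : ∀ i j, ∃ a, Acts g a (R i j) := by
    intro i j
    fin_cases i <;> fin_cases j
    · exact ⟨1, fun u => map_one _⟩
    · exact ⟨_, D.gX⟩
    · exact ⟨_, D.gY2⟩
    · exact ⟨_, D.gY⟩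
    · exact ⟨1, fun u => map_one _⟩
    · exact ⟨_, D.gX1⟩
    · refine ⟨(ω : F)⁻¹, ?_⟩
      have h := D.h3X.conj (c * c)
      rwa [D.cc_h3] at h
    · exact ⟨_, D.gY1⟩
    · exact ⟨1, fun u => map_one _⟩
  have cg := closed g fun i j u => by
    obtain ⟨a, ha⟩ := hX i j
    rw [ha]; exact hmem _ _ _
  have ct := closed t fun i j u => by
    fin_cases i <;> fin_cases j
    · exact (map_one (MulAut.conj t)).symm ▸ H.one_mem
    · exact (D.t_X u).symm ▸ hmem _ _ _
    · exact (D.t_Y2 u).symm ▸ hmem _ _ _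
    · exact (D.t_Y u).symm ▸ hmem _ _ _
    · exact (map_one (MulAut.conj t)).symm ▸ H.one_mem
    · exact (D.t_X1 u).symm ▸ hmem _ _ _
    · exact (D.t_X2 u).symm ▸ hmem _ _ _
    · exact (D.t_Y1 u).symm ▸ hmem _ _ _
    · exact (map_one (MulAut.conj t)).symm ▸ H.one_mem
  have cc := closed c fun i j u => by rw [D.c_root]; exact hmem _ _ _
  have cx := closed (X 1) fun i j u => by
    show X 1 * R i j u * (X 1)⁻¹ ∈ H
    exact H.mul_mem (H.mul_mem (hmem 0 1 1) (hmem i j u)) (H.inv_mem (hmem 0 1 1))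
  have iter : ∀ s : G, H ≤ H.comap (MulAut.conj s).toMonoidHom → ∀ n : ℕ,
      H ≤ H.comap (MulAut.conj (s ^ n)).toMonoidHom := by
    intro s hs n
    induction n with
    | zero => intro y hy; simpa using hy
    | succ n ih =>
      intro y hy
      show MulAut.conj (s ^ (n + 1)) y ∈ H
      rw [pow_succ, map_mul, MulAut.mul_apply]
      exact ih (hs hy)
  have hinvc : ∀ y ∈ H, MulAut.conj c⁻¹ y ∈ H := by
    intro y hy
    rw [D.c_inv, ← pow_two]
    exact iter c cc 2 hy
  have hinvt : ∀ y ∈ H, MulAut.conj t⁻¹ y ∈ H := by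
    have e : H ≤ H.comap (MulAut.conj t⁻¹).toMonoidHom := by
      refine closed _ fun i j u => ?_
      have e2 : ∃ i' j' v, MulAut.conj t (R i' j' v) = R i j u := by
        fin_cases i <;> fin_cases j
        · exact ⟨0, 0, 0, map_one _⟩
        · exact ⟨1, 0, -u, by rw [D.t_Y, neg_neg]; rfl⟩
        · exact ⟨1, 2, u, D.t_X1 u⟩
        · exact ⟨0, 1, -u, by rw [D.t_X, neg_neg]; rfl⟩
        · exact ⟨0, 0, 0, map_one _⟩
        · exact ⟨0, 2, -u, by rw [D.t_Y2, neg_neg]; rfl⟩
        · exact ⟨2, 1, u, D.t_Y1 u⟩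
        · exact ⟨2, 0, -u, by rw [D.t_X2, neg_neg]; rfl⟩
        · exact ⟨0, 0, 0, map_one _⟩
      obtain ⟨i', j', v, hv⟩ := e2
      rw [← hv, map_inv, MulAut.inv_apply_self]
      exact hmem _ _ _
    exact fun y hy => e hy
  have hinvg : ∀ y ∈ H, MulAut.conj g⁻¹ y ∈ H := by
    have e : H ≤ H.comap (MulAut.conj g⁻¹).toMonoidHom := by
      refine closed _ fun i j u => ?_
      obtain ⟨a, ha⟩ := hX i j
      by_cases ha0 : a = 0
      · have h0 := ha u
        rw [ha0, zero_mul, D.root_zero, MulEquiv.map_eq_one_iff] at h0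
        rw [h0, map_one]; exact H.one_mem
      · rw [ha.inv ha0]; exact hmem _ _ _
    exact fun y hy => e hy
  haveI hn : H.Normal := by
    refine ⟨fun y hy s => ?_⟩
    have hs : s ∈ Subgroup.closure ({X 1, g, t, c} : Set G) := by rw [D.gen]; trivial
    induction hs using Subgroup.closure_induction_left generalizing y with
    | one => simpa using hy
    | mul_left a ha b _ ih =>
      rw [show a * b * y * (a * b)⁻¹ = MulAut.conj a (b * y * b⁻¹) by simp [mul_assoc]]
      rcases ha with rfl | rfl | rfl | rfl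
      · exact cx (ih y hy)
      · exact cg (ih y hy)
      · exact ct (ih y hy)
      · exact cc (ih y hy)
    | inv_mul_cancel a ha b _ ih =>
      rw [show a⁻¹ * b * y * (a⁻¹ * b)⁻¹ = MulAut.conj a⁻¹ (b * y * b⁻¹) by simp [mul_assoc]]
      rcases ha with rfl | rfl | rfl | rfl
      · show (X 1)⁻¹ * _ * (X 1)⁻¹⁻¹ ∈ H
        exact H.mul_mem (H.mul_mem (H.inv_mem (hmem 0 1 1)) (ih y hy))
          (H.inv_mem (H.inv_mem (hmem 0 1 1)))
      · exact hinvg _ (ih y hy)
      · exact hinvt _ (ih y hy)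
      · exact hinvc _ (ih y hy)
  let π := QuotientGroup.mk' H
  set T := π t with hT
  set C := π c with hC
  set Gg := π g with hG
  set Hh := π hh with hHh
  have hT3 : T * T * T = 1 := by
    rw [hT, ← map_mul, ← map_mul]
    exact (QuotientGroup.eq_one_iff _).mpr D.t3
  have hC3 : C * C * C = 1 := by rw [hC, ← map_mul, ← map_mul, D.c3, map_one]
  have hctc : C * T⁻¹ * C = T := by rw [hC, hT, ← map_inv, ← map_mul, ← map_mul, D.ctc]
  have hth : T * Hh * T⁻¹ = Hh⁻¹ := by
    rw [hT, hHh, ← map_inv, ← map_inv, ← map_mul, ← map_mul, D.th]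
  have htg : T * Gg * T⁻¹ = Gg * Hh := by
    rw [hT, hG, hHh, ← map_inv, ← map_mul, ← map_mul, ← map_mul, D.conj_t_g]
  have hhk : Hh ^ k = T * T := by rw [hHh, hT, ← map_pow, ← map_mul, D.hk]
  have hcomm : Commute T Hh := by
    have h1 : Commute (T * T) Hh := by rw [← hhk]; exact Commute.pow_self Hh k
    have h2 : T = T * T * (T * T) := by
      rw [show T * T * (T * T) = T * T * T * T by simp only [mul_assoc], hT3, one_mul]
    rw [h2]; exact h1.mul_left h1
  have hh2 : Hh = Hh⁻¹ := by rw [← hth, hcomm.eq, mul_inv_cancel_right]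
  have hH2 : Hh * Hh = 1 := by
    nth_rewrite 2 [hh2]; exact mul_inv_cancel Hh
  have step : ∀ z, T * (z * Hh) * T⁻¹ = T * z * T⁻¹ * Hh := fun z => by
    rw [show T * (z * Hh) * T⁻¹ = T * z * T⁻¹ * (T * Hh * T⁻¹) by simp [mul_assoc], hth, ← hh2]
  have hH1 : Hh = 1 := by
    have h1 : T * (T * (T * Gg * T⁻¹) * T⁻¹) * T⁻¹ = Gg := by
      rw [show T * (T * (T * Gg * T⁻¹) * T⁻¹) * T⁻¹ = T * T * T * Gg * (T * T * T)⁻¹ by
        simp [mul_assoc], hT3]
      simp
    rw [htg, step, htg, step, step, htg, mul_assoc (Gg * Hh) Hh Hh, hH2, mul_one] at h1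
    exact mul_eq_left.mp h1
  have hG1 : Gg = 1 := by
    have : Gg = C * Hh * C⁻¹ := by
      rw [hG, hC, hHh, ← map_inv, ← map_mul, ← map_mul, D.conj_h]
    rw [this, hH1, mul_one, mul_inv_cancel]
  have hT1 : T = 1 := by
    have h2 : T * T = 1 := by rw [← hhk, hH1, one_pow]
    rwa [h2, one_mul] at hT3
  have hC1 : C = 1 := by
    rw [hT1, inv_one, mul_one] at hctc
    rwa [hctc, one_mul] at hC3
  rw [eq_top_iff, ← D.gen, Subgroup.closure_le]
  rintro y (rfl | rfl | rfl | rfl)
  · exact hmem 0 1 1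
  · exact (QuotientGroup.eq_one_iff _).mp hG1
  · exact (QuotientGroup.eq_one_iff _).mp hT1
  · exact (QuotientGroup.eq_one_iff _).mp hC1

end Data

end Cfsg.Agent.H99.SLThree
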