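import Cfsg.Agent.H99.ShortPres

/-!
The relation lists for short presentations of SL(2,q) and PSL(2,q), and the order bounds they
force: `relsSmall` (degree at most two), `relsGen` (odd characteristic), `relsTwo` (five
relations, characteristic two).
-/

namespace Cfsg.Agent.H99.ShortPres

open Polynomial

variable {G : Type*} [Group G] {F : Type*} [Field F] [Fintype F]
  {p : ℕ} [Fact p.Prime] [Algebra (ZMod p) F]

/-- Seven relations, for fields of degree at most two. -/
noncomputable def relsSmall (μ Pw Pc : (ZMod p)[X]) (k : ℕ) (x h t : G) : List (G × G) :=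
  [(x ^ p, 1), (x * (h * x * h⁻¹), h * x * h⁻¹ * x), (wordP h x μ, 1), (h ^ k, t * t),
    (t * h * t⁻¹ * h, 1), ((x * t) ^ 3, 1),
    (t * wordP h x Pw * t, wordP h x Pc * t * h ^ (k + 1) * wordP h x Pc)]

/-- Eight relations, for odd characteristic. -/
noncomputable def relsGen (μ R Pw Pc : (ZMod p)[X]) (k i j : ℕ) (x h t : G) : List (G × G) :=
  [(x ^ p, 1), (x * (h ^ i * x * (h ^ i)⁻¹), h ^ i * x * (h ^ i)⁻¹ * x),
    (h ^ j * x * (h ^ j)⁻¹, x * (h ^ i * x * (h ^ i)⁻¹)),
    (h * x * h⁻¹, wordP (h ^ i) x R), (h ^ k, t * t * wordP h x μ),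
    (t * h * t⁻¹ * h, 1), ((x * t) ^ 3, 1),
    (t * wordP h x Pw * t, wordP h x Pc * t * h ^ (k + 1) * wordP h x Pc)]

/-- Five relations, for characteristic two. -/
noncomputable def relsTwo (μ : (ZMod p)[X]) (N j : ℕ) (x h t : G) : List (G × G) :=
  [(x * x, 1), (h ^ j * x * (h ^ j)⁻¹, x * (h * x * h⁻¹)), (h ^ N, wordP h x μ),
    (t * h * t⁻¹ * h, 1), ((x * t) ^ 3, t * t)]

theorem map_relsSmall {H : Type*} [Group H] (f : G →* H) (μ Pw Pc : (ZMod p)[X]) (k : ℕ)
    (x h t : G) :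
    (relsSmall μ Pw Pc k x h t).map (Prod.map f f) = relsSmall μ Pw Pc k (f x) (f h) (f t) := by
  simp [relsSmall, map_wordP]

theorem map_relsGen {H : Type*} [Group H] (f : G →* H) (μ R Pw Pc : (ZMod p)[X]) (k i j : ℕ)
    (x h t : G) :
    (relsGen μ R Pw Pc k i j x h t).map (Prod.map f f)
      = relsGen μ R Pw Pc k i j (f x) (f h) (f t) := by
  simp [relsGen, map_wordP]

theorem map_relsTwo {H : Type*} [Group H] (f : G →* H) (μ : (ZMod p)[X]) (N j : ℕ) (x h t : G) :
    (relsTwo μ N j x h t).map (Prod.map f f) = relsTwo μ N j (f x) (f h) (f t) := by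
  simp [relsTwo, map_wordP]

/-- All pairs of the list hold. -/
def Sat (l : List (G × G)) : Prop := ∀ r ∈ l, r.1 = r.2

theorem conj_t {h t : G} (hth : t * h * t⁻¹ * h = 1) : t * h * t⁻¹ = h⁻¹ :=
  mul_eq_one_iff_eq_inv.mp hth

theorem th_of_rel {h t : G} (hth : t * h * t⁻¹ * h = 1) : t * h = h⁻¹ * t :=
  mul_inv_eq_iff_eq_mul.mp (conj_t hth)

theorem commute_tt {h t : G} (hth : t * h * t⁻¹ * h = 1) : Commute (t * t) h := by
  have e := conj_t hth
  have e2 : t * h⁻¹ * t⁻¹ = h := by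
    have h1 := congrArg (fun g => g⁻¹) e
    simpa [mul_assoc] using h1
  show t * t * h = h * (t * t)
  have e3 : t * h⁻¹ = h * t := mul_inv_eq_iff_eq_mul.mp e2
  rw [mul_assoc, th_of_rel hth, ← mul_assoc, e3, mul_assoc]

/-- Extend `t X(v) t` from orbit representatives. -/
theorem tXt_scale {X : F → G} {ζ : F} (hζ : ζ ≠ 0) {h t : G} {N : ℕ} (hN : 0 < N)
    (hpN : h ^ N = 1) (hth : t * h = h⁻¹ * t) (hX : ∀ u, h * X u = X (ζ * u) * h)
    {v : F} (hv : ∃ (c d : F) (l : ℕ), t * X v * t = X c * t * h ^ l * X d) (n : ℕ) :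
    ∃ (c d : F) (l : ℕ), t * X (ζ ^ n * v) * t = X c * t * h ^ l * X d := by
  obtain ⟨c, d, l, hl⟩ := hv
  have pX : ∀ (m : ℕ) (u : F), h ^ m * X u = X (ζ ^ m * u) * h ^ m := by
    intro m
    induction m with
    | zero => intro u; simp
    | succ m ih =>
      intro u
      rw [pow_succ, mul_assoc, hX, ← mul_assoc, ih, mul_assoc, ← mul_assoc (ζ ^ m), ← pow_succ]
  have s : SemiconjBy t h h⁻¹ := hth
  have s1 : t * h ^ n = (h⁻¹) ^ n * t := (s.pow_right n).eq
  have hinv : h⁻¹ = h ^ (N - 1) :=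
    inv_eq_of_mul_eq_one_right (by rw [← pow_succ', Nat.sub_add_cancel hN, hpN])
  have s2 : (h⁻¹) ^ n * t = t * h ^ n := s1.symm
  set M := (N - 1) * n with hM
  have s3 : (h⁻¹) ^ n = h ^ M := by rw [hinv, ← pow_mul]
  refine ⟨ζ ^ M * c, d * (ζ ^ n)⁻¹, ((N - 1) * M + l) + n, ?_⟩
  have e1 : X (ζ ^ n * v) = h ^ n * X v * (h ^ n)⁻¹ := by rw [pX, mul_inv_cancel_right]
  have e2 : (h ^ n)⁻¹ * t = t * h ^ n := by rw [← inv_pow, s2]
  have e3 : X d * h ^ n = h ^ n * X (d * (ζ ^ n)⁻¹) := by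
    rw [pX]
    congr 2
    field_simp
  have e4 : h ^ M * t = t * h ^ ((N - 1) * M) := by
    rw [show h ^ ((N - 1) * M) = (h⁻¹) ^ M by rw [hinv, ← pow_mul]]
    have s' : SemiconjBy t h⁻¹ h := by simpa using s.inv_right
    exact (s'.pow_right M).eq.symm
  calc t * X (ζ ^ n * v) * t = (t * h ^ n) * X v * ((h ^ n)⁻¹ * t) := by
        rw [e1]; simp only [mul_assoc]
    _ = h ^ M * (t * X v * t) * h ^ n := by rw [s1, e2, s3]; simp only [mul_assoc]
    _ = h ^ M * (X c * t * h ^ l * X d) * h ^ n := by rw [hl]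
    _ = (h ^ M * X c) * (t * h ^ l) * (X d * h ^ n) := by simp only [mul_assoc]
    _ = X (ζ ^ M * c) * (h ^ M * t) * h ^ l * (h ^ n * X (d * (ζ ^ n)⁻¹)) := by
        rw [pX, e3]; simp only [mul_assoc]
    _ = _ := by
        rw [e4, pow_add, pow_add]; simp only [mul_assoc]

/-- The bound for odd characteristic, after the reductions. -/
theorem bound_odd {x h t : G} {ζ ω : F} {k N : ℕ} (hN : 0 < N) (hζ : ζ ≠ 0)
    (hgen : ∀ u : F, ∃ P : (ZMod p)[X], aeval ζ P = u)
    (hrep : ∀ u : F, u ≠ 0 → ∃ n : ℕ, u = ζ ^ n ∨ u = ζ ^ n * ω)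
    {Pw Pc : (ZMod p)[X]} (hPw : aeval ζ Pw = ω)
    (hc : ∀ n : ℕ, Commute x (cnj h x n)) (hxp : x ^ p = 1)
    (hm : wordP h x (minpoly (ZMod p) ζ) = 1)
    (hk : h ^ k = t * t) (hpN : h ^ N = 1) (hth : t * h * t⁻¹ * h = 1) (h3 : (x * t) ^ 3 = 1)
    (hw : t * wordP h x Pw * t = wordP h x Pc * t * h ^ (k + 1) * wordP h x Pc)
    (hG : Subgroup.closure ({x, h, t} : Set G) = ⊤) :
    Finite G ∧ Nat.card G ≤ Fintype.card F * N * (Fintype.card F + 1) := by
  obtain ⟨X, hadd, hX, hword, hX1⟩ := exists_unipotent hc hxp hm hgen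
  have hth' := th_of_rel hth
  have X0 : X 0 = 1 := by
    have h1 := hadd 0 0
    rw [add_zero] at h1
    exact left_eq_mul.mp h1
  have hone : ∃ (c d : F) (l : ℕ), t * X 1 * t = X c * t * h ^ l * X d := by
    refine ⟨-1, -1, (N - 1) * k, ?_⟩
    have xi : X (-1) = x⁻¹ := by
      refine eq_inv_of_mul_eq_one_right ?_
      rw [← hX1, ← hadd, add_neg_cancel, X0]
    have ti : t * h ^ ((N - 1) * k) = t⁻¹ := by
      refine (inv_eq_of_mul_eq_one_right ?_).symm
      rw [← mul_assoc, ← hk, ← pow_add, show k + (N - 1) * k = N * k by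
        have := Nat.le_mul_of_pos_left k hN
        rw [Nat.sub_mul, one_mul]; omega, pow_mul, hpN, one_pow]
    rw [hX1, xi, mul_assoc x⁻¹ t, ti]
    have e : x * t * x * t * x * t = 1 := by
      rw [← h3, pow_succ, pow_two]; simp only [mul_assoc]
    have e' : x * (t * x * t) * (x * t) = 1 := by rw [← e]; simp only [mul_assoc]
    calc t * x * t = x⁻¹ * (x * (t * x * t) * (x * t)) * (x * t)⁻¹ := by simp [mul_assoc]
      _ = _ := by rw [e']; simp [mul_assoc]
  have homega : ∃ (c d : F) (l : ℕ), t * X ω * t = X c * t * h ^ l * X d :=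
    ⟨aeval ζ Pc, aeval ζ Pc, k + 1, by rw [← hPw, hword, hword]; exact hw⟩
  refine (WordData.card_le (X := X) (ζ := ζ) (h := h) (t := t) (k := k) (N := N) ?_)
  refine ⟨hadd, hN, hpN, hk.symm, hth', hX, fun u hu => ?_, by rw [hX1]; exact hG⟩
  obtain ⟨n, rfl | rfl⟩ := hrep u hu
  · simpa using tXt_scale hζ hN hpN hth' hX hone n
  · exact tXt_scale hζ hN hpN hth' hX homega n

theorem sq_pow {h t : G} {k : ℕ} (hth : t * h * t⁻¹ * h = 1) (hk : h ^ k = t * t) :
    h ^ (2 * k) = 1 := by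
  have e : t * h ^ k * t⁻¹ = (h⁻¹) ^ k := by rw [← conj_t hth, conj_pow]
  rw [hk, ← mul_assoc, mul_inv_cancel_right, ← hk] at e
  rw [two_mul, pow_add]
  nth_rewrite 1 [e]
  rw [inv_pow, inv_mul_cancel]

theorem cnj_two_mem {h x : G} {μ : (ZMod p)[X]} (hmon : μ.Monic) (hd0 : 1 ≤ μ.natDegree)
    (hd : μ.natDegree ≤ 2) (hm : wordP h x μ = 1) :
    cnj h x 2 ∈ Subgroup.closure ({x, cnj h x 1} : Set G) := by
  have hp1 : 1 < p := (Fact.out : p.Prime).one_lt
  haveI : Fact (1 < p) := ⟨hp1⟩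
  have hx : x ∈ Subgroup.closure ({x, cnj h x 1} : Set G) :=
    Subgroup.subset_closure (Set.mem_insert _ _)
  have hy : cnj h x 1 ∈ Subgroup.closure ({x, cnj h x 1} : Set G) :=
    Subgroup.subset_closure (Set.mem_insert_of_mem _ rfl)
  rcases (show μ.natDegree = 1 ∨ μ.natDegree = 2 by omega) with e | e
  · have h1 : (μ.coeff 1).val = 1 := by
      have := hmon.coeff_natDegree
      rw [e] at this
      rw [this, ZMod.val_one]
    have h2 : cnj h x 1 = (x ^ (μ.coeff 0).val)⁻¹ := by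
      simp only [wordP, e, List.range_succ, List.range_zero, List.map_append, List.map_cons,
        List.map_nil, List.prod_append, List.prod_cons, List.prod_nil, List.nil_append,
        one_mul, mul_one, cnj_zero, h1, pow_one] at hm
      exact eq_inv_of_mul_eq_one_right hm
    have h3 : cnj h x 2 = ((cnj h x 1) ^ (μ.coeff 0).val)⁻¹ := by
      rw [show cnj h x 2 = MulAut.conj (h ^ 1) (cnj h x 1) from cnj_add h x 1 1]
      conv_lhs => rw [h2, map_inv, map_pow, ← cnj_eq]
    rw [h3]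
    exact Subgroup.inv_mem _ (Subgroup.pow_mem _ hy _)
  · have h1 : (μ.coeff 2).val = 1 := by
      have := hmon.coeff_natDegree
      rw [e] at this
      rw [this, ZMod.val_one]
    have h2 : cnj h x 2 = (x ^ (μ.coeff 0).val * cnj h x 1 ^ (μ.coeff 1).val)⁻¹ := by
      simp only [wordP, e, List.range_succ, List.range_zero, List.map_append, List.map_cons,
        List.map_nil, List.prod_append, List.prod_cons, List.prod_nil, List.nil_append,
        one_mul, mul_one, cnj_zero, h1, pow_one] at hm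
      exact eq_inv_of_mul_eq_one_right hm
    rw [h2]
    exact Subgroup.inv_mem _ (Subgroup.mul_mem _ (Subgroup.pow_mem _ hx _)
      (Subgroup.pow_mem _ hy _))

theorem commute_all_of_two {h x : G} (h1 : Commute x (cnj h x 1))
    (h2 : cnj h x 2 ∈ Subgroup.closure ({x, cnj h x 1} : Set G)) (n : ℕ) :
    Commute x (cnj h x n) := by
  set A := Subgroup.closure ({x, cnj h x 1} : Set G) with hA
  have hstep : A ≤ A.comap (MulAut.conj h).toMonoidHom := by
    refine (Subgroup.closure_le _).mpr ?_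
    rintro y (rfl | rfl)
    · exact Subgroup.subset_closure (Set.mem_insert_of_mem _ (by simp [cnj]))
    · show MulAut.conj h (cnj h x 1) ∈ A
      have e : MulAut.conj h (cnj h x 1) = cnj h x 2 := by simp [cnj, pow_two, mul_assoc]
      rw [e]; exact h2
  have hmem : ∀ m : ℕ, cnj h x m ∈ A := by
    intro m
    induction m with
    | zero => rw [cnj_zero]; exact Subgroup.subset_closure (Set.mem_insert _ _)
    | succ m ih =>
      have e : cnj h x (m + 1) = MulAut.conj h (cnj h x m) := by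
        simp [cnj, pow_succ', mul_assoc]
      rw [e]
      exact hstep ih
  have hcz : A ≤ Subgroup.centralizer {x} := by
    refine (Subgroup.closure_le _).mpr ?_
    rintro y (rfl | rfl)
    · exact Subgroup.mem_centralizer_iff.mpr fun s hs => by rw [Set.mem_singleton_iff.mp hs]
    · exact Subgroup.mem_centralizer_iff.mpr fun s hs => by
        rw [Set.mem_singleton_iff.mp hs]; exact h1.eq
  exact Subgroup.mem_centralizer_iff.mp (hcz (hmem n)) x rfl

/-- Bound from `relsSmall`; `N = 2k` in general and `N = k` once `t * t = 1`. -/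
theorem bound_small {x h t : G} {ζ ω : F} {k N : ℕ} (hN : 0 < N) (hζ : ζ ≠ 0)
    (hgen : ∀ u : F, ∃ P : (ZMod p)[X], aeval ζ P = u)
    (hrep : ∀ u : F, u ≠ 0 → ∃ n : ℕ, u = ζ ^ n ∨ u = ζ ^ n * ω)
    (hdeg : (minpoly (ZMod p) ζ).natDegree ≤ 2)
    {Pw Pc : (ZMod p)[X]} (hPw : aeval ζ Pw = ω)
    (hs : Sat (relsSmall (minpoly (ZMod p) ζ) Pw Pc k x h t))
    (hpN : N = k ∧ t * t = 1 ∨ N = 2 * k)
    (hG : Subgroup.closure ({x, h, t} : Set G) = ⊤) :
    Finite G ∧ Nat.card G ≤ Fintype.card F * N * (Fintype.card F + 1) := by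
  simp only [Sat, relsSmall, List.forall_mem_cons, List.not_mem_nil, IsEmpty.forall_iff,
    implies_true, and_true] at hs
  obtain ⟨hxp, hcomm, hm, hk, hth, h3, hw⟩ := hs
  have hpN' : h ^ N = 1 :=
    hpN.elim (fun e => by rw [e.1, hk, e.2]) fun e => e ▸ sq_pow hth hk
  have hint : IsIntegral (ZMod p) ζ := IsIntegral.of_finite _ _
  have hc := commute_all_of_two (h := h) (x := x) (by simpa [cnj, Commute, SemiconjBy] using hcomm)
    (cnj_two_mem (minpoly.monic hint) (minpoly.natDegree_pos hint) hdeg hm)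
  exact bound_odd hN hζ hgen hrep hPw hc hxp hm hk hpN' hth h3 hw hG

/-- Bound from `relsGen`. -/
theorem bound_gen {x h t : G} {ζ ω : F} {k N i j : ℕ} (hN : 0 < N) (hζ : ζ ≠ 0)
    (hgen : ∀ u : F, ∃ P : (ZMod p)[X], aeval ζ P = u)
    (hrep : ∀ u : F, u ≠ 0 → ∃ n : ℕ, u = ζ ^ n ∨ u = ζ ^ n * ω)
    {R Pw Pc : (ZMod p)[X]} (hPw : aeval ζ Pw = ω)
    (hs : Sat (relsGen (minpoly (ZMod p) ζ) R Pw Pc k i j x h t))
    (hpN : N = k ∧ t * t = 1 ∨ N = 2 * k)
    (hG : Subgroup.closure ({x, h, t} : Set G) = ⊤) :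
    Finite G ∧ Nat.card G ≤ Fintype.card F * N * (Fintype.card F + 1) := by
  simp only [Sat, relsGen, List.forall_mem_cons, List.not_mem_nil, IsEmpty.forall_iff,
    implies_true, and_true] at hs
  obtain ⟨hxp, hcomm, hb, hR, hk, hth, h3, hw⟩ := hs
  have hc := commute_of_sub (h := h) (x := x) (i := i)
    (commute_conj_pow ((Commute.refl h).pow_pow i j) hcomm hb)
    (by rw [hR]; exact wordP_mem _ _ _)
  set v := wordP h x (minpoly (ZMod p) ζ) with hv
  have hfix : Commute h v := by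
    have e : v = (t * t)⁻¹ * h ^ k := by rw [hk, inv_mul_cancel_left]
    rw [e]
    exact ((commute_tt hth).symm.inv_right).mul_right (Commute.self_pow h k)
  have hm : v = 1 := eq_one_of_fixed hc hb (wordP_mem _ _ _) hfix
  have hk' : h ^ k = t * t := by rw [hk, hm, mul_one]
  have hpN' : h ^ N = 1 :=
    hpN.elim (fun e => by rw [e.1, hk', e.2]) fun e => e ▸ sq_pow hth hk'
  exact bound_odd hN hζ hgen hrep hPw hc hxp hm hk' hpN' hth h3 hw hG

/-- Bound from `relsTwo`. -/
theorem bound_two {x h t : G} {ζ : F} {N j : ℕ} (hp : p = 2) (hN : 0 < N) (hζ : ζ ≠ 0)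
    (hgen : ∀ u : F, ∃ P : (ZMod p)[X], aeval ζ P = u)
    (hrep : ∀ u : F, u ≠ 0 → ∃ n : ℕ, u = ζ ^ n)
    (hs : Sat (relsTwo (minpoly (ZMod p) ζ) N j x h t))
    (hG : Subgroup.closure ({x, h, t} : Set G) = ⊤) :
    Finite G ∧ Nat.card G ≤ Fintype.card F * N * (Fintype.card F + 1) := by
  simp only [Sat, relsTwo, List.forall_mem_cons, List.not_mem_nil, IsEmpty.forall_iff,
    implies_true, and_true] at hs
  obtain ⟨hxx, hb, hN', hth, h3⟩ := hs
  have hyy : (h * x * h⁻¹) * (h * x * h⁻¹) = 1 := by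
    rw [conj_mul, hxx, mul_one, mul_inv_cancel]
  have hjj : (h ^ j * x * (h ^ j)⁻¹) * (h ^ j * x * (h ^ j)⁻¹) = 1 := by
    rw [conj_mul, hxx, mul_one, mul_inv_cancel]
  have hcomm : Commute x (h * x * h⁻¹) := by
    rw [hb] at hjj
    have i1 := inv_eq_of_mul_eq_one_right hxx
    have i2 := inv_eq_of_mul_eq_one_right hyy
    have i3 := inv_eq_of_mul_eq_one_right hjj
    rw [mul_inv_rev, i1, i2] at i3
    exact i3.symm
  have hc := commute_conj_pow (Commute.self_pow h j) hcomm hb
  set v := wordP h x (minpoly (ZMod p) ζ) with hv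
  have hfix : Commute h v := by rw [← hN']; exact Commute.self_pow h N
  have hm : v = 1 := eq_one_of_fixed (i := 1) (j := j) hc (by rw [pow_one]; exact hb)
    (wordP_mem _ _ _) hfix
  have hpN : h ^ N = 1 := hN'.trans hm
  have hr3 : (x * t) ^ 3 = 1 := by
    set r := x * t with hr
    have ht : t = x * r := by rw [hr, ← mul_assoc, hxx, one_mul]
    have e : x * r * x = r * r := by
      have e1 : x * r * x * r = r * r * r := by
        rw [mul_assoc (x * r) x r, ← ht, ← h3, pow_succ, pow_two]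
      exact mul_right_cancel e1
    have e2 : x * (r * r) * x = r := by
      rw [← e]
      simp only [← mul_assoc]
      rw [hxx, one_mul, mul_assoc, hxx, mul_one]
    have e3 : x * (r * r) * x = (r * r) * (r * r) := by
      calc x * (r * r) * x = (x * r * x) * (x * r * x) := by
            rw [show (x * r * x) * (x * r * x) = x * r * (x * x) * r * x by simp only [mul_assoc],
              hxx, mul_one]
            simp only [mul_assoc]
        _ = _ := by rw [e]
    have e4 : r * 1 = r * (r * r * r) := by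
      rw [mul_one]
      calc r = r * r * (r * r) := e2.symm.trans e3
        _ = _ := by simp only [mul_assoc]
    rw [pow_succ, pow_two]
    exact (mul_left_cancel e4).symm
  have htt : t * t = 1 := h3.symm.trans hr3
  obtain ⟨X, hadd, hX, hword, hX1⟩ :=
    exists_unipotent hc (by rw [hp, pow_two]; exact hxx) hm hgen
  have X0 : X 0 = 1 := by
    have h1 := hadd 0 0
    rw [add_zero] at h1
    exact left_eq_mul.mp h1
  have hone : ∃ (c d : F) (l : ℕ), t * X 1 * t = X c * t * h ^ l * X d := by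
    refine ⟨1, 1, 0, ?_⟩
    have ix := inv_eq_of_mul_eq_one_right hxx
    have it := inv_eq_of_mul_eq_one_right htt
    have e' : x * (t * x * t) * (x * t) = 1 := by
      rw [← hr3, pow_succ, pow_two]; simp only [mul_assoc]
    rw [hX1, pow_zero, mul_one]
    calc t * x * t = x⁻¹ * (x * (t * x * t) * (x * t)) * (x * t)⁻¹ := by simp [mul_assoc]
      _ = _ := by rw [e', mul_inv_rev, ix, it]; simp [mul_assoc]
  have hth' := th_of_rel hth
  refine (WordData.card_le (X := X) (ζ := ζ) (h := h) (t := t) (k := 0) (N := N) ?_)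
  refine ⟨hadd, hN, hpN, by rw [pow_zero, htt], hth', hX, fun u hu => ?_, by rw [hX1]; exact hG⟩
  obtain ⟨n, rfl⟩ := hrep u hu
  simpa using tXt_scale hζ hN hpN hth' hX hone n

/-- Four relations, for the field of order two. -/
def relsMin (x h t : G) : List (G × G) := [(h, 1), (x * x, 1), (t * t, 1), ((x * t) ^ 3, 1)]

theorem map_relsMin {H : Type*} [Group H] (f : G →* H) (x h t : G) :
    (relsMin x h t).map (Prod.map f f) = relsMin (f x) (f h) (f t) := by
  simp [relsMin]

/-- Bound from `relsMin`. -/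
theorem bound_min {x h t : G} (hF : Fintype.card F = 2) (hp : p = 2)
    (hs : Sat (relsMin x h t)) (hG : Subgroup.closure ({x, h, t} : Set G) = ⊤) :
    Finite G ∧ Nat.card G ≤ Fintype.card F * 1 * (Fintype.card F + 1) := by
  simp only [Sat, relsMin, List.forall_mem_cons, List.not_mem_nil, IsEmpty.forall_iff,
    implies_true, and_true] at hs
  obtain ⟨rfl, hxx, htt, h3⟩ := hs
  subst hp
  have hall : ∀ u : F, u = 0 ∨ u = 1 := by
    intro u
    by_contra hu
    push_neg at hu
    classical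
    obtain ⟨a, b, hab, huniv⟩ := Finset.card_eq_two.mp (Finset.card_univ.trans hF)
    have h0 : (0 : F) ∈ ({a, b} : Finset F) := huniv ▸ Finset.mem_univ _
    have h1 : (1 : F) ∈ ({a, b} : Finset F) := huniv ▸ Finset.mem_univ _
    have h2 : u ∈ ({a, b} : Finset F) := huniv ▸ Finset.mem_univ _
    simp only [Finset.mem_insert, Finset.mem_singleton] at h0 h1 h2
    have := zero_ne_one (α := F)
    grind
  have hgen : ∀ u : F, ∃ P : (ZMod 2)[X], aeval (1 : F) P = u := fun u => by
    rcases hall u with rfl | rfl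
    · exact ⟨0, map_zero _⟩
    · exact ⟨1, map_one _⟩
  refine bound_odd (ζ := (1 : F)) (ω := (1 : F)) (k := 0) (N := 1) (Pw := 1) (Pc := 1) one_pos
    one_ne_zero hgen (fun u hu => ⟨0, Or.inl (by simpa using (hall u).resolve_left hu)⟩)
    (map_one _) (fun n => by simp [cnj]) (by rw [pow_two]; exact hxx) ?_ (by simpa using htt.symm)
    (one_pow 1) (by simp) h3 ?_ hG
  · have e : minpoly (ZMod 2) (1 : F) = Polynomial.X - Polynomial.C 1 := by
      rw [← map_one (algebraMap (ZMod 2) F), minpoly.eq_X_sub_C]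
    have c0 : (minpoly (ZMod 2) (1 : F)).coeff 0 = 1 := by
      rw [e, Polynomial.coeff_sub, Polynomial.coeff_X_zero, Polynomial.coeff_C_zero]; rfl
    have c1 : (minpoly (ZMod 2) (1 : F)).coeff 1 = 1 := by
      rw [e, Polynomial.coeff_sub, Polynomial.coeff_X_one, Polynomial.coeff_C_succ, sub_zero]
    have d : (minpoly (ZMod 2) (1 : F)).natDegree = 1 := by rw [e, Polynomial.natDegree_X_sub_C]
    simp only [wordP, cnj, d, c0, c1, List.range_succ, List.range_zero, List.map_append,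
      List.map_cons, List.map_nil, List.prod_append, List.prod_cons, List.prod_nil, List.nil_append,
      ZMod.val_one, one_pow, one_mul, inv_one, mul_one, pow_one, hxx]
  · have ix := inv_eq_of_mul_eq_one_right hxx
    have it := inv_eq_of_mul_eq_one_right htt
    have e' : x * (t * x * t) * (x * t) = 1 := by
      rw [← h3, pow_succ, pow_two]; simp only [mul_assoc]
    have e1 : wordP (1 : G) x (1 : (ZMod 2)[X]) = x := by simp [wordP, cnj, ZMod.val_one]
    rw [e1, zero_add, pow_one, mul_one]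
    calc t * x * t = x⁻¹ * (x * (t * x * t) * (x * t)) * (x * t)⁻¹ := by simp [mul_assoc]
      _ = _ := by rw [e', mul_inv_rev, ix, it]; simp [mul_assoc]

end Cfsg.Agent.H99.ShortPres
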