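import Cfsg.Agent.H99.SLThreeCore
import Cfsg.Agent.H99.ShortPresRels

/-!
Relation lists with at most fourteen relations for SL(3,q), and the Steinberg data they give.
-/

namespace Cfsg.Agent.H99.SLThree

open Polynomial Cfsg.Agent.H99.ShortPres

variable {G : Type*} [Group G] {F : Type*} [Field F] [Fintype F]
  {p : ℕ} [Fact p.Prime] [Algebra (ZMod p) F]

/-- The six relations shared by all cases. -/
def base (x g t c : G) : List (G × G) :=
  [((c⁻¹ * g * c) * x * (c⁻¹ * g * c)⁻¹, (g * g)⁻¹ * x * (g * g)),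
    (g * (c⁻¹ * g * c), c⁻¹ * g * c * g), (g * (c⁻¹ * g * c) * (c * g * c⁻¹), 1),
    (t * (c⁻¹ * g * c) * t⁻¹ * (c⁻¹ * g * c), 1), (c * c * c, 1), (c * t⁻¹ * c, t)]

/-- `X(1)` commutes with the (0,2) element `z`. -/
def relA (x t c z : G) : G × G :=
  (x * (c * c * (t * z * t⁻¹) * (c * c)⁻¹), c * c * (t * z * t⁻¹) * (c * c)⁻¹ * x)

/-- `X(1)` commutes with the (2,1) element `z`. -/
def relB (x t c z : G) : G × G :=
  (x * (c * (t * z * t⁻¹) * c⁻¹), c * (t * z * t⁻¹) * c⁻¹ * x)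

/-- The commutator relation: `z = X(b)`, `z' = X(-b)`. -/
def relC (x t c z z' : G) : G × G :=
  (x * (c * z * c⁻¹), c * c * (t * z' * t⁻¹) * (c * c)⁻¹ * (c * z * c⁻¹) * x)

/-- Fourteen relations: the generic case. -/
noncomputable def lGen (μ : (ZMod p)[X]) (k j : ℕ) (x g t c : G) : List (G × G) :=
  [(x ^ p, 1), (x * (g * x * g⁻¹), g * x * g⁻¹ * x),
    (g ^ j * x * (g ^ j)⁻¹, x * (g * x * g⁻¹)),
    ((c⁻¹ * g * c) ^ k, t * t * wordP g x μ)] ++ base x g t c ++
  [((x * t) ^ 3, 1), relA x t c x⁻¹, relB x t c x⁻¹, relC x t c x x⁻¹]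

/-- Fourteen relations: prime fields. -/
noncomputable def lSmall (μ : (ZMod p)[X]) (k : ℕ) (x g t c : G) : List (G × G) :=
  [(x ^ p, 1), (x * (g * x * g⁻¹), g * x * g⁻¹ * x), (wordP g x μ, 1),
    ((c⁻¹ * g * c) ^ k, t * t)] ++ base x g t c ++
  [((x * t) ^ 3, 1), relA x t c x⁻¹, relB x t c x⁻¹, relC x t c x x⁻¹]

/-- Fourteen relations: four elements. -/
noncomputable def lFour (μ Pp Pn : (ZMod p)[X]) (x g t c : G) : List (G × G) :=
  [(x * x, 1), (x * (g * x * g⁻¹), g * x * g⁻¹ * x), (wordP g x μ, 1)] ++ base x g t c ++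
  [((x * t) ^ 3, t * t), relA x t c (wordP g x Pn), relB x t c (wordP g x Pn),
    relC x t c x x⁻¹, relC x t c (wordP g x Pp) (wordP g x Pn)]

theorem map_lGen {H : Type*} [Group H] (f : G →* H) (μ : (ZMod p)[X]) (k j : ℕ) (x g t c : G) :
    (lGen μ k j x g t c).map (Prod.map f f) = lGen μ k j (f x) (f g) (f t) (f c) := by
  simp [lGen, base, relA, relB, relC, map_wordP]

theorem map_lSmall {H : Type*} [Group H] (f : G →* H) (μ : (ZMod p)[X]) (k : ℕ) (x g t c : G) :
    (lSmall μ k x g t c).map (Prod.map f f) = lSmall μ k (f x) (f g) (f t) (f c) := by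
  simp [lSmall, base, relA, relB, relC, map_wordP]

theorem map_lFour {H : Type*} [Group H] (f : G →* H) (μ Pp Pn : (ZMod p)[X]) (x g t c : G) :
    (lFour μ Pp Pn x g t c).map (Prod.map f f) = lFour μ Pp Pn (f x) (f g) (f t) (f c) := by
  simp [lFour, base, relA, relB, relC, map_wordP]

/-- The output: Steinberg data with a root map given by words. -/
def Good (ω : Fˣ) (k : ℕ) (x g t c : G) : Prop :=
  ∃ X : F → G, Data X ω g t c k ∧
    (∀ P : (ZMod p)[X], X (aeval ((ω : F)⁻¹) P) = wordP g x P) ∧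
    ((∀ a b, Data.PA X t c a b) ∧ (∀ a b, Data.PB X t c a b) ∧ (∀ a b, Data.PC X t c a b))

theorem conj_orbit {g r x : G} (hgr : Commute g r)
    (hrx : r * x * r⁻¹ = (g * g)⁻¹ * x * (g * g)) :
    ∀ y ∈ orbitClosure g x, r * y * r⁻¹ = (g * g)⁻¹ * y * (g * g) := by
  intro y hy
  induction hy using Subgroup.closure_induction with
  | mem y hy =>
    obtain ⟨n, rfl⟩ := hy
    have c1 : r * g ^ n = g ^ n * r := (hgr.symm.zpow_right n).eq
    have c2 : (g * g)⁻¹ * g ^ n = g ^ n * (g * g)⁻¹ :=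
      (((Commute.refl g).mul_left (Commute.refl g)).inv_left.zpow_right n).eq
    calc r * (g ^ n * x * (g ^ n)⁻¹) * r⁻¹ = (r * g ^ n) * x * (r * g ^ n)⁻¹ := by
          simp [mul_assoc]
      _ = g ^ n * (r * x * r⁻¹) * (g ^ n)⁻¹ := by rw [c1]; simp [mul_assoc]
      _ = g ^ n * (g * g)⁻¹ * x * (g ^ n * (g * g)⁻¹)⁻¹ := by rw [hrx]; simp [mul_assoc]
      _ = _ := by rw [← c2]; simp [mul_assoc]
  | one => simp
  | mul y z _ _ e1 e2 =>
    calc r * (y * z) * r⁻¹ = (r * y * r⁻¹) * (r * z * r⁻¹) := by simp [mul_assoc]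
      _ = _ := by rw [e1, e2]; simp [mul_assoc]
  | inv y _ e =>
    calc r * y⁻¹ * r⁻¹ = (r * y * r⁻¹)⁻¹ := by simp [mul_assoc]
      _ = _ := by rw [e]; simp [mul_assoc]

/-- The data from the unipotent module and the base relations. -/
theorem exists_data {x g t c : G} {ω : Fˣ} {k : ℕ}
    (hgen : ∀ u : F, ∃ P : (ZMod p)[X], aeval ((ω : F)⁻¹) P = u)
    (hc : ∀ n : ℕ, Commute x (cnj g x n)) (hxp : x ^ p = 1)
    (hm : wordP g x (minpoly (ZMod p) ((ω : F)⁻¹)) = 1)
    (hb : Sat (base x g t c)) (hωk : (ω : F) ^ k = -1) (hk : (c⁻¹ * g * c) ^ k = t * t)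
    (hbr : (x * t) ^ 3 = 1 ∨ (x * t) ^ 3 = t * t)
    (hG : Subgroup.closure ({x, g, t, c} : Set G) = ⊤) :
    ∃ X : F → G, Data X ω g t c k ∧
      (∀ P : (ZMod p)[X], X (aeval ((ω : F)⁻¹) P) = wordP g x P) ∧ X 1 = x := by
  simp only [Sat, base, List.forall_mem_cons, List.not_mem_nil, IsEmpty.forall_iff,
    implies_true, and_true] at hb
  obtain ⟨hhx, hgh, hprod, hth, hc3, hctc⟩ := hb
  obtain ⟨X, hadd, hgX, hword, hX1⟩ := exists_unipotent hc hxp hm hgen
  set hh := c⁻¹ * g * c with hhdef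
  have hgX' : Acts g ((ω : F)⁻¹) X := fun u => by
    rw [MulAut.conj_apply, hgX, mul_inv_cancel_right]
  have hgh' : Commute g hh := hgh
  have key := conj_orbit hgh' hhx
  have hX : Acts hh ((ω : F) ^ 2) X := by
    intro u
    obtain ⟨P, rfl⟩ := hgen u
    have hmem : X (aeval ((ω : F)⁻¹) P) ∈ orbitClosure g x := by
      rw [hword]; exact wordP_mem _ _ _
    rw [MulAut.conj_apply, key _ hmem]
    have h := ((hgX'.mul hgX').inv (mul_ne_zero (inv_ne_zero ω.ne_zero) (inv_ne_zero ω.ne_zero)))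
      (aeval ((ω : F)⁻¹) P)
    rw [MulAut.conj_apply, inv_inv] at h
    rw [h]
    congr 1
    field_simp
  refine ⟨X, ⟨hadd, hgX', hX, hgh', hprod, mul_eq_one_iff_eq_inv.mp hth, hc3, hctc, hk, hωk, ?_,
    by rw [hX1]; exact hG⟩, hword, hX1⟩
  set H := Subgroup.closure {y : G | ∃ i j u, y = root X t c i j u}
  have h1 : x ∈ H := Subgroup.subset_closure ⟨0, 1, 1, hX1.symm⟩
  have h2 : t * x * t⁻¹ ∈ H := Subgroup.subset_closure ⟨1, 0, -1, by
    simp [root10, rY, hX1]⟩
  have h3 : t * t * x * (t * t)⁻¹ = x := by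
    have h := (hX.pow k) 1
    rw [hk, ← pow_mul, mul_comm 2 k, pow_mul, hωk, neg_one_sq, mul_one, hX1] at h
    simpa [mul_assoc] using h
  set w := x * (t * x * t⁻¹) * (t * t * x * (t * t)⁻¹) with hw
  have hwH : w ∈ H := by
    rw [hw, h3]; exact H.mul_mem (H.mul_mem h1 h2) h1
  have e : w * (t * t * t) = (x * t) ^ 3 := by
    rw [hw, pow_succ, pow_two]; simp [mul_assoc]
  rcases hbr with hbr | hbr
  · rw [hbr] at e
    rw [eq_inv_of_mul_eq_one_right e]
    exact H.inv_mem hwH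
  · rw [hbr] at e
    have ht : t = w⁻¹ := by
      apply eq_inv_of_mul_eq_one_right
      have : w * t * (t * t) = 1 * (t * t) := by
        rw [one_mul]; conv_rhs => rw [← e]
        simp only [mul_assoc]
      exact mul_right_cancel this
    rw [ht]
    exact H.mul_mem (H.mul_mem (H.inv_mem hwH) (H.inv_mem hwH)) (H.inv_mem hwH)

theorem pA_iff {X : F → G} {x t c : G} (hX1 : X 1 = x) (b : F) :
    Data.PA X t c 1 b ↔ (relA x t c (X (-b))).1 = (relA x t c (X (-b))).2 := by
  simp only [Data.PA, root01, root02, rY, relA, hX1, MulAut.conj_apply]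
  rfl

theorem pB_iff {X : F → G} {x t c : G} (hX1 : X 1 = x) (b : F) :
    Data.PB X t c 1 b ↔ (relB x t c (X (-b))).1 = (relB x t c (X (-b))).2 := by
  simp only [Data.PB, root01, root21, rY, relB, hX1, MulAut.conj_apply]
  rfl

theorem pC_iff {X : F → G} {x t c : G} (hX1 : X 1 = x) (b : F) :
    Data.PC X t c 1 b ↔ (relC x t c (X b) (X (-b))).1 = (relC x t c (X b) (X (-b))).2 := by
  simp only [Data.PC, root01, root02, root12, rY, relC, hX1, one_mul, MulAut.conj_apply]

theorem X_neg_one {X : F → G} {x g t c : G} {ω : Fˣ} {k : ℕ} (D : Data X ω g t c k)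
    (hX1 : X 1 = x) : X (-1) = x⁻¹ := by
  refine eq_inv_of_mul_eq_one_right ?_
  rw [← hX1, ← D.add, add_neg_cancel, D.X_zero]

/-- The generic list gives Steinberg data. -/
theorem good_gen {x g t c : G} {ω : Fˣ} {k j : ℕ}
    (hgen : ∀ u : F, ∃ P : (ZMod p)[X], aeval ((ω : F)⁻¹) P = u)
    (hz : SpanPowers F ((ω : F) ^ 3)) (hωk : (ω : F) ^ k = -1)
    (hs : Sat (lGen (minpoly (ZMod p) ((ω : F)⁻¹)) k j x g t c))
    (hG : Subgroup.closure ({x, g, t, c} : Set G) = ⊤) : Good (p := p) ω k x g t c := by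
  simp only [Sat, lGen, List.forall_mem_append, List.forall_mem_cons, List.not_mem_nil,
    IsEmpty.forall_iff, implies_true, and_true] at hs
  obtain ⟨⟨⟨hxp, hcomm, hb, hk⟩, hbase⟩, hbr, hA, hB, hC⟩ := hs
  have hcn : ∀ n, Commute x (cnj g x n) := commute_conj_pow (Commute.self_pow g j) hcomm hb
  have hbase' := hbase
  simp only [base, List.forall_mem_cons, List.not_mem_nil, IsEmpty.forall_iff,
    implies_true, and_true] at hbase'
  obtain ⟨hhx, hgh, -, hth, -, -⟩ := hbase'
  set hh := c⁻¹ * g * c with hhdef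
  set v := wordP g x (minpoly (ZMod p) ((ω : F)⁻¹)) with hv
  have hvA : v ∈ orbitClosure g x := wordP_mem _ _ _
  have hvh : Commute hh v := by
    have e : v = (t * t)⁻¹ * hh ^ k := by rw [hk, inv_mul_cancel_left]
    rw [e]
    exact ((commute_tt hth).symm.inv_right).mul_right (Commute.self_pow hh k)
  have hg2 : Commute (g * g) v := by
    have h := conj_orbit hgh hhx v hvA
    rw [hvh.eq, mul_inv_cancel_right, mul_assoc, eq_inv_mul_iff_mul_eq] at h
    exact h
  have hm : v = 1 := by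
    have h := conj_eq_mul (i := 1) (j := j) hcn (by simpa using hb) v hvA
    rw [pow_one] at h
    rcases Nat.even_or_odd' j with ⟨i, rfl | rfl⟩
    · rw [pow_mul, pow_two, (hg2.pow_left i).eq, mul_inv_cancel_right, left_eq_mul] at h
      exact conj_eq_one_iff.mp h
    · have e : g ^ (2 * i + 1) * v * (g ^ (2 * i + 1))⁻¹ = g * v * g⁻¹ := by
        rw [add_comm, pow_add, pow_one, pow_mul, pow_two]
        calc g * (g * g) ^ i * v * (g * (g * g) ^ i)⁻¹
            = g * ((g * g) ^ i * v * ((g * g) ^ i)⁻¹) * g⁻¹ := by simp [mul_assoc]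
          _ = _ := by rw [(hg2.pow_left i).eq, mul_inv_cancel_right]
      rw [e] at h
      exact right_eq_mul.mp h
  obtain ⟨X, D, hword, hX1⟩ := exists_data hgen hcn hxp hm hbase hωk
    (by rw [hk, hm, mul_one]) (Or.inl hbr) hG
  refine ⟨X, D, hword, D.families hz ?_ ?_ ?_⟩
  · rw [pA_iff hX1, X_neg_one D hX1]; exact hA
  · rw [pB_iff hX1, X_neg_one D hX1]; exact hB
  · rw [pC_iff hX1, hX1, X_neg_one D hX1]; exact hC

/-- The list for prime fields gives Steinberg data. -/
theorem good_small {x g t c : G} {ω : Fˣ} {k : ℕ}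
    (hgen : ∀ u : F, ∃ P : (ZMod p)[X], aeval ((ω : F)⁻¹) P = u)
    (hdeg : (minpoly (ZMod p) ((ω : F)⁻¹)).natDegree ≤ 2)
    (hz : SpanPowers F ((ω : F) ^ 3)) (hωk : (ω : F) ^ k = -1)
    (hs : Sat (lSmall (minpoly (ZMod p) ((ω : F)⁻¹)) k x g t c))
    (hG : Subgroup.closure ({x, g, t, c} : Set G) = ⊤) : Good (p := p) ω k x g t c := by
  simp only [Sat, lSmall, List.forall_mem_append, List.forall_mem_cons, List.not_mem_nil,
    IsEmpty.forall_iff, implies_true, and_true] at hs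
  obtain ⟨⟨⟨hxp, hcomm, hm, hk⟩, hbase⟩, hbr, hA, hB, hC⟩ := hs
  have hint : IsIntegral (ZMod p) ((ω : F)⁻¹) := IsIntegral.of_finite _ _
  have hcn := commute_all_of_two (h := g) (x := x)
    (by simpa [cnj, Commute, SemiconjBy] using hcomm)
    (cnj_two_mem (minpoly.monic hint) (minpoly.natDegree_pos hint) hdeg hm)
  obtain ⟨X, D, hword, hX1⟩ := exists_data hgen hcn hxp hm hbase hωk hk (Or.inl hbr) hG
  refine ⟨X, D, hword, D.families hz ?_ ?_ ?_⟩
  · rw [pA_iff hX1, X_neg_one D hX1]; exact hA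
  · rw [pB_iff hX1, X_neg_one D hX1]; exact hB
  · rw [pC_iff hX1, hX1, X_neg_one D hX1]; exact hC

theorem commute_of_invol {x z w : G} (hx : x * x = 1) (hz : z * z = 1) (hw : w * w = 1)
    (h : x * z = w * z * x) : Commute x w := by
  have ix := inv_eq_of_mul_eq_one_right hx
  have iz := inv_eq_of_mul_eq_one_right hz
  have e : w = x * z * x * z := by
    rw [h]; simp [mul_assoc, hx, hz]
  have e2 : w = z * x * z * x := by
    have := inv_eq_of_mul_eq_one_right hw
    rw [e] at this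
    simp only [mul_inv_rev, ix, iz, ← mul_assoc] at this
    rw [e, ← this]
  show x * w = w * x
  nth_rewrite 1 [e]
  nth_rewrite 1 [e2]
  simp only [← mul_assoc, hx, one_mul]
  rw [mul_assoc (z * x * z) x x, hx, mul_one]

/-- The list for four elements gives Steinberg data. -/
theorem good_four {x g t c : G} {ω : Fˣ} (hp : p = 2)
    (hgen : ∀ u : F, ∃ P : (ZMod p)[X], aeval ((ω : F)⁻¹) P = u)
    (hdeg : (minpoly (ZMod p) ((ω : F)⁻¹)).natDegree ≤ 2)
    (hz : SpanPowers F (ω : F)) (h2 : (2 : F) = 0) (hw : (ω : F) ^ 3 = 1)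
    {Pp Pn : (ZMod p)[X]} (hPp : aeval ((ω : F)⁻¹) Pp = (ω : F))
    (hPn : aeval ((ω : F)⁻¹) Pn = -(ω : F))
    (hs : Sat (lFour (minpoly (ZMod p) ((ω : F)⁻¹)) Pp Pn x g t c))
    (hG : Subgroup.closure ({x, g, t, c} : Set G) = ⊤) : Good (p := p) ω 0 x g t c := by
  simp only [Sat, lFour, List.forall_mem_append, List.forall_mem_cons, List.not_mem_nil,
    IsEmpty.forall_iff, implies_true, and_true] at hs
  obtain ⟨⟨⟨hxx, hcomm, hm⟩, hbase⟩, h3, hA', hB', hC, hC'⟩ := hs
  have hint : IsIntegral (ZMod p) ((ω : F)⁻¹) := IsIntegral.of_finite _ _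
  have hcn := commute_all_of_two (h := g) (x := x)
    (by simpa [cnj, Commute, SemiconjBy] using hcomm)
    (cnj_two_mem (minpoly.monic hint) (minpoly.natDegree_pos hint) hdeg hm)
  have hr3 : (x * t) ^ 3 = 1 := by
    set r := x * t with hr
    have ht : t = x * r := by rw [hr, ← mul_assoc, hxx, one_mul]
    have e : x * r * x = r * r := by
      have e1 : x * r * x * r = r * r * r := by
        rw [mul_assoc (x * r) x r, ← ht, ← h3, pow_succ, pow_two]
      exact mul_right_cancel e1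
    have e2 : x * (r * r) * x = r := by
      rw [← e]
      simp only [← mul_assoc]
      rw [hxx, one_mul, mul_assoc, hxx, mul_one]
    have e3 : x * (r * r) * x = (r * r) * (r * r) := by
      calc x * (r * r) * x = (x * r * x) * (x * r * x) := by
            rw [show (x * r * x) * (x * r * x) = x * r * (x * x) * r * x by simp only [mul_assoc],
              hxx, mul_one]
            simp only [mul_assoc]
        _ = _ := by rw [e]
    have e4 : r * 1 = r * (r * r * r) := by
      rw [mul_one]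
      calc r = r * r * (r * r) := e2.symm.trans e3
        _ = _ := by simp only [mul_assoc]
    rw [pow_succ, pow_two]
    exact (mul_left_cancel e4).symm
  have hone : (-1 : F) = 1 := by linear_combination -h2
  obtain ⟨X, D, hword, hX1⟩ := exists_data (k := 0) hgen hcn (by rw [hp, pow_two]; exact hxx) hm
    hbase (by rw [pow_zero, hone]) (by rw [pow_zero, ← h3, hr3]) (Or.inl hr3) hG
  have hsq : ∀ i j u, root X t c i j u * root X t c i j u = 1 := fun i j u => by
    rw [D.root_add, show u + u = 0 by linear_combination u * h2, D.root_zero]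
  have hC1 : Data.PC X t c 1 1 := by
    rw [pC_iff hX1, hX1, X_neg_one D hX1]; exact hC
  have hA1 : Data.PA X t c 1 1 := by
    refine commute_of_invol (hsq 0 1 1) (hsq 1 2 1) (hsq 0 2 1) ?_
    have h := hC1
    unfold Data.PC at h
    rwa [one_mul] at h
  have hB1 : Data.PB X t c 1 1 := by
    have h := congrArg (MulAut.conj c) (congrArg (MulAut.conj c) hC1)
    simp only [map_mul, D.c_root, one_mul] at h
    refine commute_of_invol (hsq 0 1 1) (hsq 2 0 1) (hsq 2 1 1) ?_
    change root X t c 2 0 1 * root X t c 0 1 1 =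
      root X t c 2 1 1 * root X t c 0 1 1 * root X t c 2 0 1 at h
    have iw := inv_eq_of_mul_eq_one_right (hsq 2 1 1)
    calc root X t c 0 1 1 * root X t c 2 0 1
        = (root X t c 2 1 1)⁻¹ * (root X t c 2 0 1 * root X t c 0 1 1) := by
          rw [h]; simp [mul_assoc]
      _ = _ := by rw [iw, ← mul_assoc]
  refine ⟨X, D, hword, D.families_four hz h2 hw hA1 hB1 hC1 ?_ ?_ ?_⟩
  · rw [pA_iff hX1, ← hPn, hword]; exact hA'
  · rw [pB_iff hX1, ← hPn, hword]; exact hB'
  · have en : X (-(ω : F)) = wordP g x Pn := by rw [← hword, hPn]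
    have ep : X (ω : F) = wordP g x Pp := by rw [← hword, hPp]
    rw [pC_iff hX1, en, ep]; exact hC'

end Cfsg.Agent.H99.SLThree
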