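import Mathlib
import Cfsg.Prelude.Def_GeometricClasses

/-! Conjugacy of 2 × 2 matrices of determinant one over finite fields of odd order. -/

set_option autoImplicit false

namespace Cfsg.Agent.H99

open Matrix Polynomial
open scoped MatrixGroups

variable {F : Type*} [Field F]

theorem cayleyHamilton_two (x : Matrix (Fin 2) (Fin 2) F) :
    x * x = x.trace • x - x.det • (1 : Matrix (Fin 2) (Fin 2) F) := by
  ext i j
  fin_cases i <;> fin_cases j <;>
    simp [Matrix.mul_apply, Fin.sum_univ_two, Matrix.trace_fin_two, Matrix.det_fin_two] <;> ring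

theorem exists_det_one_conj_companion [Fintype F] (hodd : Fintype.card F % 2 = 1)
    (x : Matrix (Fin 2) (Fin 2) F) (hd : x.det = 1) (hD : x.trace ^ 2 - 4 ≠ 0) :
    ∃ P : Matrix (Fin 2) (Fin 2) F, P.det = 1 ∧ x * P = P * !![0, -1; 1, x.trace] := by
  have h2 : (2 : F) ≠ 0 :=
    Ring.two_ne_zero (fun h => by
      haveI : CharP F 2 := ringChar.of_eq h
      have := FiniteField.even_card_of_char_two h
      omega)
  have h4 : (4 : F) ≠ 0 := by
    rw [show (4 : F) = 2 * 2 by norm_num]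
    exact mul_ne_zero h2 h2
  rw [Matrix.trace_fin_two] at hD
  rw [Matrix.det_fin_two] at hd
  obtain ⟨v0, v1, hv⟩ : ∃ v0 v1 : F,
      x 1 0 * v0 ^ 2 + (x 1 1 - x 0 0) * (v0 * v1) - x 0 1 * v1 ^ 2 = 1 := by
    by_cases hc : x 1 0 = 0
    · have he : x 1 1 - x 0 0 ≠ 0 := by
        intro he
        apply hD
        rw [hc] at hd
        linear_combination 4 * hd + (x 1 1 - x 0 0) * he
      refine ⟨(1 + x 0 1) / (x 1 1 - x 0 0), 1, ?_⟩
      rw [hc]
      field_simp
      ring
    · set D : F := (x 0 0 + x 1 1) ^ 2 - 4 with hDdef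
      set f : F[X] := X ^ 2 - C (4 * x 1 0) with hf
      set g : F[X] := C (-D) * X ^ 2 with hg
      have hf2 : f.degree = 2 := by rw [hf]; exact degree_X_pow_sub_C (by norm_num) _
      have hg2 : g.degree = 2 := by rw [hg]; exact degree_C_mul_X_pow 2 (neg_ne_zero.2 hD)
      obtain ⟨X', Y', h⟩ := FiniteField.exists_root_sum_quadratic hf2 hg2 hodd
      simp only [hf, hg, eval_sub, eval_pow, eval_X, eval_C, eval_mul] at h
      refine ⟨(X' - (x 1 1 - x 0 0) * Y') / (2 * x 1 0), Y', ?_⟩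
      field_simp
      rw [hDdef] at h
      linear_combination h + 4 * Y' ^ 2 * hd
  refine ⟨!![v0, x 0 0 * v0 + x 0 1 * v1; v1, x 1 0 * v0 + x 1 1 * v1], ?_, ?_⟩
  · rw [Matrix.det_fin_two]
    simp
    linear_combination hv
  · ext i j
    fin_cases i <;> fin_cases j
    · simp [Matrix.mul_apply, Fin.sum_univ_two, Matrix.trace_fin_two]
    · simp [Matrix.mul_apply, Fin.sum_univ_two, Matrix.trace_fin_two]
      linear_combination v0 * (-1 : F) * hd
    · simp [Matrix.mul_apply, Fin.sum_univ_two, Matrix.trace_fin_two]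
    · simp [Matrix.mul_apply, Fin.sum_univ_two, Matrix.trace_fin_two]
      linear_combination v1 * (-1 : F) * hd

theorem mem_specialLinear_iff {n : ℕ} (g : GL (Fin n) F) :
    g ∈ Cfsg.Geo.specialLinear (Fin n) F ↔ (g : Matrix (Fin n) (Fin n) F).det = 1 := by
  rw [Cfsg.Geo.specialLinear, MonoidHom.mem_ker, ← Units.val_inj]
  simp

/-- In SL₂ over a field of odd order, elements with equal trace `t`, `t² ≠ 4`, are conjugate in SL₂. -/
theorem exists_specialLinear_conj [Fintype F] (hodd : Fintype.card F % 2 = 1) (x y : GL (Fin 2) F)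
    (hx : (x : Matrix (Fin 2) (Fin 2) F).det = 1) (hy : (y : Matrix (Fin 2) (Fin 2) F).det = 1)
    (ht : (x : Matrix (Fin 2) (Fin 2) F).trace = (y : Matrix (Fin 2) (Fin 2) F).trace)
    (hD : (x : Matrix (Fin 2) (Fin 2) F).trace ^ 2 - 4 ≠ 0) :
    ∃ g ∈ Cfsg.Geo.specialLinear (Fin 2) F, g⁻¹ * x * g = y := by
  obtain ⟨P, hP, hxP⟩ := exists_det_one_conj_companion hodd _ hx hD
  obtain ⟨Q, hQ, hyQ⟩ := exists_det_one_conj_companion hodd _ hy (ht ▸ hD)
  let P' : GL (Fin 2) F := Matrix.GeneralLinearGroup.mkOfDetNeZero P (by rw [hP]; exact one_ne_zero)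
  let Q' : GL (Fin 2) F := Matrix.GeneralLinearGroup.mkOfDetNeZero Q (by rw [hQ]; exact one_ne_zero)
  let C' : GL (Fin 2) F := P'⁻¹ * x * P'
  refine ⟨P' * Q'⁻¹, ?_, ?_⟩
  · exact mul_mem ((mem_specialLinear_iff P').2 hP) (inv_mem ((mem_specialLinear_iff Q').2 hQ))
  · have hC : y * Q' = Q' * C' := by
      apply Units.ext
      have h : ((C' : GL (Fin 2) F) : Matrix (Fin 2) (Fin 2) F) = !![0, -1; 1, (x : Matrix (Fin 2) (Fin 2) F).trace] := by
        show ((P'⁻¹ * x * P' : GL (Fin 2) F) : Matrix (Fin 2) (Fin 2) F) = _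
        rw [Units.val_mul, Units.val_mul, mul_assoc]
        show _ * ((x : Matrix (Fin 2) (Fin 2) F) * P) = _
        rw [hxP, ← mul_assoc]
        show ((P'⁻¹ : GL (Fin 2) F) : Matrix (Fin 2) (Fin 2) F) * (P' : Matrix (Fin 2) (Fin 2) F) * _ = _
        rw [← Units.val_mul, inv_mul_cancel, Units.val_one, one_mul]
      rw [Units.val_mul, Units.val_mul, h, ht]
      exact hyQ
    have : y = Q' * C' * Q'⁻¹ := by rw [← hC, mul_inv_cancel_right]
    rw [this]
    simp only [C', _root_.mul_inv_rev, inv_inv]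
    group

end Cfsg.Agent.H99
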