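import Mathlib

/-!
Short presentations of SL(2,q): the group theoretic core.
* `WordData.card_le`: a group generated by elements satisfying the rank one Bruhat relations has
  at most `q N (q+1)` elements;
* `commute_conj_pow`: the two-relation criterion for commutation of all conjugates;
* `exists_unipotent`: from a minimal polynomial relation to an additive map `F → G`;
* `exists_rels`: from words to a presentation.
-/

namespace Cfsg.Agent.H99.ShortPres

open Polynomial

section Bruhat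

variable {G : Type*} [Group G] {F : Type*} [Field F] [Fintype F]

/-- Bruhat data: unipotent map `X`, torus element `h`, Weyl element `t`. -/
structure WordData (X : F → G) (ζ : F) (h t : G) (k N : ℕ) : Prop where
  add : ∀ u v, X (u + v) = X u * X v
  pos : 0 < N
  powN : h ^ N = 1
  tt : t * t = h ^ k
  th : t * h = h⁻¹ * t
  hX : ∀ u, h * X u = X (ζ * u) * h
  tXt : ∀ u, u ≠ 0 → ∃ (c d : F) (l : ℕ), t * X u * t = X c * t * h ^ l * X d
  gen : Subgroup.closure ({X 1, h, t} : Set G) = ⊤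

namespace WordData

variable {X : F → G} {ζ : F} {h t : G} {k N : ℕ} (D : WordData X ζ h t k N)
include D

theorem X_zero : X 0 = 1 := by
  have h1 := D.add 0 0
  rw [add_zero] at h1
  exact left_eq_mul.mp h1

theorem pow_X (n : ℕ) (u : F) : h ^ n * X u = X (ζ ^ n * u) * h ^ n := by
  induction n generalizing u with
  | zero => simp
  | succ n ih =>
    rw [pow_succ, mul_assoc, D.hX, ← mul_assoc, ih, mul_assoc, ← mul_assoc (ζ ^ n), ← pow_succ]

theorem h_inv : h⁻¹ = h ^ (N - 1) := by
  refine inv_eq_of_mul_eq_one_right ?_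
  rw [← pow_succ', Nat.sub_add_cancel D.pos, D.powN]

theorem ht : h * t = t * h ^ (N - 1) := by
  rw [← D.h_inv, eq_mul_inv_iff_mul_eq, mul_assoc, D.th, mul_inv_cancel_left]

theorem X_mul_pow (u v : F) (n m : ℕ) :
    X u * h ^ n * (X v * h ^ m) = X (u + ζ ^ n * v) * h ^ (n + m) := by
  rw [D.add, pow_add, mul_assoc, ← mul_assoc (h ^ n), D.pow_X]
  simp only [mul_assoc]

omit D in
/-- The Borel part. -/
def InB (X : F → G) (h : G) (g : G) : Prop := ∃ (v : F) (n : ℕ), g = X v * h ^ n

omit D in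
/-- The two Bruhat cells. -/
def InS (X : F → G) (h t : G) (g : G) : Prop :=
  InB X h g ∨ ∃ (u : F) (b : G), InB X h b ∧ g = X u * t * b

omit D in
theorem inB_mk (v : F) (n : ℕ) : InB X h (X v * h ^ n) := ⟨v, n, rfl⟩

theorem inB_pow_mul {g : G} (hg : InB X h g) (l : ℕ) : InB X h (h ^ l * g) := by
  obtain ⟨v, n, rfl⟩ := hg
  exact ⟨ζ ^ l * v, l + n, by rw [← mul_assoc, D.pow_X, mul_assoc, ← pow_add]⟩

theorem inB_X_mul {g : G} (hg : InB X h g) (w : F) : InB X h (X w * g) := by
  obtain ⟨v, n, rfl⟩ := hg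
  exact ⟨w + v, n, by rw [← mul_assoc, ← D.add]⟩

theorem inS_one : InS X h t 1 := Or.inl ⟨0, 0, by rw [D.X_zero, pow_zero, one_mul]⟩

theorem inS_X_mul {g : G} (hg : InS X h t g) (w : F) : InS X h t (X w * g) := by
  rcases hg with hg | ⟨u, b, hb, rfl⟩
  · exact Or.inl (D.inB_X_mul hg w)
  · exact Or.inr ⟨w + u, b, hb, by rw [D.add]; simp only [mul_assoc]⟩

theorem inS_h_mul {g : G} (hg : InS X h t g) : InS X h t (h * g) := by
  rcases hg with hg | ⟨u, b, hb, rfl⟩
  · have h1 := D.inB_pow_mul hg 1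
    rw [pow_one] at h1
    exact Or.inl h1
  · refine Or.inr ⟨ζ * u, h ^ (N - 1) * b, D.inB_pow_mul hb _, ?_⟩
    rw [← mul_assoc, ← mul_assoc, D.hX, mul_assoc (X _), D.ht]
    simp only [mul_assoc]

theorem inS_hpow_mul {g : G} (hg : InS X h t g) (l : ℕ) : InS X h t (h ^ l * g) := by
  induction l with
  | zero => simpa using hg
  | succ l ih => rw [pow_succ', mul_assoc]; exact D.inS_h_mul ih

theorem inS_t_mul {g : G} (hg : InS X h t g) : InS X h t (t * g) := by
  rcases hg with hg | ⟨u, b, hb, rfl⟩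
  · exact Or.inr ⟨0, g, hg, by rw [D.X_zero, one_mul]⟩
  · by_cases hu : u = 0
    · subst hu
      rw [D.X_zero, one_mul, ← mul_assoc, D.tt]
      exact Or.inl (D.inB_pow_mul hb _)
    · obtain ⟨c, d, l, hl⟩ := D.tXt u hu
      refine Or.inr ⟨c, h ^ l * (X d * b), D.inB_pow_mul (D.inB_X_mul hb _) _, ?_⟩
      rw [← mul_assoc t, ← mul_assoc t, hl]
      simp only [mul_assoc]

theorem t_inv : t⁻¹ = t * h ^ ((N - 1) * k) := by
  refine inv_eq_of_mul_eq_one_right ?_
  rw [← mul_assoc, D.tt, ← pow_add,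
    show k + (N - 1) * k = N * k by
      have := Nat.le_mul_of_pos_left k D.pos
      rw [Nat.sub_mul, one_mul]; omega, pow_mul, D.powN, one_pow]

theorem X_inv (u : F) : (X u)⁻¹ = X (-u) := by
  refine inv_eq_of_mul_eq_one_right ?_
  rw [← D.add, add_neg_cancel, D.X_zero]

theorem inS_all (g : G) : InS X h t g := by
  have hg : g ∈ Subgroup.closure ({X 1, h, t} : Set G) := by rw [D.gen]; trivial
  induction hg using Subgroup.closure_induction_left with
  | one => exact D.inS_one
  | mul_left x hx y _ ih =>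
    rcases hx with rfl | rfl | rfl
    · exact D.inS_X_mul ih 1
    · exact D.inS_h_mul ih
    · exact D.inS_t_mul ih
  | inv_mul_cancel x hx y _ ih =>
    rcases hx with rfl | rfl | rfl
    · rw [D.X_inv]; exact D.inS_X_mul ih _
    · rw [D.h_inv]; exact D.inS_hpow_mul ih _
    · rw [D.t_inv, mul_assoc]; exact D.inS_t_mul (D.inS_hpow_mul ih _)

/-- Order bound from the Bruhat decomposition. -/
theorem card_le : Finite G ∧ Nat.card G ≤ Fintype.card F * N * (Fintype.card F + 1) := by
  let Φ : (F × Fin N) ⊕ (F × F × Fin N) → G :=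
    Sum.elim (fun a => X a.1 * h ^ (a.2 : ℕ))
      (fun a => X a.1 * t * (X a.2.1 * h ^ (a.2.2 : ℕ)))
  have hb : ∀ g, InB X h g → ∃ (v : F) (n : Fin N), g = X v * h ^ (n : ℕ) := by
    rintro g ⟨v, n, rfl⟩
    exact ⟨v, ⟨n % N, Nat.mod_lt _ D.pos⟩, by rw [pow_eq_pow_mod n D.powN]⟩
  have hsurj : Function.Surjective Φ := by
    intro g
    rcases D.inS_all g with hg | ⟨u, b, hbb, rfl⟩
    · obtain ⟨v, n, rfl⟩ := hb g hg
      exact ⟨Sum.inl (v, n), rfl⟩
    · obtain ⟨v, n, rfl⟩ := hb b hbb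
      exact ⟨Sum.inr (u, v, n), rfl⟩
  refine ⟨Finite.of_surjective Φ hsurj, (Nat.card_le_card_of_surjective Φ hsurj).trans (le_of_eq ?_)⟩
  simp only [Nat.card_eq_fintype_card, Fintype.card_sum, Fintype.card_prod, Fintype.card_fin]
  ring

end WordData

end Bruhat

section Commutation

variable {G : Type*} [Group G]

/-- Conjugate of `x` by the `n`-th power of `g`. -/
def cnj (g x : G) (n : ℕ) : G := g ^ n * x * (g ^ n)⁻¹

theorem cnj_eq (g x : G) (n : ℕ) : cnj g x n = MulAut.conj (g ^ n) x := rfl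

theorem cnj_zero (g x : G) : cnj g x 0 = x := by simp [cnj]

theorem cnj_add (g x : G) (m n : ℕ) :
    cnj g x (m + n) = MulAut.conj (g ^ m) (cnj g x n) := by
  simp [-map_pow, cnj, pow_add, mul_assoc]

theorem commute_cnj_shift {g x : G} {n : ℕ} (hc : Commute x (cnj g x n)) (m : ℕ) :
    Commute (cnj g x m) (cnj g x (m + n)) := by
  rw [cnj_add, cnj_eq g x m]
  exact hc.map (MulAut.conj (g ^ m))

/-- If `x` commutes with `x^a` and `x^b = x x^a` for commuting `a`, `b`, then `x` commutes with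
every conjugate of `x` by a power of `a`. -/
theorem commute_conj_pow {a b x : G} (hab : Commute a b) (h1 : Commute x (a * x * a⁻¹))
    (hb : b * x * b⁻¹ = x * (a * x * a⁻¹)) (n : ℕ) : Commute x (cnj a x n) := by
  induction n using Nat.strong_induction_on with
  | _ n ih =>
    match n with
    | 0 => rw [cnj_zero]
    | 1 => simpa [cnj] using h1
    | n + 2 =>
      have key : MulAut.conj b (cnj a x (n + 1)) = cnj a x (n + 1) * cnj a x (n + 2) := by
        have e : b * a ^ (n + 1) = a ^ (n + 1) * b := (hab.pow_left (n + 1)).symm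
        have e' : (a ^ (n + 1))⁻¹ * b⁻¹ = b⁻¹ * (a ^ (n + 1))⁻¹ := by
          rw [← mul_inv_rev, e, mul_inv_rev]
        calc MulAut.conj b (cnj a x (n + 1))
            = (b * a ^ (n + 1)) * x * ((a ^ (n + 1))⁻¹ * b⁻¹) := by
              simp [cnj, mul_assoc]
          _ = a ^ (n + 1) * (b * x * b⁻¹) * (a ^ (n + 1))⁻¹ := by
              rw [e, e']; simp [mul_assoc]
          _ = _ := by
              rw [hb]; simp [cnj, pow_succ, mul_assoc]
      have c0 : Commute (x * cnj a x 1) (cnj a x (n + 1) * cnj a x (n + 2)) := by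
        have h2 := (ih (n + 1) (by omega)).map (MulAut.conj b)
        rw [key] at h2
        have e : MulAut.conj b x = x * cnj a x 1 := by simp [cnj, hb]
        rwa [e] at h2
      have c1 : Commute (cnj a x 1) (cnj a x (n + 1)) := by
        have h2 := commute_cnj_shift (ih n (by omega)) 1
        rwa [add_comm 1 n] at h2
      have c2 : Commute (cnj a x 1) (cnj a x (n + 2)) := by
        have h2 := commute_cnj_shift (ih (n + 1) (by omega)) 1
        rwa [add_comm 1 (n + 1)] at h2
      have c3 : Commute x (cnj a x (n + 1)) := ih (n + 1) (by omega)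
      have e : cnj a x 1 * (cnj a x (n + 1) * cnj a x (n + 2))
          = cnj a x (n + 1) * cnj a x (n + 2) * cnj a x 1 := (c1.mul_right c2).eq
      have c4 : Commute x (cnj a x (n + 1) * cnj a x (n + 2)) := by
        have hmid : Commute (cnj a x 1)⁻¹ (cnj a x (n + 1) * cnj a x (n + 2)) :=
          (show Commute (cnj a x 1) _ from e).inv_left
        simpa [mul_assoc] using c0.mul_left hmid
      simpa using c3.inv_right.mul_right c4

/-- The subgroup generated by the conjugates of `x` under powers of `g`. -/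
def orbitClosure (g x : G) : Subgroup G :=
  Subgroup.closure (Set.range fun n : ℤ => g ^ n * x * (g ^ n)⁻¹)

theorem mem_orbitClosure (g x : G) (n : ℕ) : cnj g x n ∈ orbitClosure g x :=
  Subgroup.subset_closure ⟨n, by simp [cnj, zpow_natCast]⟩

theorem self_mem_orbitClosure (g x : G) : x ∈ orbitClosure g x :=
  Subgroup.subset_closure ⟨0, by simp⟩

theorem map_orbitClosure {g x : G} (n : ℤ) {y : G} (hy : y ∈ orbitClosure g x) :
    g ^ n * y * (g ^ n)⁻¹ ∈ orbitClosure g x := by
  have : orbitClosure g x ≤ (orbitClosure g x).comap (MulAut.conj (g ^ n)).toMonoidHom := by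
    refine (Subgroup.closure_le _).mpr ?_
    rintro _ ⟨m, rfl⟩
    exact Subgroup.subset_closure ⟨n + m, by simp [-map_zpow, zpow_add, mul_assoc]⟩
  exact this hy

theorem commute_zpow_conj {g x : G} (hc : ∀ n : ℕ, Commute x (cnj g x n)) (n m : ℤ) :
    Commute (g ^ n * x * (g ^ n)⁻¹) (g ^ m * x * (g ^ m)⁻¹) := by
  wlog hnm : n ≤ m generalizing n m
  · exact (this m n (le_of_not_ge hnm)).symm
  obtain ⟨d, rfl⟩ := Int.le.dest hnm
  have h2 := (hc d).map (MulAut.conj (g ^ n))
  simpa [-map_zpow, cnj, zpow_add, mul_assoc] using h2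

theorem orbitClosure_comm {g x : G} (hc : ∀ n : ℕ, Commute x (cnj g x n)) {y z : G}
    (hy : y ∈ orbitClosure g x) (hz : z ∈ orbitClosure g x) : Commute y z := by
  have h1 : ∀ w ∈ Set.range (fun n : ℤ => g ^ n * x * (g ^ n)⁻¹),
      orbitClosure g x ≤ Subgroup.centralizer {w} := by
    rintro w ⟨n, rfl⟩
    refine (Subgroup.closure_le _).mpr ?_
    rintro _ ⟨m, rfl⟩
    rw [SetLike.mem_coe, Subgroup.mem_centralizer_iff]
    intro s hs
    rw [Set.mem_singleton_iff.mp hs]
    exact (commute_zpow_conj hc n m).eq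
  have h2 : orbitClosure g x ≤ Subgroup.centralizer {z} := by
    refine (Subgroup.closure_le _).mpr fun w hw => ?_
    rw [SetLike.mem_coe, Subgroup.mem_centralizer_iff]
    intro s hs
    rw [Set.mem_singleton_iff.mp hs]
    exact ((Subgroup.mem_centralizer_iff.mp (h1 w hw hz)) w rfl).symm
  exact (Subgroup.mem_centralizer_iff.mp (h2 hy) z rfl).symm

/-- Commutation along `a = h ^ i` extends to `h` once `x^h` lies in the `a`-orbit group. -/
theorem commute_of_sub {h x : G} {i : ℕ} (hc : ∀ n : ℕ, Commute x (cnj (h ^ i) x n))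
    (hx : h * x * h⁻¹ ∈ orbitClosure (h ^ i) x) (n : ℕ) : Commute x (cnj h x n) := by
  have key : orbitClosure (h ^ i) x ≤ (orbitClosure (h ^ i) x).comap (MulAut.conj h).toMonoidHom := by
    refine (Subgroup.closure_le _).mpr ?_
    rintro _ ⟨m, rfl⟩
    have e : MulAut.conj h ((h ^ i) ^ m * x * ((h ^ i) ^ m)⁻¹)
        = (h ^ i) ^ m * (h * x * h⁻¹) * ((h ^ i) ^ m)⁻¹ := by
      have hh : Commute h ((h ^ i) ^ m) := (Commute.self_pow h i).zpow_right m
      have hh' : ((h ^ i) ^ m)⁻¹ * h⁻¹ = h⁻¹ * ((h ^ i) ^ m)⁻¹ := by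
        rw [← mul_inv_rev, hh.eq, mul_inv_rev]
      simp only [MulAut.conj_apply]
      rw [← mul_assoc, ← mul_assoc, hh.eq]
      simp only [mul_assoc, hh']
    show MulAut.conj h _ ∈ orbitClosure (h ^ i) x
    rw [e]
    exact map_orbitClosure m hx
  refine orbitClosure_comm hc (self_mem_orbitClosure _ _) ?_
  induction n with
  | zero => rw [cnj_zero]; exact self_mem_orbitClosure _ _
  | succ n ih =>
    have : cnj h x (n + 1) = MulAut.conj h (cnj h x n) := by
      simp [cnj, pow_succ', mul_assoc]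
    rw [this]
    exact key ih

end Commutation

section Word

variable {G : Type*} [Group G] {p : ℕ}

/-- The word `∏ (hⁿ x h⁻ⁿ)^(cₙ)` attached to a polynomial. -/
noncomputable def wordP (h x : G) (P : (ZMod p)[X]) : G :=
  ((List.range (P.natDegree + 1)).map fun n => cnj h x n ^ (P.coeff n).val).prod

theorem map_cnj {H : Type*} [Group H] (f : G →* H) (g x : G) (n : ℕ) :
    f (cnj g x n) = cnj (f g) (f x) n := by simp [cnj]

theorem map_wordP {H : Type*} [Group H] (f : G →* H) (h x : G) (P : (ZMod p)[X]) :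
    f (wordP h x P) = wordP (f h) (f x) P := by
  simp only [wordP, map_list_prod, List.map_map]
  congr 1
  refine List.map_congr_left fun n _ => ?_
  simp [map_cnj]

theorem wordP_mem (h x : G) (P : (ZMod p)[X]) : wordP h x P ∈ orbitClosure h x := by
  refine Subgroup.list_prod_mem _ fun y hy => ?_
  obtain ⟨n, -, rfl⟩ := List.mem_map.mp hy
  exact Subgroup.pow_mem _ (mem_orbitClosure h x n) _

variable {F : Type*} [Field F] [Algebra (ZMod p) F]

theorem wordP_eq [NeZero p] {h x : G} {Y : Multiplicative F →* G} {ζ : F}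
    (hY : ∀ n : ℕ, cnj h x n = Y (Multiplicative.ofAdd (ζ ^ n))) (P : (ZMod p)[X]) :
    wordP h x P = Y (Multiplicative.ofAdd (aeval ζ P)) := by
  rw [aeval_eq_sum_range, ofAdd_sum]
  rw [show (∏ i ∈ Finset.range (P.natDegree + 1), Multiplicative.ofAdd (P.coeff i • ζ ^ i))
    = ((List.range (P.natDegree + 1)).map
      fun i => Multiplicative.ofAdd (P.coeff i • ζ ^ i)).prod from rfl, map_list_prod, wordP,
    List.map_map]
  congr 1
  refine List.map_congr_left fun n _ => ?_
  rw [Function.comp_apply, hY, ← map_pow, ← ofAdd_nsmul]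
  congr 2
  rw [← Nat.cast_smul_eq_nsmul (ZMod p), ZMod.natCast_zmod_val]

/-- Cyclic module over `F = 𝔽_p[ζ]`: the additive statement. -/
theorem exists_addHom [Fact p.Prime] [Finite F] {A : Type*} [AddCommGroup A] [Module (ZMod p) A]
    (f : A →+ A) (x₀ : A) {ζ : F}
    (hm : ∑ i ∈ Finset.range ((minpoly (ZMod p) ζ).natDegree + 1),
      ((minpoly (ZMod p) ζ).coeff i).val • f^[i] x₀ = 0)
    (hgen : ∀ u : F, ∃ P : (ZMod p)[X], aeval ζ P = u) :
    ∃ Y : F →+ A, (∀ u, f (Y u) = Y (ζ * u)) ∧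
      ∀ P : (ZMod p)[X], Y (aeval ζ P)
        = ∑ i ∈ Finset.range (P.natDegree + 1), (P.coeff i).val • f^[i] x₀ := by
  let φ : Module.End (ZMod p) A := f.toZModLinearMap p
  have hE : ∀ P : (ZMod p)[X], aeval φ P x₀
      = ∑ i ∈ Finset.range (P.natDegree + 1), (P.coeff i).val • f^[i] x₀ := by
    intro P
    rw [aeval_eq_sum_range, LinearMap.sum_apply]
    refine Finset.sum_congr rfl fun i _ => ?_
    rw [LinearMap.smul_apply, Module.End.pow_apply, ← Nat.cast_smul_eq_nsmul (ZMod p),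
      ZMod.natCast_zmod_val]
    rfl
  have hwd : ∀ P Q : (ZMod p)[X], aeval ζ P = aeval ζ Q → aeval φ P x₀ = aeval φ Q x₀ := by
    intro P Q e
    have h1 : aeval ζ (P - Q) = 0 := by rw [map_sub, e, sub_self]
    obtain ⟨R, hR⟩ := minpoly.dvd (ZMod p) ζ h1
    have h3 : aeval φ (P - Q) x₀ = 0 := by
      rw [hR, mul_comm, map_mul, Module.End.mul_apply, (hE _).trans hm, map_zero]
    rw [map_sub, LinearMap.sub_apply, sub_eq_zero] at h3
    exact h3
  choose Q hQ using hgen
  refine ⟨AddMonoidHom.mk' (fun u => aeval φ (Q u) x₀) (fun u v => ?_), fun u => ?_, fun P => ?_⟩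
  · rw [← LinearMap.add_apply, ← map_add]
    exact hwd _ _ (by simp only [map_add, hQ])
  · have e : f (aeval φ (Q u) x₀) = aeval φ (Polynomial.X * Q u) x₀ := by
      rw [map_mul, aeval_X]
      rfl
    show f (aeval φ (Q u) x₀) = aeval φ (Q (ζ * u)) x₀
    rw [e]
    exact hwd _ _ (by simp only [map_mul, aeval_X, hQ])
  · rw [AddMonoidHom.mk'_apply, ← hE]
    exact hwd _ _ (hQ _)

open scoped IsMulCommutative

/-- From commutation, exponent `p` and the minimal polynomial relation, get an additive map. -/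
theorem exists_unipotent [Fact p.Prime] [Finite F] {h x : G}
    (hc : ∀ n : ℕ, Commute x (cnj h x n)) (hxp : x ^ p = 1) {ζ : F}
    (hm : wordP h x (minpoly (ZMod p) ζ) = 1)
    (hgen : ∀ u : F, ∃ P : (ZMod p)[X], aeval ζ P = u) :
    ∃ X : F → G, (∀ u v, X (u + v) = X u * X v) ∧ (∀ u, h * X u = X (ζ * u) * h) ∧
      (∀ P : (ZMod p)[X], X (aeval ζ P) = wordP h x P) ∧ X 1 = x := by
  haveI hA : IsMulCommutative (orbitClosure h x) :=
    ⟨⟨fun y z => Subtype.ext (orbitClosure_comm hc y.2 z.2).eq⟩⟩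
  have hpow : ∀ y ∈ orbitClosure h x, y ^ p = 1 := by
    intro y hy
    induction hy using Subgroup.closure_induction with
    | mem y hy =>
      obtain ⟨n, rfl⟩ := hy
      rw [conj_pow, hxp, mul_one, mul_inv_cancel]
    | one => exact one_pow p
    | mul y z hy hz e1 e2 =>
      rw [(orbitClosure_comm hc hy hz).mul_pow, e1, e2, one_mul]
    | inv y hy e => rw [inv_pow, e, inv_one]
  let : Module (ZMod p) (Additive (orbitClosure h x)) :=
    AddCommGroup.zmodModule fun a => by
      apply Additive.toMul.injective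
      rw [toMul_nsmul]
      exact Subtype.ext (hpow _ (Additive.toMul a).2)
  let φA : orbitClosure h x →* orbitClosure h x :=
    ((MulAut.conj h).toMonoidHom.comp (orbitClosure h x).subtype).codRestrict _ fun y => by
      have h1 := map_orbitClosure (g := h) (x := x) 1 y.2
      rwa [zpow_one] at h1
  let x₀ : Additive (orbitClosure h x) :=
    Additive.ofMul ⟨x, self_mem_orbitClosure h x⟩
  have hφn : ∀ n : ℕ,
      ((Additive.toMul ((φA.toAdditive)^[n] x₀) : orbitClosure h x) : G) = cnj h x n := by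
    intro n
    induction n with
    | zero => simp [cnj, x₀]
    | succ n ih =>
      rw [Function.iterate_succ_apply']
      show h * ((Additive.toMul ((φA.toAdditive)^[n] x₀) : orbitClosure h x) : G) * h⁻¹ = _
      rw [ih]
      simp [cnj, pow_succ', mul_assoc]
  have hE : ∀ P : (ZMod p)[X],
      ((Additive.toMul (∑ i ∈ Finset.range (P.natDegree + 1),
        (P.coeff i).val • (φA.toAdditive)^[i] x₀) : orbitClosure h x) : G) = wordP h x P := by
    intro P
    rw [toMul_sum, show ∏ i ∈ Finset.range (P.natDegree + 1),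
        Additive.toMul ((P.coeff i).val • (φA.toAdditive)^[i] x₀)
      = ((List.range (P.natDegree + 1)).map
        fun i => Additive.toMul ((P.coeff i).val • (φA.toAdditive)^[i] x₀)).prod from rfl,
      ← (orbitClosure h x).subtype_apply, map_list_prod, List.map_map, wordP]
    congr 1
    refine List.map_congr_left fun n _ => ?_
    rw [Function.comp_apply, toMul_nsmul, map_pow, Subgroup.subtype_apply, hφn]
  obtain ⟨Y, hY1, hY2⟩ := exists_addHom (p := p) (φA.toAdditive) x₀ (ζ := ζ) (by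
    apply Additive.toMul.injective
    exact Subtype.ext ((hE _).trans hm)) hgen
  have hX : ∀ P : (ZMod p)[X],
      ((Additive.toMul (Y (aeval ζ P)) : orbitClosure h x) : G) = wordP h x P := fun P => by
    rw [hY2, hE]
  refine ⟨fun u => ((Additive.toMul (Y u) : orbitClosure h x) : G), fun u v => ?_, fun u => ?_,
    hX, ?_⟩
  · simp only [map_add, toMul_add, Subgroup.coe_mul]
  · simp only [← hY1]
    show h * _ = h * _ * h⁻¹ * h
    rw [inv_mul_cancel_right]
    rfl
  · have h1 := hX 1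
    rw [map_one] at h1
    simp only [h1]
    simp [wordP, cnj, ZMod.val_one]

/-- The relation `x^b = x x^a` spreads over the orbit group. -/
theorem conj_eq_mul {h x : G} {i j : ℕ} (hc : ∀ n : ℕ, Commute x (cnj h x n))
    (hb : h ^ j * x * (h ^ j)⁻¹ = x * (h ^ i * x * (h ^ i)⁻¹)) :
    ∀ y ∈ orbitClosure h x, h ^ j * y * (h ^ j)⁻¹ = y * (h ^ i * y * (h ^ i)⁻¹) := by
  intro y hy
  induction hy using Subgroup.closure_induction with
  | mem y hy =>
    obtain ⟨n, rfl⟩ := hy
    have h2 := congrArg (MulAut.conj (h ^ n)) hb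
    have ej : h ^ n * h ^ j = h ^ j * h ^ n := ((Commute.self_pow h j).zpow_left n).eq
    have ei : h ^ n * h ^ i = h ^ i * h ^ n := ((Commute.self_pow h i).zpow_left n).eq
    have ej' : (h ^ j)⁻¹ * (h ^ n)⁻¹ = (h ^ n)⁻¹ * (h ^ j)⁻¹ := by
      rw [← mul_inv_rev, ej, mul_inv_rev]
    have ei' : (h ^ i)⁻¹ * (h ^ n)⁻¹ = (h ^ n)⁻¹ * (h ^ i)⁻¹ := by
      rw [← mul_inv_rev, ei, mul_inv_rev]
    calc h ^ j * (h ^ n * x * (h ^ n)⁻¹) * (h ^ j)⁻¹
        = (h ^ n * h ^ j) * x * ((h ^ j)⁻¹ * (h ^ n)⁻¹) := by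
          rw [ej, ej']; simp [mul_assoc]
      _ = MulAut.conj (h ^ n) (h ^ j * x * (h ^ j)⁻¹) := by simp [-map_zpow, mul_assoc]
      _ = MulAut.conj (h ^ n) x * MulAut.conj (h ^ n) (h ^ i * x * (h ^ i)⁻¹) := by
          rw [hb, map_mul]
      _ = (h ^ n * x * (h ^ n)⁻¹) * ((h ^ n * h ^ i) * x * ((h ^ i)⁻¹ * (h ^ n)⁻¹)) := by
          simp [-map_zpow, mul_assoc]
      _ = _ := by rw [ei, ei']; simp [mul_assoc]
  | one => simp
  | mul y z hy hz e1 e2 =>
    have hy' : h ^ i * y * (h ^ i)⁻¹ ∈ orbitClosure h x := by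
      have h3 := map_orbitClosure (g := h) (x := x) (i : ℤ) hy
      rwa [zpow_natCast] at h3
    have c := orbitClosure_comm hc hy' hz
    calc h ^ j * (y * z) * (h ^ j)⁻¹
        = (h ^ j * y * (h ^ j)⁻¹) * (h ^ j * z * (h ^ j)⁻¹) := by simp [mul_assoc]
      _ = (y * (h ^ i * y * (h ^ i)⁻¹)) * (z * (h ^ i * z * (h ^ i)⁻¹)) := by rw [e1, e2]
      _ = y * ((h ^ i * y * (h ^ i)⁻¹) * z) * (h ^ i * z * (h ^ i)⁻¹) := by simp [mul_assoc]
      _ = _ := by rw [c.eq]; simp [mul_assoc]
  | inv y hy e =>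
    have hy' : h ^ i * y * (h ^ i)⁻¹ ∈ orbitClosure h x := by
      have h3 := map_orbitClosure (g := h) (x := x) (i : ℤ) hy
      rwa [zpow_natCast] at h3
    calc h ^ j * y⁻¹ * (h ^ j)⁻¹ = (h ^ j * y * (h ^ j)⁻¹)⁻¹ := by simp [mul_assoc]
      _ = (y * (h ^ i * y * (h ^ i)⁻¹))⁻¹ := by rw [e]
      _ = y⁻¹ * (h ^ i * y * (h ^ i)⁻¹)⁻¹ := by
        rw [(orbitClosure_comm hc hy hy').eq, mul_inv_rev]
      _ = _ := by simp [mul_assoc]

/-- A fixed point of `h` in the orbit group is trivial when `x^b = x x^a` with `a, b ∈ ⟨h⟩`. -/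
theorem eq_one_of_fixed {h x v : G} {i j : ℕ} (hc : ∀ n : ℕ, Commute x (cnj h x n))
    (hb : h ^ j * x * (h ^ j)⁻¹ = x * (h ^ i * x * (h ^ i)⁻¹))
    (hv : v ∈ orbitClosure h x) (hfix : Commute h v) : v = 1 := by
  have h1 := conj_eq_mul hc hb v hv
  rw [(hfix.pow_left j).eq, mul_inv_cancel_right, (hfix.pow_left i).eq,
    mul_inv_cancel_right] at h1
  exact left_eq_mul.mp h1

end Word

section Iso

/-- From a list of relation pairs to a presentation. -/
theorem exists_rels {T : Type*} [Group T] [Finite T] {n : ℕ}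
    (l : List (FreeGroup (Fin 3) × FreeGroup (Fin 3))) (hl : l.length ≤ n) (f : Fin 3 → T)
    (hgen : Subgroup.closure (Set.range f) = ⊤)
    (hsat : ∀ r ∈ l, FreeGroup.lift f r.1 = FreeGroup.lift f r.2)
    (hbound : ∀ (G : Type) [Group G] (π : FreeGroup (Fin 3) →* G), Function.Surjective π →
      (∀ r ∈ l, π r.1 = π r.2) → Finite G ∧ Nat.card G ≤ Nat.card T) :
    ∃ rels : Finset (FreeGroup (Fin 3)), rels.card ≤ n ∧
      Nonempty (PresentedGroup (↑rels : Set (FreeGroup (Fin 3))) ≃* T) := by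
  classical
  refine ⟨(l.map fun r => r.1 * r.2⁻¹).toFinset,
    (List.toFinset_card_le _).trans (by rw [List.length_map]; exact hl), ?_⟩
  set R : Set (FreeGroup (Fin 3)) := ↑((l.map fun r => r.1 * r.2⁻¹).toFinset) with hR
  have hmem : ∀ r, r ∈ R ↔ ∃ a ∈ l, a.1 * a.2⁻¹ = r := by
    intro r
    simp [hR]
  have hrel : ∀ r ∈ R, FreeGroup.lift f r = 1 := by
    intro r hr
    obtain ⟨a, ha, rfl⟩ := (hmem r).mp hr
    rw [map_mul, map_inv, hsat a ha, mul_inv_cancel]
  obtain ⟨hfin, hcard⟩ := hbound (PresentedGroup R) (PresentedGroup.mk R)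
    (PresentedGroup.mk_surjective R) (fun a ha => PresentedGroup.mk_eq_mk_of_mul_inv_mem
      ((hmem _).mpr ⟨a, ha, rfl⟩))
  let θ := PresentedGroup.toGroup hrel
  have hsurj : Function.Surjective θ := by
    rw [← MonoidHom.range_eq_top, eq_top_iff, ← hgen, Subgroup.closure_le]
    rintro _ ⟨i, rfl⟩
    exact ⟨PresentedGroup.of i, PresentedGroup.toGroup.of hrel⟩
  exact ⟨MulEquiv.ofBijective θ (hsurj.bijective_of_nat_card_le hcard)⟩

end Iso

end Cfsg.Agent.H99.ShortPres
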