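import Mathlib
import Cfsg.Prelude.Def_GeometricClasses
import Cfsg.Agent.Symplectic.Alt

/-! Similitudes of an alternating form built from 2 × 2 blocks. -/

set_option autoImplicit false

namespace Cfsg.Agent.H99

open scoped Matrix
open Cfsg.Geo

variable {F : Type*} [Field F] {n : ℕ}

/-- Block diagonal matrix on pairs. -/
def pairBlock {m : ℕ} (e : Fin 2 × Fin m ≃ Fin n) (M : Fin m → Matrix (Fin 2) (Fin 2) F) : Matrix (Fin n) (Fin n) F :=
  Matrix.reindex e e (Matrix.blockDiagonal M)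

theorem pairBlock_mulVec {m : ℕ} (e : Fin 2 × Fin m ≃ Fin n) (M : Fin m → Matrix (Fin 2) (Fin 2) F) (u : Fin n → F)
    (a : Fin 2) (i : Fin m) :
    (pairBlock e M *ᵥ u) (e (a, i)) = M i a 0 * u (e (0, i)) + M i a 1 * u (e (1, i)) := by
  simp only [pairBlock, Matrix.mulVec, dotProduct]
  rw [← e.sum_comp]
  simp [Fintype.sum_prod_type, Matrix.blockDiagonal_apply, Fin.sum_univ_two, ite_mul]

/-- A symplectic form has a basis in which block diagonal matrices with blocks of equal determinant are similitudes. -/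
theorem exists_similitude_pairs (f : (Fin n → F) → (Fin n → F) → F) (hf : IsSymplecticForm f) :
    ∃ (m : ℕ) (e : Fin 2 × Fin m ≃ Fin n) (P : Matrix (Fin n) (Fin n) F), IsUnit P.det ∧
      ∀ (M : Fin m → Matrix (Fin 2) (Fin 2) F) (lam : F), (∀ i, (M i).det = lam) →
        ∀ u v, f ((P * pairBlock e M * P⁻¹) *ᵥ u) ((P * pairBlock e M * P⁻¹) *ᵥ v) = lam * f u v := by
  classical
  let B : LinearMap.BilinForm F (Fin n → F) :=
    LinearMap.mk₂ F f hf.bilinear.add_left hf.bilinear.smul_left hf.bilinear.add_right hf.bilinear.smul_right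
  have hB : ∀ u v, B u v = f u v := fun u v => rfl
  obtain ⟨m, k, b, hhyp, hrad⟩ := Cfsg.Agent.Symplectic.exists_hyp_basis B hf.alternating
  have hk : IsEmpty (Fin k) := ⟨fun j => by
    obtain ⟨-, x, hx⟩ := hf.nondegenerate (b (Sum.inr j)) (b.ne_zero _)
    exact hx (hrad j x)⟩
  let g : Fin 2 × Fin m ≃ (Fin m ⊕ Fin m) ⊕ Fin k :=
    ((finTwoEquiv.prodCongr (Equiv.refl _)).trans (Equiv.boolProdEquivSum _)).trans (Equiv.sumEmpty _ _).symm
  have hg0 : ∀ i, g (0, i) = Sum.inl (Sum.inl i) := fun i => rfl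
  have hg1 : ∀ i, g (1, i) = Sum.inl (Sum.inr i) := fun i => rfl
  let e : Fin 2 × Fin m ≃ Fin n := g.trans (b.indexEquiv (Pi.basisFun F (Fin n)))
  let b' : Module.Basis (Fin n) F (Fin n → F) := b.reindex (b.indexEquiv (Pi.basisFun F (Fin n)))
  have hb' : ∀ r, b' (e r) = b (g r) := fun r => by simp [b', e]
  let P : Matrix (Fin n) (Fin n) F := (Pi.basisFun F (Fin n)).toMatrix b'
  have hP : IsUnit P.det := (Pi.basisFun F (Fin n)).is_basis_iff_det.1 ⟨b'.linearIndependent, b'.span_eq⟩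
  have hPu : ∀ u, P *ᵥ u = ∑ r, u (e r) • b (g r) := by
    intro u
    simp only [← hb']
    rw [e.sum_comp (fun s => u s • b' s)]
    funext r
    simp [P, Matrix.mulVec, dotProduct, Module.Basis.toMatrix_apply, mul_comm]
  obtain ⟨hef, hee, hff⟩ := hhyp
  have hfe : ∀ i j, B (b (Sum.inl (Sum.inr i))) (b (Sum.inl (Sum.inl j))) = if i = j then (-1 : F) else 0 := by
    intro i j
    rw [hB, hf.skew, ← hB, hef]
    split_ifs with h1 h2 h2 <;> simp_all
  have hform : ∀ u v, f (P *ᵥ u) (P *ᵥ v) = ∑ i, (u (e (0, i)) * v (e (1, i)) - u (e (1, i)) * v (e (0, i))) := by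
    intro u v
    rw [← hB, hPu, hPu]
    simp only [map_sum, LinearMap.coe_sum, Finset.sum_apply, map_smul, LinearMap.smul_apply, smul_eq_mul,
      Fintype.sum_prod_type, Fin.sum_univ_two, hg0, hg1, LinearMap.add_apply, map_add, hef, hee, hff, hfe]
    simp [Finset.sum_add_distrib, Finset.mul_sum, mul_comm, sub_eq_add_neg]
    ring
  refine ⟨m, e, P, hP, fun M lam hM u v => ?_⟩
  have hu : ∀ w, w = P *ᵥ (P⁻¹ *ᵥ w) := fun w => by rw [Matrix.mulVec_mulVec, Matrix.mul_nonsing_inv _ hP, Matrix.one_mulVec]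
  simp only [← Matrix.mulVec_mulVec]
  nth_rewrite 2 [hu u, hu v]
  rw [hform, hform, Finset.mul_sum]
  refine Finset.sum_congr rfl fun i _ => ?_
  rw [pairBlock_mulVec, pairBlock_mulVec, pairBlock_mulVec, pairBlock_mulVec, ← hM i, Matrix.det_fin_two]
  ring

end Cfsg.Agent.H99
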