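import Mathlib
import Cfsg.Agent.H99.Cyclic
import Cfsg.Agent.S5969

/-! Elements of prime order and normalizers of Singer subgroups. -/

set_option autoImplicit false

namespace Cfsg.Agent.H99

open scoped MatrixGroups Matrix
open Polynomial Cfsg.Geo

variable {F : Type*} [Field F] {n : ℕ}

theorem not_conj_of_eigen (hn : n.Prime) {K : Subalgebra F (Matrix (Fin n) (Fin n) F)}
    (hK : IsFieldSubalgebra n K) (x : Matrix.SpecialLinearGroup (Fin n) F) (c : F) {D : ℕ}
    (hD : Module.finrank F (LinearMap.ker (Matrix.toLin' (x : Matrix (Fin n) (Fin n) F) - c • LinearMap.id)) = D)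
    (hD2 : 2 ≤ D) (hDn : ¬ n ∣ D) (P : Matrix.SpecialLinearGroup (Fin n) F) :
    P⁻¹ * x * P ∉ ((subalgebraNormalizer K).comap (Matrix.SpecialLinearGroup.toGL : Matrix.SpecialLinearGroup (Fin n) F →* GL (Fin n) F)) := by
  intro h
  haveI : Nonempty (Fin n) := ⟨⟨0, hn.pos⟩⟩
  have h1 := finrank_eigenspace_of_mem_normalizer hn hK h c
  have h2 : Module.finrank F (LinearMap.ker (Matrix.toLin' ((Matrix.SpecialLinearGroup.toGL (P⁻¹ * x * P) : GL (Fin n) F) : Matrix (Fin n) (Fin n) F) - c • LinearMap.id)) = D :=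
    (S5969.finrank_ker_conj x P c).trans hD
  rw [h2, Fintype.card_fin] at h1
  rcases h1 with h1 | h1
  · exact hDn h1
  · have h3 : n * 2 ≤ n * D := Nat.mul_le_mul_left n hD2
    have := hn.pos
    omega

/-- An element of order `n` in the normalizer inducing the Frobenius automorphism, with a cyclic vector. -/
theorem exists_frobenius_elt [Fintype F] (hn : n.Prime) {K : Subalgebra F (Matrix (Fin n) (Fin n) F)}
    (hK : IsFieldSubalgebra n K) :
    ∃ (g : GL (Fin n) F) (v : Fin n → F), g ^ n = 1 ∧ g ≠ 1 ∧ IsCyclicVec (g : Matrix (Fin n) (Fin n) F) v ∧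
      ∀ k ∈ K, ∃ k' ∈ K, (g : Matrix (Fin n) (Fin n) F) * k = k' * (g : Matrix (Fin n) (Fin n) F) := by
  haveI : Nonempty (Fin n) := ⟨⟨0, hn.pos⟩⟩
  letI := (isField_subalgebra hK).toField
  haveI : FiniteDimensional F K := FiniteDimensional.of_finrank_pos (by rw [hK.finrank_eq]; exact hn.pos)
  haveI : Finite K := Finite.of_injective _ Subtype.val_injective
  set α := FiniteField.frobeniusAlgEquivOfAlgebraic F K with hα
  have hord : orderOf α = n := by rw [FiniteField.orderOf_frobeniusAlgEquivOfAlgebraic, hK.finrank_eq]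
  obtain ⟨g, hg, hgpow, v₀, hv₀, hfix⟩ := exists_semilinear K.val α
  obtain ⟨v, hv⟩ := exists_cyclicVec_semilinear hK.finrank_eq K.val hg hv₀ hfix
  have hαn : α ^ n = 1 := by have h2 := pow_orderOf_eq_one α; rwa [hord] at h2
  refine ⟨g, v, hgpow n hαn, ?_, hv, fun k hk => ⟨_, (α ⟨k, hk⟩).2, hg ⟨k, hk⟩⟩⟩
  intro h1
  have hall : α = 1 := AlgEquiv.ext fun k => Subtype.val_injective (by
    have h2 := hg k
    rw [h1, Units.val_one, one_mul, mul_one] at h2
    exact h2.symm)
  rw [hall, orderOf_one] at hord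
  exact hn.ne_one hord.symm

/-- When `q` generates the units modulo `n`, every element of order `n` is conjugate into the normalizer. -/
theorem exists_conj_of_orderOf [Fintype F] (p : ℕ) [Fact p.Prime] [CharP F p] (hn : n.Prime) (hn3 : 3 ≤ n) (hnp : n ≠ p)
    (hord : orderOf ((Fintype.card F : ℕ) : ZMod n) = n - 1)
    {K : Subalgebra F (Matrix (Fin n) (Fin n) F)} (hK : IsFieldSubalgebra n K)
    (x : Matrix.SpecialLinearGroup (Fin n) F)
    (hx : ∃ z : F, ((x ^ n : Matrix.SpecialLinearGroup (Fin n) F) : Matrix (Fin n) (Fin n) F) = z • (1 : Matrix (Fin n) (Fin n) F))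
    (hxs : ∀ z : F, (x : Matrix (Fin n) (Fin n) F) ≠ z • (1 : Matrix (Fin n) (Fin n) F)) :
    ∃ P : Matrix.SpecialLinearGroup (Fin n) F,
      P⁻¹ * x * P ∈ ((subalgebraNormalizer K).comap (Matrix.SpecialLinearGroup.toGL : Matrix.SpecialLinearGroup (Fin n) F →* GL (Fin n) F)) := by
  haveI : NeZero n := ⟨hn.ne_zero⟩
  have hnF : (n : F) ≠ 0 := fun h => hnp ((Nat.prime_dvd_prime_iff_eq Fact.out hn).1 ((CharP.cast_eq_zero_iff F p n).1 h)).symm
  obtain ⟨z, hz⟩ := hx
  have hq1 : 1 < Fintype.card F := Fintype.one_lt_card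
  have hzn : z ^ n = 1 := by
    have h1 := congrArg Matrix.det hz
    rw [(x ^ n).det_coe, Matrix.det_smul, Matrix.det_one, mul_one, Fintype.card_fin] at h1
    exact h1.symm
  have hco : n.Coprime (Fintype.card F - 1) := by
    refine hn.coprime_iff_not_dvd.2 fun h => ?_
    have h1 : ((Fintype.card F - 1 : ℕ) : ZMod n) = 0 := (ZMod.natCast_eq_zero_iff _ _).2 h
    rw [Nat.cast_sub (by omega), Nat.cast_one, sub_eq_zero] at h1
    rw [h1, orderOf_one] at hord
    omega
  have hz1 : z = 1 := by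
    have hz0 : z ≠ 0 := fun h0 => by simp [h0, hn.ne_zero] at hzn
    have h2 := (pow_gcd_eq_one (a := z) (m := n) (n := Fintype.card F - 1)).2 ⟨hzn, FiniteField.pow_card_sub_one_eq_one z hz0⟩
    rw [hco, pow_one] at h2
    exact h2
  rw [hz1, one_smul, Matrix.SpecialLinearGroup.coe_pow] at hz
  have hx1 : (x : Matrix (Fin n) (Fin n) F) ≠ 1 := fun h => hxs 1 (by rw [h, one_smul])
  obtain ⟨v, hv⟩ := exists_cyclicVec_of_irreducible hn hn3 hnF (irreducible_cyclotomic_of_orderOf p hn hnp hord) hz hx1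
  obtain ⟨g, w, hgn, -, hw, hgK⟩ := exists_frobenius_elt hn hK
  obtain ⟨P, hP⟩ := exists_conj_of_cyclic hnF hz
    (show (g : Matrix (Fin n) (Fin n) F) ^ n = 1 by rw [← Units.val_pow_eq_pow_val, hgn, Units.val_one]) hv hw
  exact ⟨P, S5969.conj_mem x P _ hP hgK⟩

end Cfsg.Agent.H99
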