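import Mathlib

/-! Normal forms of endomorphisms with scalar square, and invariant partitions of their bases. -/

set_option autoImplicit false

namespace Cfsg.Agent.H99

/-- Index type for `k` swapped pairs and `l` fixed points. -/
abbrev PairIdx (k l : ℕ) : Type := (Fin k × Bool) ⊕ Fin l

/-- The involution of `PairIdx k l`. -/
def pairFlip {k l : ℕ} : PairIdx k l → PairIdx k l := Sum.map (fun x => (x.1, !x.2)) id

section Comb

/-- There is a partition of `PairIdx k l` into parts of size `a` indexed by `T`, permuted by the involution. -/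
def HasFlipPartition (T : Type) (a k l : ℕ) : Prop :=
  ∃ f : PairIdx k l → T, (∀ j, Nat.card {i // f i = j} = a) ∧ ∃ σ : Equiv.Perm T, ∀ i, f (pairFlip i) = σ (f i)

theorem HasFlipPartition.combine {T₁ T₂ T : Type} {a k₁ l₁ k₂ l₂ : ℕ} (eT : T₁ ⊕ T₂ ≃ T)
    (h₁ : HasFlipPartition T₁ a k₁ l₁) (h₂ : HasFlipPartition T₂ a k₂ l₂) :
    HasFlipPartition T a (k₁ + k₂) (l₁ + l₂) := by
  obtain ⟨f₁, hf₁, σ₁, hσ₁⟩ := h₁
  obtain ⟨f₂, hf₂, σ₂, hσ₂⟩ := h₂
  let e : PairIdx k₁ l₁ ⊕ PairIdx k₂ l₂ ≃ PairIdx (k₁ + k₂) (l₁ + l₂) :=
    (Equiv.sumSumSumComm _ _ _ _).trans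
      (Equiv.sumCongr ((Equiv.sumProdDistrib _ _ _).symm.trans (Equiv.prodCongr finSumFinEquiv (Equiv.refl _)))
        finSumFinEquiv)
  have he : ∀ i, pairFlip (e i) = e (Sum.map pairFlip pairFlip i) := by
    rintro ((⟨i, b⟩ | i) | (⟨i, b⟩ | i)) <;> rfl
  refine ⟨fun i => eT (Sum.map f₁ f₂ (e.symm i)), ?_, (eT.symm.trans (Equiv.sumCongr σ₁ σ₂)).trans eT, ?_⟩
  · intro j
    obtain ⟨j, rfl⟩ := eT.surjective j
    rw [Nat.card_congr (show {i // eT (Sum.map f₁ f₂ (e.symm i)) = eT j} ≃ {i // Sum.map f₁ f₂ i = j} from
      (e.symm.subtypeEquiv fun i => by simp))]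
    rcases j with j | j
    · rw [← hf₁ j]
      exact (Nat.card_congr
        { toFun := fun i => ⟨Sum.inl i.1, by simp [i.2]⟩
          invFun := fun i => match i with
            | ⟨Sum.inl i, h⟩ => ⟨i, by simpa using h⟩
            | ⟨Sum.inr i, h⟩ => absurd h (by simp)
          left_inv := fun i => rfl
          right_inv := fun i => match i with
            | ⟨Sum.inl i, h⟩ => rfl
            | ⟨Sum.inr i, h⟩ => absurd h (by simp) }).symm
    · rw [← hf₂ j]
      exact (Nat.card_congr
        { toFun := fun i => ⟨Sum.inr i.1, by simp [i.2]⟩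
          invFun := fun i => match i with
            | ⟨Sum.inr i, h⟩ => ⟨i, by simpa using h⟩
            | ⟨Sum.inl i, h⟩ => absurd h (by simp)
          left_inv := fun i => rfl
          right_inv := fun i => match i with
            | ⟨Sum.inr i, h⟩ => rfl
            | ⟨Sum.inl i, h⟩ => absurd h (by simp) }).symm
  · intro i
    obtain ⟨i, rfl⟩ := e.surjective i
    rw [he]
    simp only [Equiv.symm_apply_apply]
    rcases i with i | i <;> simp [hσ₁, hσ₂]

theorem hasFlipPartition_one {a k l : ℕ} (h : 2 * k + l = a) : HasFlipPartition (Fin 1) a k l := by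
  refine ⟨fun _ => 0, fun j => ?_, 1, fun _ => rfl⟩
  have hj : (0 : Fin 1) = j := Subsingleton.elim _ _
  rw [Nat.card_congr (Equiv.subtypeUnivEquiv fun _ => hj)]
  simp; omega

theorem hasFlipPartition_swap (a : ℕ) : HasFlipPartition (Fin 2) a a 0 := by
  refine ⟨Sum.elim (fun x => if x.2 then 1 else 0) finZeroElim, ?_, Equiv.swap 0 1, ?_⟩
  · intro j
    let g : Fin a → {i : PairIdx a 0 // Sum.elim (fun x => if x.2 then (1 : Fin 2) else 0) finZeroElim i = j} :=
      fun x => ⟨Sum.inl (x, decide (j = 1)), by fin_cases j <;> simp⟩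
    rw [← Nat.card_eq_of_bijective g ⟨fun x y h => by simpa [g] using h, ?_⟩, Nat.card_fin]
    rintro ⟨(⟨x, b⟩ | x), h⟩
    · refine ⟨x, ?_⟩
      simp only [g, Subtype.mk.injEq, Sum.inl.injEq, Prod.mk.injEq, true_and]
      fin_cases j <;> cases b <;> simp_all
    · exact x.elim0
  · rintro (⟨x, b⟩ | x)
    · cases b <;> rfl
    · exact x.elim0

theorem hasFlipPartition (a : ℕ) (ha : 1 ≤ a) : ∀ (t k l : ℕ), 2 * k + l = a * t → HasFlipPartition (Fin t) a k l := by
  intro t
  induction t using Nat.strong_induction_on with
  | _ t ih =>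
  intro k l h
  rcases t with _ | t
  · have hk : k = 0 := by omega
    have hl : l = 0 := by omega
    subst hk hl
    exact ⟨fun i => (i.elim (fun x => x.1) id), fun j => j.elim0, 1, fun i => (i.elim (fun x => x.1) id).elim0⟩
  by_cases hka : a ≤ k
  · rcases t with _ | t
    · omega
    have h' : 2 * (k - a) + l = a * t := by
      rw [Nat.mul_add, Nat.mul_add] at h; omega
    have := (hasFlipPartition_swap a).combine (finSumFinEquiv.trans (finCongr (by omega : 2 + t = t + 1 + 1))) (ih t (by omega) _ _ h')
    rwa [Nat.add_sub_cancel' hka, zero_add] at this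
  · by_cases ht : t = 0
    · subst ht
      exact hasFlipPartition_one (by omega)
    have hat : a ≤ a * t := Nat.le_mul_of_pos_right a (by omega)
    have h' : 2 * (k - min k (a / 2)) + (l - (a - 2 * min k (a / 2))) = a * t := by
      rw [Nat.mul_add] at h; omega
    have hl : a - 2 * min k (a / 2) ≤ l := by
      rw [Nat.mul_add] at h; omega
    have := (hasFlipPartition_one (a := a) (k := min k (a / 2)) (l := a - 2 * min k (a / 2)) (by omega)).combine
      (finSumFinEquiv.trans (finCongr (by omega : 1 + t = t + 1))) (ih t (by omega) _ _ h')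
    rwa [Nat.add_sub_cancel' (min_le_left _ _), Nat.add_sub_cancel' hl] at this

end Comb

section Basis

variable {F V : Type*} [Field F] [AddCommGroup V] [Module F V] [FiniteDimensional F V]

/-- An endomorphism with scalar square has a basis consisting of pairs `v, X v` and eigenvectors. -/
theorem exists_pair_basis (X : Module.End F V) (z : F) (hXX : ∀ v, X (X v) = z • v) :
    ∃ (k l : ℕ) (b : Module.Basis (PairIdx k l) F V),
      (∀ i : Fin k, X (b (Sum.inl (i, false))) = b (Sum.inl (i, true))) ∧
      (∀ i : Fin k, X (b (Sum.inl (i, true))) = z • b (Sum.inl (i, false))) ∧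
      (∀ j : Fin l, ∃ c : F, X (b (Sum.inr j)) = c • b (Sum.inr j)) := by
  classical
  let P : ℕ → Prop := fun k => ∃ v : Fin k → V,
    LinearIndependent F (fun i : Fin k × Bool => if i.2 then X (v i.1) else v i.1)
  obtain ⟨k, hk, hmax⟩ : ∃ k, P k ∧ ¬ P (k + 1) := by
    by_contra hno
    push Not at hno
    have hall : ∀ k, P k := by
      intro k
      induction k with
      | zero => exact ⟨finZeroElim, linearIndependent_empty_type⟩
      | succ k ih => exact hno k ih
    obtain ⟨v, hv⟩ := hall (Module.finrank F V + 1)
    have := hv.fintype_card_le_finrank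
    simp at this
    omega
  obtain ⟨v, hv⟩ := hk
  set u : Fin k × Bool → V := fun i => if i.2 then X (v i.1) else v i.1 with hu
  set W : Submodule F V := Submodule.span F (Set.range u) with hW
  have hXW : ∀ w ∈ W, X w ∈ W := by
    intro w hw
    induction hw using Submodule.span_induction with
    | mem x hx =>
      obtain ⟨⟨i, b⟩, rfl⟩ := hx
      cases b
      · exact Submodule.subset_span ⟨(i, true), by simp [hu]⟩
      · simp only [hu, if_true, hXX]
        exact W.smul_mem _ (Submodule.subset_span ⟨(i, false), rfl⟩)
    | zero => simp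
    | add x y _ _ hx hy => rw [map_add]; exact W.add_mem hx hy
    | smul c x _ hx => rw [map_smul]; exact W.smul_mem c hx
  let E : Set V := {y | ∃ c : F, X y = c • y}
  have htop : ∀ y : V, y ∈ Submodule.span F (Set.range u ∪ E) := by
    intro y
    have hWle : W ≤ Submodule.span F (Set.range u ∪ E) := Submodule.span_mono Set.subset_union_left
    by_cases hy : y ∈ W
    · exact hWle hy
    obtain ⟨a, b, hab, hne⟩ : ∃ a b : F, a • y + b • X y ∈ W ∧ ¬ (a = 0 ∧ b = 0) := by
      by_contra hno
      push Not at hno
      apply hmax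
      refine ⟨Fin.snoc v y, ?_⟩
      have h2 : LinearIndependent F (Sum.elim u (fun b : Bool => if b then X y else y)) := by
        refine hv.sum_type ?_ ?_
        · rw [Fintype.linearIndependent_iff]
          intro g hg
          simp at hg
          have h0 := hno (g false) (g true) (by rw [add_comm, hg]; exact W.zero_mem)
          intro b; cases b
          · exact h0.1
          · exact h0.2
        · rw [Submodule.disjoint_def]
          intro x hx hx'
          rw [Submodule.mem_span_range_iff_exists_fun] at hx'
          obtain ⟨g, rfl⟩ := hx'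
          simp at hx ⊢
          have h0 := hno (g false) (g true) (by rw [add_comm]; exact hx)
          simp [h0.1, h0.2]
      have h3 := h2.comp (((finSumFinEquiv (m := k) (n := 1)).symm.prodCongr (Equiv.refl Bool)).trans
          ((Equiv.sumProdDistrib _ _ _).trans (Equiv.sumCongr (Equiv.refl _) (Equiv.uniqueProd Bool (Fin 1)))))
        (Equiv.injective _)
      convert h3 using 1
      funext i
      obtain ⟨i, b⟩ := i
      induction i using Fin.lastCases with
      | last =>
        have : (finSumFinEquiv (m := k) (n := 1)).symm (Fin.last k) = Sum.inr 0 := finSumFinEquiv.symm_apply_eq.2 (by ext; simp)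
        simp [this]
      | cast i =>
        have : (finSumFinEquiv (m := k) (n := 1)).symm i.castSucc = Sum.inl i := finSumFinEquiv.symm_apply_eq.2 (by ext; simp)
        simp [this, hu]
    have hb : b ≠ 0 := by
      intro hb
      rw [hb, zero_smul, add_zero] at hab
      exact hne ⟨by_contra fun ha => hy (by simpa [ha] using W.smul_mem a⁻¹ hab), hb⟩
    have hsq : a * a = b * b * z := by
      by_contra hsq
      apply hy
      have h1 : (a * a - b * b * z) • y ∈ W := by
        have := W.sub_mem (W.smul_mem a hab) (W.smul_mem b (hXW _ hab))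
        convert this using 1
        simp only [smul_add, map_add, map_smul, hXX, smul_smul, sub_smul]
        rw [mul_comm b a, mul_assoc]
        abel
      simpa [sub_ne_zero.2 hsq] using W.smul_mem (a * a - b * b * z)⁻¹ h1
    set c : F := a / b with hc
    have hcz : c * c = z := by rw [hc]; field_simp; linear_combination hsq
    have hu0 : X y + c • y ∈ W := by
      have := W.smul_mem b⁻¹ hab
      rw [smul_add, smul_smul, smul_smul, inv_mul_cancel₀ hb, one_smul, add_comm] at this
      rwa [hc, div_eq_inv_mul]
    obtain ⟨g, hg⟩ := (Submodule.mem_span_range_iff_exists_fun F).1 hu0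
    have heig : X (X y + c • y) = c • (X y + c • y) := by
      rw [map_add, map_smul, hXX, smul_add, smul_smul, hcz, add_comm]
    rw [← hg, Fintype.sum_prod_type] at heig
    simp only [Fintype.sum_bool, map_sum, map_add, map_smul, hu, if_true, Bool.false_eq_true, if_false, hXX, smul_smul,
      Finset.smul_sum, smul_add] at heig
    have hcoef := Fintype.linearIndependent_iff.1 hv
      (fun i => if i.2 then g (i.1, false) - c * g (i.1, true) else g (i.1, true) * z - c * g (i.1, false)) (by
      rw [Fintype.sum_prod_type]
      simp only [Fintype.sum_bool, if_true, Bool.false_eq_true, if_false, sub_smul]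
      rw [← sub_eq_zero] at heig
      rw [← heig, ← Finset.sum_sub_distrib]
      refine Finset.sum_congr rfl fun i _ => ?_
      simp only [hu, if_true, Bool.false_eq_true, if_false]
      abel)
    set w : V := ∑ i : Fin k, g (i, true) • v i with hw
    have hwW : w ∈ W :=
      W.sum_mem fun i _ => W.smul_mem _ (Submodule.subset_span ⟨(i, false), by simp [hu]⟩)
    have hXw : X w + c • w = X y + c • y := by
      rw [← hg, hw, map_sum, Finset.smul_sum, ← Finset.sum_add_distrib, Fintype.sum_prod_type]
      refine Finset.sum_congr rfl fun i _ => ?_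
      have h0 := hcoef (i, true)
      simp only [if_true, sub_eq_zero] at h0
      simp [hu, h0, smul_smul]
    have hE : y - w ∈ E := by
      refine ⟨-c, ?_⟩
      rw [map_sub, neg_smul, smul_sub]
      have : X y = X w + c • w - c • y := by rw [hXw]; abel
      rw [this]; abel
    have := Submodule.add_mem _ (Submodule.subset_span (Set.mem_union_right _ hE)) (hWle hwW)
    rwa [sub_add_cancel] at this
  have hindep : LinearIndepOn F id (Set.range u) := hv.linearIndepOn_id
  set S : Set V := hindep.extend (Set.subset_union_left (t := E)) with hS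
  have hSfin : S.Finite := (hindep.linearIndepOn_extend Set.subset_union_left).setFinite
  haveI : Fintype ↥(S \ Set.range u) := (hSfin.diff).fintype
  let eD := (Fintype.equivFin ↥(S \ Set.range u)).symm
  let w : PairIdx k (Fintype.card ↥(S \ Set.range u)) → V := Sum.elim u (fun j => (eD j : V))
  have hwinj : Function.Injective w := by
    rintro (i | i) (j | j) h
    · exact congrArg Sum.inl (hv.injective h)
    · exact absurd ⟨i, h⟩ (eD j).2.2
    · exact absurd ⟨j, h.symm⟩ (eD i).2.2
    · exact congrArg Sum.inr (eD.injective (Subtype.ext h))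
  have hrange : Set.range w = S := by
    ext x
    constructor
    · rintro ⟨(i | i), rfl⟩
      · exact hindep.subset_extend _ ⟨i, rfl⟩
      · exact (eD i).2.1
    · intro hx
      by_cases h : x ∈ Set.range u
      · obtain ⟨i, rfl⟩ := h; exact ⟨Sum.inl i, rfl⟩
      · exact ⟨Sum.inr (eD.symm ⟨x, hx, h⟩), by simp [w]⟩
  have hwli : LinearIndependent F w := by
    rw [← linearIndepOn_id_range_iff hwinj, hrange]
    exact hindep.linearIndepOn_extend _
  have hwspan : ⊤ ≤ Submodule.span F (Set.range w) := by
    rw [hrange, hS, hindep.span_extend_eq_span]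
    exact fun y _ => htop y
  refine ⟨k, _, Module.Basis.mk hwli hwspan, fun i => ?_, fun i => ?_, fun j => ?_⟩
  · simp [w, hu]
  · simp [w, hu, hXX]
  · simp only [Module.Basis.mk_apply, w, Sum.elim_inr]
    rcases hindep.extend_subset _ (eD j).2.1 with h | h
    · exact absurd h (eD j).2.2
    · exact h

end Basis

end Cfsg.Agent.H99
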