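import Mathlib
import Cfsg.Prelude.Def_GeometricClasses
import Cfsg.Agent.H99.Chains

/-! Conjugacy of elements of SL_n into subfield subgroups. -/

set_option autoImplicit false

namespace Cfsg.Agent.H99

open scoped MatrixGroups Matrix
open Cfsg.Geo

variable {F : Type*} [Field F] {n : ℕ}

/-- The subgroup of SL_n of the elements lying in the subfield group. -/
def slSubfield (n : ℕ) (F₀ : Subfield F) : Subgroup (Matrix.SpecialLinearGroup (Fin n) F) :=
  (subfieldSubgroup F₀ 1).comap (Matrix.SpecialLinearGroup.toGL : Matrix.SpecialLinearGroup (Fin n) F →* GL (Fin n) F)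

theorem mem_subfield_iff [NeZero n] (F₀ : Subfield F) (g : GL (Fin n) F) :
    g ∈ subfieldSubgroup F₀ 1 ↔ ∃ (c : F) (A₀ : Matrix (Fin n) (Fin n) F₀), c ≠ 0 ∧ A₀.det ≠ 0 ∧
      (g : Matrix (Fin n) (Fin n) F) = c • A₀.map F₀.subtype := by
  unfold subfieldSubgroup
  rw [show (MulAut.conj (1 : GL (Fin n) F)).toMonoidHom = MonoidHom.id _ by ext a; simp, Subgroup.map_id,
    Subgroup.mem_sup_of_normal_right]
  constructor
  · rintro ⟨_, ⟨A, rfl⟩, s, hs, rfl⟩
    obtain ⟨c, hc⟩ := (mem_scalars_iff s).1 hs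
    refine ⟨c, (A : Matrix (Fin n) (Fin n) F₀), c.ne_zero, (Matrix.GeneralLinearGroup.det A).ne_zero, ?_⟩
    rw [Units.val_mul, hc, Matrix.mul_smul, mul_one]
    rfl
  · rintro ⟨c, A₀, hc, hA, hg⟩
    let s : GL (Fin n) F := Units.map (Matrix.scalar (Fin n) : F →+* Matrix (Fin n) (Fin n) F).toMonoidHom (Units.mk0 c hc)
    refine ⟨_, ⟨Matrix.GeneralLinearGroup.mkOfDetNeZero A₀ hA, rfl⟩, s, ⟨Units.mk0 c hc, rfl⟩, ?_⟩
    apply Units.ext
    rw [Units.val_mul, hg]
    show A₀.map F₀.subtype * Matrix.scalar (Fin n) c = c • A₀.map F₀.subtype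
    rw [← Matrix.scalar_comm c (fun r => mul_comm c r), Matrix.scalar_apply, ← Matrix.smul_one_eq_diagonal,
      Matrix.smul_mul, one_mul]

/-- A matrix identity `x P = P (c A₀)` with `det P = 1` conjugates `x` into the subfield group. -/
theorem conj_into [NeZero n] (F₀ : Subfield F) (x : Matrix.SpecialLinearGroup (Fin n) F)
    (P : Matrix (Fin n) (Fin n) F) (hP : P.det = 1) (c : F) (A₀ : Matrix (Fin n) (Fin n) F₀)
    (h : (x : Matrix (Fin n) (Fin n) F) * P = P * (c • A₀.map F₀.subtype)) :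
    ∃ Q : Matrix.SpecialLinearGroup (Fin n) F, Q⁻¹ * x * Q ∈ slSubfield n F₀ := by
  let Q : Matrix.SpecialLinearGroup (Fin n) F := ⟨P, hP⟩
  have he : ((Q⁻¹ * x * Q : Matrix.SpecialLinearGroup (Fin n) F) : Matrix (Fin n) (Fin n) F) = c • A₀.map F₀.subtype := by
    rw [Matrix.SpecialLinearGroup.coe_mul, Matrix.SpecialLinearGroup.coe_mul, mul_assoc,
      show (x : Matrix (Fin n) (Fin n) F) * (Q : Matrix (Fin n) (Fin n) F) = (Q : Matrix (Fin n) (Fin n) F) * (c • A₀.map F₀.subtype) from h,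
      ← mul_assoc, ← Matrix.SpecialLinearGroup.coe_mul, inv_mul_cancel, Matrix.SpecialLinearGroup.coe_one, one_mul]
  have hdet : c ^ n * F₀.subtype A₀.det = 1 := by
    have h1 := congrArg Matrix.det he
    rw [Matrix.SpecialLinearGroup.det_coe, Matrix.det_smul, Fintype.card_fin] at h1
    rw [RingHom.map_det]
    exact h1.symm
  refine ⟨Q, (mem_subfield_iff F₀ _).2 ⟨c, A₀, ?_, ?_, he⟩⟩
  · intro hc
    rw [hc, zero_pow (NeZero.ne n), zero_mul] at hdet
    exact zero_ne_one hdet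
  · intro hA
    rw [hA, map_zero, mul_zero] at hdet
    exact zero_ne_one hdet

/-- Members of the subfield group up to a scalar have their scalar powers in the subfield up to that scalar. -/
theorem exists_of_conj_mem [NeZero n] (F₀ : Subfield F) (x Q : Matrix.SpecialLinearGroup (Fin n) F)
    (h : Q⁻¹ * x * Q ∈ slSubfield n F₀) :
    ∃ (c : F) (A₀ : Matrix (Fin n) (Fin n) F₀), c ≠ 0 ∧
      (x : Matrix (Fin n) (Fin n) F) * (Q : Matrix (Fin n) (Fin n) F) = (Q : Matrix (Fin n) (Fin n) F) * (c • A₀.map F₀.subtype) := by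
  obtain ⟨c, A₀, hc, -, hg⟩ := (mem_subfield_iff F₀ _).1 h
  refine ⟨c, A₀, hc, ?_⟩
  rw [← hg]
  show _ = (Q : Matrix (Fin n) (Fin n) F) * ((Q⁻¹ * x * Q : Matrix.SpecialLinearGroup (Fin n) F) : Matrix (Fin n) (Fin n) F)
  rw [← Matrix.SpecialLinearGroup.coe_mul, ← Matrix.SpecialLinearGroup.coe_mul, ← mul_assoc, mul_inv_cancel_left]

/-- The nilpotent matrix with blocks of sizes `m i`. -/
def shiftMatrix (R : Type*) [Zero R] [One R] {L : ℕ} (m : Fin L → ℕ) :
    Matrix ((i : Fin L) × Fin (m i)) ((i : Fin L) × Fin (m i)) R :=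
  Matrix.of fun r c => if r.1 = c.1 ∧ (r.2 : ℕ) = (c.2 : ℕ) + 1 then 1 else 0

theorem toMatrix_shiftEnd {V : Type*} [AddCommGroup V] [Module F V] [FiniteDimensional F V] {L : ℕ} {m : Fin L → ℕ}
    (b : Module.Basis ((i : Fin L) × Fin (m i)) F V) : LinearMap.toMatrix b b (shiftEnd b) = shiftMatrix F m := by
  classical
  ext ⟨i, k⟩ ⟨j, l⟩
  rw [LinearMap.toMatrix_apply, shiftEnd, Module.Basis.constr_basis]
  simp only [shiftMatrix, Matrix.of_apply]
  by_cases h : (l : ℕ) + 1 < m j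
  · rw [dif_pos h, b.repr_self, Finsupp.single_apply]
    by_cases hij : j = i
    · subst hij
      simp [Fin.ext_iff, eq_comm]
    · simp [hij, Ne.symm hij]
  · rw [dif_neg h, map_zero, Finsupp.zero_apply, if_neg]
    rintro ⟨rfl, hk⟩
    exact h (hk ▸ k.2)

/-- Jordan normal form of a nilpotent matrix. -/
theorem exists_matrix_shift (N : Matrix (Fin n) (Fin n) F) {h : ℕ} (hN : N ^ h = 0) :
    ∃ (L : ℕ) (m : Fin L → ℕ) (e : ((i : Fin L) × Fin (m i)) ≃ Fin n) (P : Matrix (Fin n) (Fin n) F),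
      (∀ i, 0 < m i ∧ m i ≤ h) ∧ P.det ≠ 0 ∧ N * P = P * Matrix.reindex e e (shiftMatrix F m) := by
  classical
  obtain ⟨L, m, b, hm, hb⟩ := exists_shift_basis (Matrix.toLinAlgEquiv' N) (p := h) (by rw [← map_pow, hN, map_zero])
  let e := b.indexEquiv (Pi.basisFun F (Fin n))
  let P : Matrix (Fin n) (Fin n) F := ((Pi.basisFun F (Fin n)).toMatrix b).submatrix id e.symm
  refine ⟨L, m, e, P, hm, ?_, ?_⟩
  · have h1 : P = (Pi.basisFun F (Fin n)).toMatrix (b.reindex e) := by
      ext r c; simp [P, Module.Basis.toMatrix_apply]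
    rw [h1]
    exact ((Pi.basisFun F (Fin n)).is_basis_iff_det.1 ⟨(b.reindex e).linearIndependent, (b.reindex e).span_eq⟩).ne_zero
  · have h1 : N * (Pi.basisFun F (Fin n)).toMatrix b = (Pi.basisFun F (Fin n)).toMatrix b * shiftMatrix F m := by
      rw [← toMatrix_shiftEnd b, hb, basis_toMatrix_mul_linearMap_toMatrix]
      have h2 := linearMap_toMatrix_mul_basis_toMatrix b (Pi.basisFun F (Fin n)) (Pi.basisFun F (Fin n)) (Matrix.toLinAlgEquiv' N)
      rw [← h2]
      congr 1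
      rw [LinearMap.toMatrix_eq_toMatrix']
      exact (LinearMap.toMatrix'_toLin' N).symm
    show N * ((Pi.basisFun F (Fin n)).toMatrix b).submatrix id e.symm = _
    rw [show N * ((Pi.basisFun F (Fin n)).toMatrix b).submatrix id e.symm = (N * (Pi.basisFun F (Fin n)).toMatrix b).submatrix id e.symm from rfl, h1]
    rw [Matrix.reindex_apply]
    exact (Matrix.submatrix_mul _ _ id e.symm e.symm e.symm.bijective)

/-- Unipotent elements (up to scalars) are conjugate into the subfield group when some block size is good. -/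
theorem exists_conj_unipotent [NeZero n] (F₀ : Subfield F) (x : Matrix.SpecialLinearGroup (Fin n) F) (μ : F)
    (N : Matrix (Fin n) (Fin n) F) {h : ℕ} (hN : N ^ h = 0) (hx : (x : Matrix (Fin n) (Fin n) F) = μ • (1 + N))
    (hgood : ∀ (L : ℕ) (m : Fin L → ℕ), (∑ i, m i = n) → (∀ i, 0 < m i ∧ m i ≤ h) →
      ∃ i, ∀ t : F, t ≠ 0 → ∃ (a : F) (f : F₀), a ^ (m i) * (f : F) = t) :
    ∃ Q : Matrix.SpecialLinearGroup (Fin n) F, Q⁻¹ * x * Q ∈ slSubfield n F₀ := by
  classical
  obtain ⟨L, m, e, P, hm, hP, hNP⟩ := exists_matrix_shift N hN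
  obtain ⟨i, hi⟩ := hgood L m (by
    have := Fintype.card_congr e
    rwa [Fintype.card_sigma, Finset.sum_congr rfl (fun i _ => Fintype.card_fin (m i)), Fintype.card_fin] at this) hm
  obtain ⟨a, f, haf⟩ := hi P.det⁻¹ (inv_ne_zero hP)
  have hf : (f : F₀) ≠ 0 := by
    rintro rfl
    simp at haf
    exact hP haf.symm
  set S : Matrix (Fin n) (Fin n) F := Matrix.reindex e e (shiftMatrix F m) with hS
  let d₁ : Fin n → F := fun r => if (e.symm r).1 = i then a else 1
  have hd1 : (Matrix.diagonal d₁).det = a ^ (m i) := by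
    rw [Matrix.det_diagonal, ← e.prod_comp, Fintype.prod_sigma]
    simp only [d₁, Equiv.symm_apply_apply]
    rw [Finset.prod_eq_single i]
    · simp
    · intro j _ hj; simp [hj]
    · simp
  have hcomm : Matrix.diagonal d₁ * S = S * Matrix.diagonal d₁ := by
    ext r c
    rw [Matrix.diagonal_mul, Matrix.mul_diagonal]
    simp only [hS, Matrix.reindex_apply, Matrix.submatrix_apply, shiftMatrix, Matrix.of_apply]
    split_ifs with hrc
    · simp only [d₁, hrc.1]; ring
    · simp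
  let r₀ : Fin n := 0
  let d₂ : Fin n → F₀ := Function.update 1 r₀ f
  let S₀ : Matrix (Fin n) (Fin n) F₀ := Matrix.reindex e e (shiftMatrix F₀ m)
  have hS₀ : S₀.map F₀.subtype = S := by
    ext r c
    simp only [S₀, hS, Matrix.map_apply, Matrix.reindex_apply, Matrix.submatrix_apply, shiftMatrix, Matrix.of_apply]
    split_ifs <;> simp
  let A₀ : Matrix (Fin n) (Fin n) F₀ := Matrix.diagonal (fun r => (d₂ r)⁻¹) * (1 + S₀) * Matrix.diagonal d₂
  refine conj_into F₀ x (P * Matrix.diagonal d₁ * (Matrix.diagonal d₂).map F₀.subtype) ?_ μ A₀ ?_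
  · rw [Matrix.det_mul, Matrix.det_mul, hd1]
    erw [← RingHom.map_det]
    rw [Matrix.det_diagonal, Finset.prod_update_of_mem (Finset.mem_univ _)]
    simp only [Pi.one_apply, Finset.prod_const_one, mul_one, Subfield.coe_subtype]
    rw [mul_assoc, haf, mul_inv_cancel₀ hP]
  · have hD2 : Matrix.diagonal (fun r => (d₂ r)) * Matrix.diagonal (fun r => (d₂ r)⁻¹) = (1 : Matrix (Fin n) (Fin n) F₀) := by
      rw [Matrix.diagonal_mul_diagonal, ← Matrix.diagonal_one]
      congr 1
      funext r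
      apply mul_inv_cancel₀
      by_cases hr : r = r₀ <;> simp [d₂, hr, hf]
    have hA : (Matrix.diagonal d₂).map F₀.subtype * A₀.map F₀.subtype = (1 + S) * (Matrix.diagonal d₂).map F₀.subtype := by
      rw [← hS₀, ← Matrix.map_one F₀.subtype (map_zero _) (map_one _), ← Matrix.map_add _ (map_add _), ← Matrix.map_mul, ← Matrix.map_mul]
      congr 1
      simp only [A₀, ← mul_assoc]
      rw [show Matrix.diagonal d₂ * Matrix.diagonal (fun r => (d₂ r)⁻¹) = (1 : Matrix (Fin n) (Fin n) F₀) from hD2, one_mul]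
    rw [Matrix.mul_smul, mul_assoc (P * Matrix.diagonal d₁), hA, hx, Matrix.smul_mul]
    congr 1
    simp only [mul_add, add_mul, one_mul, mul_one, mul_assoc]
    congr 1
    rw [← mul_assoc N, hNP, mul_assoc, ← mul_assoc S (Matrix.diagonal d₁), ← hcomm, mul_assoc]

end Cfsg.Agent.H99
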