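import Mathlib
import Cfsg.Prelude.Def_GeometricClasses
import Cfsg.Agent.H96.TensorCoords

set_option autoImplicit false

/-!
A tensor decomposition with a small factor whose similitudes are monomial in an orthogonal frame:
the stabiliser permutes the blocks, and is smaller than the stabiliser of the block decomposition.
-/

namespace Cfsg.Agent.H99

open Matrix Kronecker

variable {F : Type*} [Field F] {ι : Type} [Fintype ι] [DecidableEq ι] {k l : ℕ}

/-- The pure tensors in the coordinates of a tensor decomposition. -/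
noncomputable def pure (e : ι ≃ Fin k × Fin l) (P : GL ι F) :
    (Fin k → F) →ₗ[F] (Fin l → F) →ₗ[F] (ι → F) :=
  LinearMap.mk₂ F (fun a u => Cfsg.Agent.H96.tensorIso e P (fun i => a i • u))
    (fun a b u => by rw [← map_add]; congr 1; funext i; simp [add_smul])
    (fun c a u => by rw [← map_smul]; congr 1; funext i; simp [smul_smul])
    (fun a u v => by rw [← map_add]; congr 1; funext i; simp)
    (fun c a u => by rw [← map_smul]; congr 1; funext i; simp [smul_comm c])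

theorem pure_action {e : ι ≃ Fin k × Fin l} {P g : GL ι F}
    (hg : g ∈ Cfsg.Geo.tensorProductSubgroup k l e P) :
    ∃ (A : GL (Fin k) F) (B : GL (Fin l) F), ∀ a u, (g : Matrix ι ι F) *ᵥ pure e P a u =
      pure e P ((A : Matrix (Fin k) (Fin k) F) *ᵥ a) ((B : Matrix (Fin l) (Fin l) F) *ᵥ u) := by
  obtain ⟨A, B, h⟩ := Cfsg.Agent.H96.exists_tensor_action hg
  refine ⟨A, B, fun a u => ?_⟩
  show (g : Matrix ι ι F) *ᵥ Cfsg.Agent.H96.tensorIso e P (fun i => a i • u) = Cfsg.Agent.H96.tensorIso e P _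
  rw [h]
  congr 1
  funext i
  simp only [mulVec_smul, smul_smul]
  exact (Finset.sum_smul (f := fun i' => (A : Matrix (Fin k) (Fin k) F) i i' * a i') (s := Finset.univ) (x := (B : Matrix (Fin l) (Fin l) F) *ᵥ u)).symm

theorem pure_form {e : ι ≃ Fin k × Fin l} {P : GL ι F} {σ : F → F} (hσ : ∀ x y, σ (x * y) = σ x * σ y)
    {f : (ι → F) → (ι → F) → F} {f₁ : (Fin k → F) → (Fin k → F) → F} {f₂ : (Fin l → F) → (Fin l → F) → F}
    (hT : Cfsg.Geo.IsTensorFormStructure σ f f₁ f₂ e P) :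
    ∃ c : F, c ≠ 0 ∧ ∀ a b u v, f (pure e P a u) (pure e P b v) =
      c * Cfsg.Geo.formOfGram σ (Cfsg.Geo.gramMatrix f₁) a b * Cfsg.Geo.formOfGram σ (Cfsg.Geo.gramMatrix f₂) u v := by
  obtain ⟨c, hc, h⟩ := hT
  refine ⟨c, hc, fun a b u v => ?_⟩
  show f (Cfsg.Agent.H96.tensorIso e P _) (Cfsg.Agent.H96.tensorIso e P _) = _
  rw [Cfsg.Agent.H96.tensorIso_apply, Cfsg.Agent.H96.tensorIso_apply, h, mul_assoc c]
  congr 1
  simp only [Cfsg.Geo.formOfGram, Fintype.sum_prod_type, Matrix.kroneckerMap_apply, Pi.smul_apply, smul_eq_mul,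
    hσ]
  rw [Finset.sum_mul]
  simp only [Finset.sum_mul]
  simp only [Finset.mul_sum]
  refine Finset.sum_congr rfl fun i _ => ?_
  rw [Finset.sum_comm]
  refine Finset.sum_congr rfl fun i' _ => Finset.sum_congr rfl fun j _ => Finset.sum_congr rfl fun j' _ => ?_
  ring

/-- The blocks `a j ⊗ F^l`. -/
def block {m : ℕ} (t : (Fin k → F) →ₗ[F] (Fin l → F) →ₗ[F] (ι → F)) (a : Fin m → Fin k → F) (j : Fin m) :
    Submodule F (ι → F) :=
  LinearMap.range (t (a j))

/-- Data of a tensor decomposition with a framed small factor. -/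
structure Framed (G : Subgroup (GL ι F)) (m : ℕ) where
  k : ℕ
  l : ℕ
  t : (Fin k → F) →ₗ[F] (Fin l → F) →ₗ[F] (ι → F)
  f : (ι → F) → (ι → F) → F
  inv : ∀ g ∈ G, ∀ u v, f ((g : Matrix ι ι F) *ᵥ u) ((g : Matrix ι ι F) *ᵥ v) = f u v
  c : F
  hc : c ≠ 0
  φ₁ : (Fin k → F) → (Fin k → F) → F
  φ₂ : (Fin l → F) → (Fin l → F) → F
  form : ∀ a b u v, f (t a u) (t b v) = c * φ₁ a b * φ₂ u v
  a : Fin m → Fin k → F
  diag : ∀ j, φ₁ (a j) (a j) ≠ 0
  orth : ∀ i j, i ≠ j → φ₁ (a i) (a j) = 0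
  sep : ∀ u, (∀ w, φ₂ u w = 0) → u = 0
  zero_left : ∀ w, φ₂ 0 w = 0
  lpos : 0 < l
  monomial : ∀ A : GL (Fin k) F,
    (∃ μ : F, ∀ x y, φ₁ ((A : Matrix (Fin k) (Fin k) F) *ᵥ x) ((A : Matrix (Fin k) (Fin k) F) *ᵥ y) = μ * φ₁ x y) →
    ∃ σ : Equiv.Perm (Fin m), ∀ j, ∃ r : F, r ≠ 0 ∧ (A : Matrix (Fin k) (Fin k) F) *ᵥ a j = r • a (σ j)

namespace Framed

variable {G : Subgroup (GL ι F)} {m : ℕ} (D : Framed G m)

/-- The blocks. -/
abbrev S (j : Fin m) : Submodule F (ι → F) := block D.t D.a j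

theorem mem_S {j : Fin m} {u : Fin D.l → F} : D.t (D.a j) u ∈ D.S j := ⟨u, rfl⟩

theorem disjoint {i j : Fin m} (hij : i ≠ j) {x : ι → F} (hi : x ∈ D.S i) (hj : x ∈ D.S j) : x = 0 := by
  obtain ⟨u, rfl⟩ := hi
  obtain ⟨v, hv⟩ := hj
  have hu : u = 0 := D.sep u fun w => by
    have h := D.form (D.a i) (D.a i) u w
    rw [← hv, D.form, D.orth j i (Ne.symm hij), mul_zero, zero_mul] at h
    exact (mul_eq_zero.1 h.symm).resolve_left (mul_ne_zero D.hc (D.diag i))
  rw [hu, map_zero]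

theorem injective_t (j : Fin m) : Function.Injective (D.t (D.a j)) := by
  rw [injective_iff_map_eq_zero]
  intro u hu
  refine D.sep u fun w => ?_
  have h := D.form (D.a j) (D.a j) u w
  rw [hu, ← map_zero (D.t (D.a j)), D.form, D.zero_left, mul_zero] at h
  exact (mul_eq_zero.1 h.symm).resolve_left (mul_ne_zero D.hc (D.diag j))

theorem mem_stab {g : GL ι F} {σ : Equiv.Perm (Fin m)}
    (h : ∀ j, ∀ x ∈ D.S j, (g : Matrix ι ι F) *ᵥ x ∈ D.S (σ j)) :
    g ∈ Cfsg.Geo.decompositionStabilizer D.S := by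
  have hinj : Function.Injective (Matrix.toLin' (g : Matrix ι ι F)) := by
    intro x y hxy
    have := congrArg (fun z => ((g⁻¹ : GL ι F) : Matrix ι ι F) *ᵥ z) hxy
    simpa [Matrix.mulVec_mulVec, ← Units.val_mul] using this
  have hdim : ∀ j, Module.finrank F (D.S j) = D.l := fun j => by
    show Module.finrank F (LinearMap.range (D.t (D.a j))) = D.l
    rw [LinearMap.finrank_range_of_inj (D.injective_t j), Module.finrank_fin_fun]
  refine ⟨σ, fun j => Submodule.eq_of_le_of_finrank_eq ?_ ?_⟩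
  · rintro _ ⟨x, hx, rfl⟩
    rw [Matrix.toLin'_apply]
    exact h j x hx
  · rw [← (Submodule.equivMapOfInjective _ hinj (D.S j)).finrank_eq, hdim, hdim]

theorem zero_of_scaled {i j : Fin m} (hij : i ≠ j) {u v : Fin D.l → F} {r : F}
    (h : D.t (r • D.a i) v = D.t (D.a j) u) : D.t (D.a j) u = 0 :=
  D.disjoint hij (h ▸ (by rw [map_smul, LinearMap.smul_apply]; exact (D.S i).smul_mem r D.mem_S)) D.mem_S

/-- The stabiliser of a tensor decomposition with framed small factor is not maximal. -/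
theorem not_maximal {T : Subgroup (GL ι F)}
    (hact : ∀ g ∈ T, ∃ (A : GL (Fin D.k) F) (B : GL (Fin D.l) F), ∀ a u, (g : Matrix ι ι F) *ᵥ D.t a u =
      D.t ((A : Matrix (Fin D.k) (Fin D.k) F) *ᵥ a) ((B : Matrix (Fin D.l) (Fin D.l) F) *ᵥ u))
    (j0 j1 : Fin m) (h01 : j0 ≠ j1)
    (hmid : ∃ g ∈ G, (∀ j, j ≠ j0 → ∀ x ∈ D.S j, (g : Matrix ι ι F) *ᵥ x = x) ∧
      (∀ x ∈ D.S j0, (g : Matrix ι ι F) *ᵥ x ∈ D.S j0) ∧
      (∃ w ∈ D.S j0, w ≠ 0 ∧ (g : Matrix ι ι F) *ᵥ w = w) ∧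
      ∃ v ∈ D.S j0, (g : Matrix ι ι F) *ᵥ v ≠ v)
    (htop : ∃ g ∈ G, (∃ w ∈ D.S j0, w ≠ 0 ∧ (g : Matrix ι ι F) *ᵥ w = w) ∧
      ∃ v ∈ D.S j0, (g : Matrix ι ι F) *ᵥ v ∉ D.S j0) :
    ∃ K : Subgroup (GL ι F), T ⊓ G < K ∧ K < G := by
  refine ⟨Cfsg.Geo.decompositionStabilizer D.S ⊓ G, ?_, ?_⟩
  · refine lt_of_le_not_ge (le_inf ?_ inf_le_right) fun hle => ?_
    · rintro g ⟨hgT, hgG⟩
      obtain ⟨A, B, hAB⟩ := hact g hgT
      obtain ⟨u0, v0, huv⟩ : ∃ u v, D.φ₂ u v ≠ 0 := by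
        by_contra! h
        have := D.sep (Pi.single ⟨0, D.lpos⟩ 1) fun w => h _ w
        simpa using congrFun this ⟨0, D.lpos⟩
      have heq : ∀ x y, D.φ₁ ((A : Matrix (Fin D.k) (Fin D.k) F) *ᵥ x) ((A : Matrix (Fin D.k) (Fin D.k) F) *ᵥ y) *
          D.φ₂ ((B : Matrix (Fin D.l) (Fin D.l) F) *ᵥ u0) ((B : Matrix (Fin D.l) (Fin D.l) F) *ᵥ v0) =
          D.φ₁ x y * D.φ₂ u0 v0 := by
        intro x y
        have h := D.inv g hgG (D.t x u0) (D.t y v0)
        rw [hAB, hAB, D.form, D.form, mul_assoc, mul_assoc] at h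
        exact mul_left_cancel₀ D.hc h
      have hne : D.φ₂ ((B : Matrix (Fin D.l) (Fin D.l) F) *ᵥ u0) ((B : Matrix (Fin D.l) (Fin D.l) F) *ᵥ v0) ≠ 0 := by
        intro h
        have := heq (D.a j0) (D.a j0)
        rw [h, mul_zero] at this
        exact mul_ne_zero (D.diag j0) huv this.symm
      obtain ⟨σ, hσ⟩ := D.monomial A ⟨D.φ₂ u0 v0 /
        D.φ₂ ((B : Matrix (Fin D.l) (Fin D.l) F) *ᵥ u0) ((B : Matrix (Fin D.l) (Fin D.l) F) *ᵥ v0), fun x y => by
          rw [div_mul_eq_mul_div, eq_div_iff hne, heq x y, mul_comm]⟩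
      refine D.mem_stab (σ := σ) ?_
      rintro j _ ⟨u, rfl⟩
      obtain ⟨r, -, hr⟩ := hσ j
      rw [hAB, hr, map_smul, LinearMap.smul_apply]
      exact (D.S (σ j)).smul_mem r D.mem_S
    · obtain ⟨g, hgG, hfix, hpres, ⟨w, hw, hw0, hgw⟩, v, hv, hgv⟩ := hmid
      have hgK : g ∈ Cfsg.Geo.decompositionStabilizer D.S := D.mem_stab (σ := 1) fun j x hx => by
        by_cases hj : j = j0
        · subst hj; exact hpres x hx
        · rw [hfix j hj x hx]; exact hx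
      obtain ⟨hgT, -⟩ := hle ⟨hgK, hgG⟩
      obtain ⟨A, B, hAB⟩ := hact g hgT
      obtain ⟨u0, v0, huv⟩ : ∃ u v, D.φ₂ u v ≠ 0 := by
        by_contra! h
        have := D.sep (Pi.single ⟨0, D.lpos⟩ 1) fun w => h _ w
        simpa using congrFun this ⟨0, D.lpos⟩
      have hne : D.φ₂ ((B : Matrix (Fin D.l) (Fin D.l) F) *ᵥ u0) ((B : Matrix (Fin D.l) (Fin D.l) F) *ᵥ v0) ≠ 0 := by
        intro h
        have := D.inv g hgG (D.t (D.a j0) u0) (D.t (D.a j0) v0)
        rw [hAB, hAB, D.form, D.form, h, mul_zero] at this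
        exact mul_ne_zero (mul_ne_zero D.hc (D.diag j0)) huv this.symm
      obtain ⟨σ, hσ⟩ := D.monomial A ⟨D.φ₂ u0 v0 /
        D.φ₂ ((B : Matrix (Fin D.l) (Fin D.l) F) *ᵥ u0) ((B : Matrix (Fin D.l) (Fin D.l) F) *ᵥ v0), fun x y => by
          have h := D.inv g hgG (D.t x u0) (D.t y v0)
          rw [hAB, hAB, D.form, D.form, mul_assoc, mul_assoc] at h
          rw [div_mul_eq_mul_div, eq_div_iff hne, mul_left_cancel₀ D.hc h, mul_comm]⟩
      obtain ⟨r0, -, hr0⟩ := hσ j0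
      obtain ⟨r1, -, hr1⟩ := hσ j1
      obtain ⟨uw, rfl⟩ := hw
      obtain ⟨uv, rfl⟩ := hv
      have hu1 : D.t (D.a j1) uw ≠ 0 := fun h => hw0 (by
        rw [D.injective_t j1 (h.trans (map_zero _).symm), map_zero])
      have e0 : σ j0 = j0 := by
        by_contra hne'
        rw [hAB, hr0] at hgw
        exact hw0 (D.zero_of_scaled hne' hgw)
      have e1 : σ j1 = j1 := by
        by_contra hne'
        have h := hfix j1 (Ne.symm h01) _ (D.mem_S (u := uw))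
        rw [hAB, hr1] at h
        exact hu1 (D.zero_of_scaled hne' h)
      rw [e0] at hr0
      rw [e1] at hr1
      have hB : ∀ u, r1 • ((B : Matrix (Fin D.l) (Fin D.l) F) *ᵥ u) = u := fun u => by
        refine D.injective_t j1 ?_
        have h := hfix j1 (Ne.symm h01) _ (D.mem_S (u := u))
        rw [hAB, hr1, map_smul, LinearMap.smul_apply] at h
        rw [map_smul]
        exact h
      have hr1' : r1 ≠ 0 := fun h => hw0 (by
        have := hB uw
        rw [h, zero_smul] at this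
        rw [← this, map_zero])
      have hB' : ∀ u, (B : Matrix (Fin D.l) (Fin D.l) F) *ᵥ u = r1⁻¹ • u := fun u => by
        rw [← hB u, smul_smul, inv_mul_cancel₀ hr1', one_smul, hB u]
      have hscal : ∀ u, (g : Matrix ι ι F) *ᵥ D.t (D.a j0) u = (r0 * r1⁻¹) • D.t (D.a j0) u := fun u => by
        rw [hAB, hr0, hB', map_smul, map_smul, LinearMap.smul_apply, smul_smul, mul_comm]
      rw [hscal] at hgw hgv
      have h1 : r0 * r1⁻¹ = 1 := smul_left_injective F hw0 (hgw.trans (one_smul F _).symm)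
      exact hgv (by rw [h1, one_smul])
  · refine lt_of_le_not_ge inf_le_right fun hle => ?_
    obtain ⟨g, hgG, ⟨w, hw, hw0, hgw⟩, v, hv, hgv⟩ := htop
    obtain ⟨⟨σ, hσ⟩, -⟩ := hle hgG
    have hmem : ∀ x ∈ D.S j0, (g : Matrix ι ι F) *ᵥ x ∈ D.S (σ j0) := fun x hx => by
      rw [← hσ j0, ← Matrix.toLin'_apply]
      exact Submodule.mem_map_of_mem hx
    have e : σ j0 = j0 := by
      by_contra hne
      exact hw0 (D.disjoint hne (by have := hmem w hw; rwa [hgw] at this) hw)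
    have := hmem v hv
    rw [e] at this
    exact hgv this

end Framed

end Cfsg.Agent.H99
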