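import Mathlib
import Cfsg.Agent.H99.FrameThree
import Cfsg.Agent.H99.TensorBlocks

set_option autoImplicit false

/-!
Symmetric bilinear forms in dimension three over the field with three elements: similitudes are monomial
in a frame.
-/

namespace Cfsg.Agent.H99

open QuadraticMap Module Matrix Cfsg.Agent.Orthogonal

variable {F : Type*} [Field F] [Fintype F]

theorem gram_eq {κ : Type} [Fintype κ] [DecidableEq κ] {f : (κ → F) → (κ → F) → F}
    (hf : Cfsg.Geo.IsBilinearForm f) (a b : κ → F) :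
    Cfsg.Geo.formOfGram id (Cfsg.Geo.gramMatrix f) a b = f a b := Cfsg.Agent.H96.sum_gram hf a b

theorem symm_three_frame (hq : Fintype.card F = 3) {f : (Fin 3 → F) → (Fin 3 → F) → F}
    (hf : Cfsg.Geo.IsSymmetricForm f) :
    ∃ a : Fin 3 → Fin 3 → F, (∀ j, f (a j) (a j) ≠ 0) ∧ (∀ i j, i ≠ j → f (a i) (a j) = 0) ∧
      ∀ A : GL (Fin 3) F,
        (∃ μ : F, ∀ x y, f ((A : Matrix (Fin 3) (Fin 3) F) *ᵥ x) ((A : Matrix (Fin 3) (Fin 3) F) *ᵥ y) = μ * f x y) →
        ∃ σ : Equiv.Perm (Fin 3), ∀ j, ∃ r : F, r ≠ 0 ∧ (A : Matrix (Fin 3) (Fin 3) F) *ᵥ a j = r • a (σ j) := by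
  classical
  have hb := hf.bilinear
  let φ : (Fin 3 → F) →ₗ[F] (Fin 3 → F) →ₗ[F] F :=
    LinearMap.mk₂ F f hb.add_left hb.smul_left hb.add_right (fun c v x => hb.smul_right c v x)
  let Q : QuadraticForm F (Fin 3 → F) := LinearMap.BilinMap.toQuadraticMap φ
  have hQ : ∀ x, Q x = f x x := fun x => rfl
  have hpol : ∀ x y, polar Q x y = 2 * f x y := fun x y => by
    rw [QuadraticMap.polar, hQ, hQ, hQ, hb.add_left, hb.add_right, hb.add_right, hf.symm y x]; ring
  have hnd : Nondeg (restr Q (⊤ : Submodule F (Fin 3 → F))) := fun x hx => by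
    by_contra hne
    obtain ⟨-, y, hy⟩ := hf.nondegenerate x fun h => hne (Subtype.ext h)
    have := hx ⟨y, trivial⟩
    rw [polar_restr, hpol] at this
    exact hy ((mul_eq_zero.1 this).resolve_left (two_ne hq))
  have h3 : finrank F (⊤ : Submodule F (Fin 3 → F)) = 3 := by rw [finrank_top, Module.finrank_fin_fun]
  obtain ⟨c, a, hc, hm, hQa, ho⟩ := solid_frame hq hnd h3
  have hfa : ∀ j, f (a j) (a j) = c := hQa
  have hoa : ∀ i j, i ≠ j → f (a i) (a j) = 0 := fun i j h =>
    (mul_eq_zero.1 ((hpol _ _).symm.trans (ho i j h))).resolve_left (two_ne hq)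
  refine ⟨a, fun j => by rw [hfa]; exact hc, hoa, fun A ⟨μ, hA⟩ => ?_⟩
  -- the multiplier is one
  set M := (A : Matrix (Fin 3) (Fin 3) F) with hM
  set g := Cfsg.Geo.gramMatrix f with hg
  have hmat : Mᵀ * g * M = μ • g := by
    ext i j
    rw [Matrix.smul_apply, smul_eq_mul, hg]
    show _ = μ * f (Pi.single i 1) (Pi.single j 1)
    rw [← hA, ← Cfsg.Agent.H96.sum_gram hb, Matrix.mul_apply, Finset.sum_comm]
    refine Finset.sum_congr rfl fun y _ => ?_
    rw [Matrix.mul_apply, Finset.sum_mul]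
    refine Finset.sum_congr rfl fun x _ => ?_
    simp [Matrix.mulVec_single]
  have hgd : g.det ≠ 0 := by
    intro h
    obtain ⟨v, hv0, hv⟩ := Matrix.exists_mulVec_eq_zero_iff.2 h
    obtain ⟨⟨x, hx⟩, -⟩ := hf.nondegenerate v hv0
    apply hx
    rw [← Cfsg.Agent.H96.sum_gram hb]
    refine Finset.sum_eq_zero fun i _ => ?_
    simp only [mul_assoc, ← Finset.mul_sum]
    rw [show ∑ j, Cfsg.Geo.gramMatrix f i j * v j = 0 from congrFun hv i, mul_zero]
  have hMd : M.det ≠ 0 := ((Matrix.isUnit_iff_isUnit_det _).1 A.isUnit).ne_zero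
  have hμ : μ = 1 := by
    have h := congrArg Matrix.det hmat
    rw [Matrix.det_mul, Matrix.det_mul, Matrix.det_transpose, Matrix.det_smul, Fintype.card_fin] at h
    have h2 : M.det * M.det = μ ^ 3 := mul_right_cancel₀ hgd (by linear_combination h)
    have h1 : M.det * M.det = 1 := by rcases cases_three hq M.det with e | e | e <;> simp_all
    rcases cases_three hq μ with e | e | e
    · rw [h1, e] at h2; simp at h2
    · exact e
    · exfalso
      rw [h1, e] at h2
      exact two_ne hq (by linear_combination h2)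
  have hinj : ∀ x y, M *ᵥ x = M *ᵥ y → x = y := fun x y h => by
    have := congrArg (fun z => ((A⁻¹ : GL (Fin 3) F) : Matrix (Fin 3) (Fin 3) F) *ᵥ z) h
    simpa [hM, Matrix.mulVec_mulVec, ← Units.val_mul] using this
  have hex : ∀ j, ∃ l : Fin 3, ∃ r : F, r ≠ 0 ∧ M *ᵥ a j = r • a l := by
    intro j
    obtain ⟨l, hl⟩ := eq_frame hq le_rfl hc h3 hm hQa ho (v := M *ᵥ a j) trivial
      (by rw [hQ, hA, hμ, hfa, one_mul])
    rcases hl with hl | hl
    · exact ⟨l, 1, one_ne_zero, by rw [hl, one_smul]⟩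
    · exact ⟨l, -1, by simp, by rw [hl, neg_one_smul]⟩
  choose s r hr hs using hex
  have hsinj : Function.Injective s := by
    intro i j hij
    by_contra hne
    have h := hA (a i) (a j)
    rw [hoa i j hne, mul_zero, hs, hs, hij, hb.smul_left, hb.smul_right, hfa] at h
    exact mul_ne_zero (hr i) (mul_ne_zero (hr j) hc) h
  exact ⟨Equiv.ofBijective s (Finite.injective_iff_bijective.1 hsinj), fun j => ⟨r j, hr j, hs j⟩⟩

end Cfsg.Agent.H99
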