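import Mathlib
import Cfsg.Agent.H99.SquareScalar

/-! Isometries with scalar square of an alternating form permute orthogonal hyperbolic planes. -/

set_option autoImplicit false

namespace Cfsg.Agent.H99

variable {F V : Type*} [Field F] [AddCommGroup V] [Module F V]

/-- Hyperbolic planes `v i, w i` indexed by `ι`, permuted by `X` according to `σ`. -/
structure PlaneSys (B : LinearMap.BilinForm F V) (X : Module.End F V) {ι : Type} [DecidableEq ι] (σ : ι → ι) (v w : ι → V) : Prop where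
  vw : ∀ i j, B (v i) (w j) = if i = j then 1 else 0
  wv : ∀ i j, B (w i) (v j) = if i = j then -1 else 0
  vv : ∀ i j, B (v i) (v j) = 0
  ww : ∀ i j, B (w i) (w j) = 0
  mapv : ∀ i, X (v i) ∈ Submodule.span F {v (σ i), w (σ i)}
  mapw : ∀ i, X (w i) ∈ Submodule.span F {v (σ i), w (σ i)}

variable {B : LinearMap.BilinForm F V} {X : Module.End F V}

theorem PlaneSys.sum {ι κ : Type} [DecidableEq ι] [DecidableEq κ] {σ : ι → ι} {τ : κ → κ} {v w : ι → V} {v' w' : κ → V}
    (h : PlaneSys B X σ v w) (h' : PlaneSys B X τ v' w') (hA : B.IsAlt)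
    (ho : ∀ i j, B (v i) (v' j) = 0 ∧ B (v i) (w' j) = 0 ∧ B (w i) (v' j) = 0 ∧ B (w i) (w' j) = 0) :
    PlaneSys B X (Sum.map σ τ) (Sum.elim v v') (Sum.elim w w') := by
  have sw : ∀ a b, B a b = 0 → B b a = 0 := fun a b hab => by rw [← hA.neg_eq a b, hab, neg_zero]
  refine ⟨?_, ?_, ?_, ?_, ?_, ?_⟩
  · rintro (i | i) (j | j) <;> simp [h.vw, h'.vw, (ho _ _).2.1, sw _ _ (ho _ _).2.2.1]
  · rintro (i | i) (j | j) <;> simp [h.wv, h'.wv, (ho _ _).2.2.1, sw _ _ (ho _ _).2.1]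
  · rintro (i | i) (j | j) <;> simp [h.vv, h'.vv, (ho _ _).1, sw _ _ (ho _ _).1]
  · rintro (i | i) (j | j) <;> simp [h.ww, h'.ww, (ho _ _).2.2.2, sw _ _ (ho _ _).2.2.2]
  · rintro (i | i) <;> simp [h.mapv, h'.mapv]
  · rintro (i | i) <;> simp [h.mapw, h'.mapw]

theorem PlaneSys.comp {ι κ : Type} [DecidableEq ι] [DecidableEq κ] {σ : ι → ι} {τ : κ → κ} {v w : ι → V}
    (h : PlaneSys B X σ v w) (e : κ ≃ ι) (he : ∀ i, e (τ i) = σ (e i)) : PlaneSys B X τ (v ∘ e) (w ∘ e) := by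
  refine ⟨fun i j => ?_, fun i j => ?_, fun i j => h.vv _ _, fun i j => h.ww _ _, fun i => ?_, fun i => ?_⟩
  · simp [h.vw, e.injective.eq_iff]
  · simp [h.wv, e.injective.eq_iff]
  · simpa [he] using h.mapv (e i)
  · simpa [he] using h.mapw (e i)

theorem PlaneSys.linearIndependent {ι : Type} [Fintype ι] [DecidableEq ι] {σ : ι → ι} {v w : ι → V}
    (h : PlaneSys B X σ v w) : LinearIndependent F (Sum.elim v w) := by
  rw [Fintype.linearIndependent_iff]
  intro a ha
  have k1 : ∀ j, a (Sum.inl j) = 0 := by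
    intro j
    have := congrArg (fun u => B u (w j)) ha
    simpa [h.vw, h.ww] using this
  have k2 : ∀ j, a (Sum.inr j) = 0 := by
    intro j
    have := congrArg (fun u => B (v j) u) ha
    simpa [h.vw, h.vv] using this
  rintro (j | j)
  exacts [k1 j, k2 j]

/-- An isometry with scalar square of a nondegenerate alternating form permutes the planes of a hyperbolic basis. -/
theorem exists_planeSys [FiniteDimensional F V] (hA : B.IsAlt) (hB : ∀ u, (∀ t, B u t = 0) → u = 0)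
    (hX : ∀ u t, B (X u) (X t) = B u t) (z : F) (hz : z ≠ 0) (hXX : ∀ u, X (X u) = z • u) :
    ∃ (k l : ℕ) (v w : PairIdx k l → V), PlaneSys B X (pairFlip (k := k) (l := l)) v w ∧
      Submodule.span F (Set.range (Sum.elim v w)) = ⊤ := by
  classical
  let Q : ℕ → Prop := fun N => ∃ (k l : ℕ) (v w : PairIdx k l → V),
    2 * k + l = N ∧ PlaneSys B X (pairFlip (k := k) (l := l)) v w
  have hQ0 : Q 0 := by
    refine ⟨0, 0, fun _ => 0, fun _ => 0, rfl, ⟨?_, ?_, ?_, ?_, ?_, ?_⟩⟩ <;>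
      rintro (⟨i, _⟩ | i) <;> exact i.elim0
  have hbound : ∀ N, Q N → N ≤ Module.finrank F V := by
    rintro N ⟨k, l, v, w, hN, h⟩
    have := h.linearIndependent.fintype_card_le_finrank
    simp [PairIdx] at this
    omega
  set M := Nat.findGreatest Q (Module.finrank F V)
  obtain ⟨k, l, v, w, hM, h⟩ : Q M := Nat.findGreatest_spec (Nat.zero_le _) hQ0
  refine ⟨k, l, v, w, h, ?_⟩
  by_contra hne
  -- the orthogonal complement
  let W : Set V := {u | ∀ i, B (v i) u = 0 ∧ B (w i) u = 0}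
  have swz : ∀ a b, B a b = 0 → B b a = 0 := fun a b hab => by rw [← hA.neg_eq a b, hab, neg_zero]
  let pr : V → V := fun u => u + ∑ i, B (w i) u • v i - ∑ i, B (v i) u • w i
  have hpr : ∀ u, pr u ∈ W := by
    intro u i
    simp [pr, h.vw, h.vv, h.wv, h.ww, -Fintype.sum_sum_type]
  have hprB : ∀ a ∈ W, ∀ u, B a (pr u) = B a u := by
    intro a ha u
    simp [pr, swz _ _ (ha _).1, swz _ _ (ha _).2, -Fintype.sum_sum_type]
  obtain ⟨u0, hu0W, hu0⟩ : ∃ u ∈ W, u ≠ 0 := by
    by_contra hno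
    push Not at hno
    apply hne
    rw [eq_top_iff]
    intro u _
    have h1 := hno _ (hpr u)
    rw [show u = pr u + (∑ i, B (v i) u • w i - ∑ i, B (w i) u • v i) by simp only [pr]; abel, h1, zero_add]
    exact Submodule.sub_mem _ (Submodule.sum_mem _ fun i _ => Submodule.smul_mem _ _ (Submodule.subset_span ⟨Sum.inr i, rfl⟩))
      (Submodule.sum_mem _ fun i _ => Submodule.smul_mem _ _ (Submodule.subset_span ⟨Sum.inl i, rfl⟩))
  have hnd : ∀ a ∈ W, a ≠ 0 → ∃ b ∈ W, B a b = 1 := by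
    intro a ha ha0
    obtain ⟨t, ht⟩ : ∃ t, B a t ≠ 0 := by
      by_contra hno
      push Not at hno
      exact ha0 (hB a hno)
    refine ⟨pr ((B a t)⁻¹ • t), hpr _, ?_⟩
    rw [hprB a ha, map_smul, smul_eq_mul, inv_mul_cancel₀ ht]
  have hWX : ∀ a ∈ W, X a ∈ W := by
    intro a ha i
    have hspan : ∀ b ∈ Submodule.span F {v (pairFlip i), w (pairFlip i)}, B b a = 0 := by
      intro b hb
      obtain ⟨c, d, rfl⟩ := Submodule.mem_span_pair.1 hb
      simp [(ha _).1, (ha _).2]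
    refine ⟨?_, ?_⟩
    · have h1 := hX (X (v i)) a
      rw [hXX, hspan _ (h.mapv i)] at h1
      simpa [hz] using h1
    · have h1 := hX (X (w i)) a
      rw [hXX, hspan _ (h.mapw i)] at h1
      simpa [hz] using h1
  -- extension by new planes inside the complement
  have extend : ∀ (k' l' : ℕ) (v' w' : PairIdx k' l' → V), 0 < 2 * k' + l' →
      PlaneSys B X (pairFlip (k := k') (l := l')) v' w' → (∀ j, v' j ∈ W ∧ w' j ∈ W) → False := by
    intro k' l' v' w' hpos h' hW'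
    have hsum := h.sum h' hA (fun i j => ⟨((hW' j).1 i).1, ((hW' j).2 i).1, ((hW' j).1 i).2, ((hW' j).2 i).2⟩)
    let e : PairIdx k l ⊕ PairIdx k' l' ≃ PairIdx (k + k') (l + l') :=
      (Equiv.sumSumSumComm _ _ _ _).trans
        (Equiv.sumCongr ((Equiv.sumProdDistrib _ _ _).symm.trans (Equiv.prodCongr finSumFinEquiv (Equiv.refl _)))
          finSumFinEquiv)
    have he : ∀ i, pairFlip (e i) = e (Sum.map pairFlip pairFlip i) := by
      rintro ((⟨i, b⟩ | i) | (⟨i, b⟩ | i)) <;> rfl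
    have hnew := hsum.comp e.symm (τ := pairFlip) (fun i => by
      obtain ⟨i, rfl⟩ := e.surjective i
      rw [he, Equiv.symm_apply_apply, Equiv.symm_apply_apply])
    have hQ' : Q (2 * (k + k') + (l + l')) := ⟨_, _, _, _, rfl, hnew⟩
    have := Nat.le_findGreatest (hbound _ hQ') hQ'
    omega
  -- one fixed plane
  have fixed : ∀ a ∈ W, ∀ b ∈ W, B a b = 1 → X a ∈ Submodule.span F {a, b} → X b ∈ Submodule.span F {a, b} → False := by
    intro a ha b hb hab hXa hXb
    refine extend 0 1 (fun _ => a) (fun _ => b) (by omega) ⟨?_, ?_, ?_, ?_, fun _ => hXa, fun _ => hXb⟩ fun _ => ⟨ha, hb⟩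
    · rintro (⟨i, _⟩ | i) (⟨j, _⟩ | j) <;> first | exact i.elim0 | exact j.elim0 | simp [hab, Subsingleton.elim i j]
    · rintro (⟨i, _⟩ | i) (⟨j, _⟩ | j) <;> first | exact i.elim0 | exact j.elim0 | simp [← hA.neg_eq a b, hab, Subsingleton.elim i j]
    · intro i j; exact hA.self_eq_zero a
    · intro i j; exact hA.self_eq_zero b
  by_cases hcA : ∃ a ∈ W, B a (X a) ≠ 0
  · obtain ⟨a, ha, hne'⟩ := hcA
    set c := B a (X a)
    refine fixed a ha (c⁻¹ • X a) (fun i => by simp [(hWX a ha i).1, (hWX a ha i).2]) (by simp [c, hne']) ?_ ?_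
    · exact Submodule.mem_span_pair.2 ⟨0, c, by simp [smul_smul, c, hne']⟩
    · exact Submodule.mem_span_pair.2 ⟨c⁻¹ * z, 0, by simp [hXX, smul_smul]⟩
  push Not at hcA
  have hpol : ∀ a ∈ W, ∀ b ∈ W, B a (X b) + B b (X a) = 0 := by
    intro a ha b hb
    have := hcA (a + b) (fun i => by simp [(ha i).1, (ha i).2, (hb i).1, (hb i).2])
    simpa [hcA a ha, hcA b hb] using this
  by_cases hcB : ∃ a ∈ W, ∃ b ∈ W, B a b ≠ 0 ∧ B a (X b) = 0
  · obtain ⟨a, ha, b, hb, hab, haXb⟩ := hcB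
    set b' := (B a b)⁻¹ • b with hb'
    have hb'W : b' ∈ W := fun i => by simp [hb', (hb i).1, (hb i).2]
    have hab' : B a b' = 1 := by simp [hb', hab]
    have haXb' : B a (X b') = 0 := by simp [hb', haXb]
    have hbXa : B b' (X a) = 0 := by simpa [haXb'] using hpol a ha b' hb'W
    refine extend 1 0 (Sum.elim (fun i => if i.2 then X a else a) finZeroElim) (Sum.elim (fun i => if i.2 then X b' else b') finZeroElim)
      (by omega) ⟨?_, ?_, ?_, ?_, ?_, ?_⟩ ?_
    · rintro (⟨i, ⟨⟩⟩ | i) (⟨j, ⟨⟩⟩ | j) <;> first | exact i.elim0 | exact j.elim0 |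
        simp [hab', haXb', hX, swz _ _ hbXa, Subsingleton.elim i j]
    · rintro (⟨i, ⟨⟩⟩ | i) (⟨j, ⟨⟩⟩ | j) <;> first | exact i.elim0 | exact j.elim0 |
        simp [← hA.neg_eq a b', hab', hbXa, hX, swz _ _ haXb', Subsingleton.elim i j]
    · rintro (⟨i, ⟨⟩⟩ | i) (⟨j, ⟨⟩⟩ | j) <;> first | exact i.elim0 | exact j.elim0 |
        simp [hA.self_eq_zero, hX, hcA a ha, swz _ _ (hcA a ha)]
    · rintro (⟨i, ⟨⟩⟩ | i) (⟨j, ⟨⟩⟩ | j) <;> first | exact i.elim0 | exact j.elim0 |
        simp [hA.self_eq_zero, hX, hcA b' hb'W, swz _ _ (hcA b' hb'W)]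
    · rintro (⟨i, ⟨⟩⟩ | i)
      · exact Submodule.subset_span (by simp [pairFlip])
      · exact Submodule.mem_span_pair.2 ⟨z, 0, by simp [pairFlip, hXX]⟩
      · exact i.elim0
    · rintro (⟨i, ⟨⟩⟩ | i)
      · exact Submodule.subset_span (by simp [pairFlip])
      · exact Submodule.mem_span_pair.2 ⟨0, z, by simp [pairFlip, hXX]⟩
      · exact i.elim0
    · rintro (⟨i, ⟨⟩⟩ | i)
      · exact ⟨ha, hb'W⟩
      · exact ⟨hWX a ha, hWX b' hb'W⟩
      · exact i.elim0
  push Not at hcB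
  have heig : ∀ a ∈ W, ∃ c : F, a = c • X a := by
    intro a ha
    by_cases ha0 : a = 0
    · exact ⟨0, by simp [ha0]⟩
    have hXa0 : X a ≠ 0 := fun h0 => ha0 (by
      have h1 := hXX a; rw [h0, map_zero] at h1
      exact (smul_eq_zero.1 h1.symm).resolve_left hz)
    obtain ⟨t0, ht0W, ht0⟩ := hnd (X a) (hWX a ha) hXa0
    refine ⟨B a t0, sub_eq_zero.1 (hB _ fun t => ?_)⟩
    have hsubW : a - B a t0 • X a ∈ W := fun i => by simp [(ha i).1, (ha i).2, (hWX a ha i).1, (hWX a ha i).2]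
    rw [← hprB _ hsubW]
    set t' := pr t - B (X a) (pr t) • t0 with ht'
    have ht'W : t' ∈ W := fun i => by simp [ht', (hpr t i).1, (hpr t i).2, (ht0W i).1, (ht0W i).2]
    have h1 : B a (X t') = 0 := by
      have h2 : B (X a) t' = 0 := by simp [ht', ht0]
      have h3 := hpol a ha t' ht'W
      rw [swz _ _ h2, add_zero] at h3
      exact h3
    have h4 : B a t' = 0 := by
      by_contra h5
      exact (hcB a ha t' ht'W h5) h1
    simp [ht'] at h4
    simp only [map_sub, LinearMap.sub_apply, map_smul, LinearMap.smul_apply, smul_eq_mul]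
    linear_combination h4
  obtain ⟨b0, hb0W, hb0⟩ := hnd u0 hu0W hu0
  have hspan : ∀ a ∈ W, X a ∈ Submodule.span F {a} := by
    intro a ha
    obtain ⟨c, hc⟩ := heig a ha
    by_cases hc0 : c = 0
    · rw [hc0, zero_smul] at hc; simp [hc]
    · exact Submodule.mem_span_singleton.2 ⟨c⁻¹, by nth_rewrite 1 [hc]; rw [inv_smul_smul₀ hc0]⟩
  exact fixed u0 hu0W b0 hb0W hb0 (Submodule.span_mono (by simp) (hspan u0 hu0W)) (Submodule.span_mono (by simp) (hspan b0 hb0W))

end Cfsg.Agent.H99
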