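import Mathlib

/-!
Elements of prime order commuting with a nonzero nilpotent map: their order divides some
`q ^ j - 1` with `j ≤ n - 2` (for `n ≥ 3`) or is the characteristic.
-/

namespace Cfsg.Agent.H99

open Module

variable {F : Type*} [Field F] {V : Type*} [AddCommGroup V] [Module F V]

/-- A unipotent element of order prime to the characteristic is trivial. -/
lemma eq_one_of_pow_eq_one_of_isNilpotent (g : End F V) {r : ℕ} (hr : (r : F) ≠ 0) (hg : g ^ r = 1)
    (hn : IsNilpotent (g - 1)) : g = 1 := by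
  obtain ⟨k, hk⟩ := hn
  set M := g - 1 with hM
  obtain ⟨T, hT⟩ : ∃ T, Commute M T ∧ (∑ i ∈ Finset.range r, g ^ i) = (r : F) • 1 + M * T := by
    refine ⟨∑ i ∈ Finset.range r, ∑ j ∈ Finset.range i, g ^ j, ?_, ?_⟩
    · refine Commute.sum_right _ _ _ fun i _ => Commute.sum_right _ _ _ fun j _ => ?_
      exact ((Commute.refl g).sub_left (Commute.one_left g)).pow_right j
    · rw [Finset.mul_sum]
      simp only [hM, mul_geom_sum, Finset.sum_sub_distrib, Finset.sum_const, Finset.card_range,
        Nat.cast_smul_eq_nsmul]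
      abel
  have h0 : (r : F) • M + M * (M * T) = 0 := by
    have := mul_geom_sum g r
    rw [hg, sub_self, ← hM, hT.2, mul_add, mul_smul_comm, mul_one] at this
    exact this
  have key : ∀ j, ∃ C : End F V, M = M ^ (j + 1) * C := by
    intro j
    induction j with
    | zero => exact ⟨1, by simp⟩
    | succ j ih =>
      obtain ⟨C, hC⟩ := ih
      have h1 : M = M * (M * ((-(r : F)⁻¹) • T)) := by
        rw [mul_smul_comm, mul_smul_comm, neg_smul, eq_neg_iff_add_eq_zero]
        have h2 := congrArg (fun x : End F V => (r : F)⁻¹ • x) h0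
        simp only [smul_add, smul_zero, smul_smul, inv_mul_cancel₀ hr, one_smul] at h2
        exact h2
      set U := (-(r : F)⁻¹) • T
      have hU : Commute M U := hT.1.smul_right _
      refine ⟨U * C, ?_⟩
      calc M = M ^ (j + 1) * C := hC
        _ = M ^ j * (M * (M * U)) * C := by rw [← h1, ← pow_succ]
        _ = M ^ (j + 1 + 1) * (U * C) := by
          rw [pow_succ, pow_succ]; simp only [mul_assoc]
  obtain ⟨C, hC⟩ := key k
  rw [pow_succ, hk, zero_mul, zero_mul] at hC
  exact sub_eq_zero.mp hC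

/-- A nontrivial map of prime order `r` on a space of dimension `d`. -/
lemma exists_dvd_pow_sub_one [Fintype F] [FiniteDimensional F V] (h : End F V) {r : ℕ} (hrp : r.Prime)
    (hh : h ^ r = 1) (hne : h ≠ 1) (hrq : ¬ r ∣ Fintype.card F) :
    ∃ j, 1 ≤ j ∧ j ≤ finrank F V ∧ r ∣ Fintype.card F ^ j - 1 := by
  classical
  haveI : Fact r.Prime := ⟨hrp⟩
  set e := LinearMap.toMatrixAlgEquiv (finBasis F V)
  have hP : (e h) ^ r = 1 := by rw [← map_pow, hh, map_one]
  obtain ⟨u, hu⟩ := IsUnit.of_pow_eq_one hP hrp.ne_zero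
  have hu1 : orderOf u = r := by
    refine orderOf_eq_prime (Units.ext (by rw [Units.val_pow_eq_pow_val, hu, hP, Units.val_one]))
      fun h1 => hne ?_
    refine e.injective ?_
    rw [map_one, ← hu, h1, Units.val_one]
  have hd : r ∣ Nat.card (GL (Fin (finrank F V)) F) := by
    rw [← hu1]; exact orderOf_dvd_natCard u
  rw [Matrix.card_GL_field, Prime.dvd_finsetProd_iff hrp.prime] at hd
  obtain ⟨i, -, hi⟩ := hd
  refine ⟨finrank F V - i, by omega, by omega, ?_⟩
  have e1 : Fintype.card F ^ finrank F V - Fintype.card F ^ (i : ℕ) =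
      Fintype.card F ^ (i : ℕ) * (Fintype.card F ^ (finrank F V - i) - 1) := by
    rw [Nat.mul_sub, ← pow_add, mul_one, Nat.add_sub_cancel' i.isLt.le]
  rw [e1] at hi
  exact (hrp.dvd_mul.mp hi).resolve_left fun h' => hrq (hrp.dvd_of_dvd_pow h')

lemma restrict_pow (g : End F V) (W : Submodule F V) (h : ∀ w ∈ W, g w ∈ W) {r : ℕ} (hg : g ^ r = 1) :
    (g.restrict h : End F W) ^ r = 1 := by
  have key : ∀ (m : ℕ) (w : W), (((g.restrict h : End F W) ^ m) w : V) = (g ^ m) (w : V) := by
    intro m
    induction m with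
    | zero => intro w; rfl
    | succ m ih => intro w; rw [pow_succ, Module.End.mul_apply, ih, pow_succ]; rfl
  ext w
  rw [key, hg]
  rfl

/-- Elements of prime order commuting with a nonzero nilpotent map. -/
theorem exists_dvd_of_commute_nilpotent [Fintype F] [FiniteDimensional F V] (N g : End F V)
    (hN : IsNilpotent N) (hN0 : N ≠ 0) (hc : Commute N g) {r : ℕ} (hrp : r.Prime) (hg : g ^ r = 1)
    (hne : g ≠ 1) (hrq : ¬ r ∣ Fintype.card F) (hn : 3 ≤ finrank F V) :
    ∃ j, 1 ≤ j ∧ j ≤ finrank F V - 2 ∧ r ∣ Fintype.card F ^ j - 1 := by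
  classical
  by_contra! H
  have hr : (r : F) ≠ 0 := by
    obtain ⟨p, hp⟩ := CharP.exists F
    obtain ⟨m, hpp, hm⟩ := FiniteField.card F p
    intro h
    have h1 : p = r := (Nat.prime_dvd_prime_iff_eq hpp hrp).mp ((CharP.cast_eq_zero_iff F p r).mp h)
    exact hrq (hm ▸ h1 ▸ dvd_pow_self p m.ne_zero)
  have htriv : ∀ (W : Type _) [AddCommGroup W] [Module F W] [FiniteDimensional F W],
      finrank F W ≤ finrank F V - 2 → ∀ h : End F W, h ^ r = 1 → h = 1 := by
    intro W _ _ _ hW h hh
    by_contra h1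
    obtain ⟨j, h1j, hj, hd⟩ := exists_dvd_pow_sub_one h hrp hh h1 hrq
    exact H j h1j (le_trans hj hW) hd
  obtain ⟨k0, hk0⟩ := hN
  -- trivial on the kernel implies unipotent
  have fin1 : (∀ v, N v = 0 → g v = v) → False := by
    intro hker
    refine hne (eq_one_of_pow_eq_one_of_isNilpotent g hr hg ⟨k0, ?_⟩)
    suffices ∀ k v, (N ^ k) v = 0 → ((g - 1) ^ k) v = 0 from LinearMap.ext fun v => this k0 v (by rw [hk0]; rfl)
    intro k
    induction k with
    | zero => intro v hv; simpa using hv
    | succ k ih =>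
      intro v hv
      rw [pow_succ, Module.End.mul_apply]
      refine ih _ ?_
      have hw : N ((N ^ k) v) = 0 := by rw [← Module.End.mul_apply, ← pow_succ']; exact hv
      have h2 := hker _ hw
      have h3 : (N ^ k) (g v) = g ((N ^ k) v) := congrArg (fun f : End F V => f v) (hc.pow_left k).eq
      rw [LinearMap.sub_apply, Module.End.one_apply, map_sub, h3, h2, sub_self]
  have hinv : ∀ v, N v = 0 → N (g v) = 0 := fun v hv => by
    have : N (g v) = g (N v) := congrArg (fun f : End F V => f v) hc.eq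
    rw [this, hv, map_zero]
  let K := LinearMap.ker N
  by_cases hK : finrank F K ≤ finrank F V - 2
  · refine fin1 fun v hv => ?_
    have h := htriv K hK (g.restrict (p := K) (q := K) fun w hw => hinv w hw) (restrict_pow g K _ hg)
    exact congrArg (fun f : End F K => ((f ⟨v, hv⟩ : K) : V)) h
  have hsum := N.finrank_range_add_finrank_ker
  have hR1 : finrank F (LinearMap.range N) = 1 := by
    have hR0 : 0 < finrank F (LinearMap.range N) :=
      Module.finrank_pos_iff.mpr ((Submodule.nontrivial_iff_ne_bot).mpr fun h =>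
        hN0 (LinearMap.range_eq_bot.mp h))
    simp only [K] at hK
    omega
  let L := LinearMap.range N
  have hgL : ∀ w ∈ L, g w ∈ L := by
    rintro _ ⟨v, rfl⟩
    exact ⟨g v, congrArg (fun f : End F V => f v) hc.eq⟩
  have hL1 : ∀ w ∈ L, g w = w := by
    intro w hw
    have h := htriv L (by rw [hR1]; omega) (g.restrict hgL) (restrict_pow g L _ hg)
    exact congrArg (fun f : End F L => ((f ⟨w, hw⟩ : L) : V)) h
  have hLK : L ≤ K := by
    rintro _ ⟨v, rfl⟩
    -- on a line, the nilpotent map is zero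
    by_contra hv
    have hv' : N (N v) ≠ 0 := hv
    obtain ⟨c, hcN⟩ : ∃ c : F, N (N v) = c • N v := by
      have hne' : (⟨N v, ⟨v, rfl⟩⟩ : L) ≠ 0 := fun h => hv' (by
        rw [show N v = 0 from congrArg Subtype.val h, map_zero])
      obtain ⟨c, hc'⟩ := (finrank_eq_one_iff_of_nonzero' _ hne').mp hR1 ⟨N (N v), ⟨N v, rfl⟩⟩
      exact ⟨c, (congrArg Subtype.val hc').symm⟩
    have hpow : ∀ k, (N ^ k) (N v) = c ^ k • N v := by
      intro k
      induction k with
      | zero => simp
      | succ k ih => rw [pow_succ', Module.End.mul_apply, ih, map_smul, hcN, smul_smul, pow_succ]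
    have h0 := hpow k0
    rw [hk0, LinearMap.zero_apply] at h0
    rcases smul_eq_zero.mp h0.symm with h1 | h1
    · exact hv' (by rw [hcN, pow_eq_zero_iff'.mp h1 |>.1, zero_smul])
    · exact hv' (by rw [h1, map_zero])
  -- the middle quotient
  let L' : Submodule F K := L.comap K.subtype
  let gK : End F K := g.restrict (p := K) (q := K) fun w hw => hinv w hw
  have hL' : L' ≤ L'.comap gK := fun w hw => hgL _ hw
  have hgK : gK ^ r = 1 := restrict_pow g K _ hg
  have hfr : finrank F (K ⧸ L') ≤ finrank F V - 2 := by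
    have h1 := L'.finrank_quotient_add_finrank
    have h2 : finrank F L' = 1 := by
      rw [(Submodule.comapSubtypeEquivOfLe hLK).finrank_eq, hR1]
    have h3 : finrank F K ≤ finrank F V := Submodule.finrank_le K
    simp only [K] at *
    omega
  have hq := htriv (K ⧸ L') hfr (L'.mapQ L' gK hL') (by
    ext w
    have key : ∀ (m : ℕ) (w : K), ((L'.mapQ L' gK hL') ^ m) (Submodule.Quotient.mk w) =
        Submodule.Quotient.mk ((gK ^ m) w) := by
      intro m
      induction m with
      | zero => intro w; rfl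
      | succ m ih =>
        intro w
        rw [pow_succ, Module.End.mul_apply, pow_succ, Module.End.mul_apply, Submodule.mapQ_apply, ih]
    rw [LinearMap.comp_apply, Submodule.mkQ_apply, key, hgK]
    rfl)
  have hK1 : ∀ v, N v = 0 → g v - v ∈ L := by
    intro v hv
    have h := congrArg (fun f : End F (K ⧸ L') => f (Submodule.Quotient.mk ⟨v, hv⟩)) hq
    simp only [Submodule.mapQ_apply, Module.End.one_apply, Submodule.Quotient.eq] at h
    exact h
  refine hne (eq_one_of_pow_eq_one_of_isNilpotent g hr hg ⟨3, ?_⟩)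
  ext v
  have h1 : N (g v - v) = 0 := by
    have : N (g v) = g (N v) := congrArg (fun f : End F V => f v) hc.eq
    rw [map_sub, this, hL1 _ ⟨v, rfl⟩, sub_self]
  have h2 := hK1 _ h1
  have h3 := hL1 _ h2
  simp only [pow_succ, pow_zero, one_mul, Module.End.mul_apply, LinearMap.sub_apply,
    Module.End.one_apply, LinearMap.zero_apply]
  rw [h3, sub_self]

end Cfsg.Agent.H99
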